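import Groth.Agent.L04.Bousfield.Reflection
import Groth.Agent.L10.SheafModGroth
import Groth.Prelude.Def_DerComp

/-!
# Existence of derived completion on a ringed site

Derived complete objects are the right orthogonal of the small family `j_{U!} O_{U,f}`, `f ∈ I(U)`.
-/

set_option autoImplicit false

universe u

open CategoryTheory CategoryTheory.Limits Opposite

attribute [local instance] HasDerivedCategory.standard

namespace Groth.L04.DerComp

variable {C : Type u} [SmallCategory C] {J : GrothendieckTopology C} (O : Sheaf J CommRingCat.{u})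

theorem hasDerCompletion (I : DerComp.IdealSh O) : DerComp.HasDerCompletion O I := by
  have : IsGrothendieckAbelian.{u} (ModSite.Mod O) := Groth.L10.shMod_isGrothendieckAbelian _
  have h : DerComp.IsDerComp O I = fun K => ∀ (p : Σ U : C, {f : O.obj.obj (op U) // f ∈ I.ideal U}) (n : ℤ),
      Subsingleton (SiteCmp.inD O ((ModSite.extZero O p.1).obj (DerComp.awayOver O p.1 p.2.1)) ⟶ K⟦n⟧) := by
    ext K
    exact ⟨fun h p n => h p.1 p.2.1 p.2.2 n, fun h U f hf n => h ⟨U, f, hf⟩ n⟩
  unfold DerComp.HasDerCompletion
  rw [h]
  exact Groth.L04.Bousfield.isRightAdjoint_ι _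

end Groth.L04.DerComp
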