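import Groth.Agent.L04.DerComp.GlobalCompletion
import Groth.Agent.L04.DerComp.Exists
import Groth.Agent.L10.DRing.CompletionFinite
import Groth.Agent.L29.DCoh.PCQCoh
import Groth.Agent.L29.DCoh.QRlim
import Groth.Agent.L29.DCoh.TildeD
import Groth.Agent.L16.SchSupport
import Groth.Agent.S1039
import Groth.Agent.S7096

/-!
# Cohomology of derived completions of pseudo-coherent objects on affine Noetherian schemes
-/

set_option autoImplicit false
set_option backward.defeqAttrib.useBackward true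
set_option backward.isDefEq.respectTransparency false

universe u

open CategoryTheory CategoryTheory.Limits CategoryTheory.Pretriangulated AlgebraicGeometry Opposite Groth.L10
  DerivedCategory

noncomputable section

attribute [local instance] HasDerivedCategory.standard

open Groth.L15.FlatCrit Groth.L15.LocPres

namespace Groth.L04.DerComp.AffineAdic

theorem cls_add {C : Type*} [Category C] [Abelian C] [HasDerivedCategory C] {T : C} {K : DerivedCategory C}
    (a b : (DerivedCategory.singleFunctor C 0).obj T ⟶ K) :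
    LocalDetect.cls (a + b) = LocalDetect.cls a + LocalDetect.cls b := by
  simp [LocalDetect.cls, Functor.map_add]

variable {X : Scheme.{u}}

/-- Restriction of a global function. -/
def res (U : X.Opens) : Γ(X, ⊤) →+* Γ(X, U) := (X.presheaf.map (homOfLE (le_top : U ≤ ⊤)).op).hom

/-- Global sections of the structure sheaf are functions. -/
def gsecEquiv (X : Scheme.{u}) : DerComp.GSec X.sheaf ≃+* Γ(X, ⊤) where
  toFun s := s.1 ⊤
  invFun a := ⟨fun U => res U a, fun U V g => by
    change (X.presheaf.map g.op).hom (res U a) = res V a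
    rw [res, res, ← CommRingCat.comp_apply, ← Functor.map_comp]
    rfl⟩
  left_inv s := Subtype.ext (funext fun U => s.2 (homOfLE le_top))
  right_inv a := by
    change (X.presheaf.map (𝟙 (op (⊤ : X.Opens)))).hom a = a
    rw [CategoryTheory.Functor.map_id]
    rfl
  map_mul' s t := rfl
  map_add' s t := rfl

theorem isNoetherianRing_gsec [IsAffine X] [IsNoetherian X] : IsNoetherianRing (DerComp.GSec X.sheaf) :=
  haveI : IsNoetherianRing Γ(X, ⊤) := IsLocallyNoetherian.component_noetherian ⟨⊤, isAffineOpen_top X⟩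
  isNoetherianRing_of_ringEquiv _ (gsecEquiv X).symm

theorem finite_free_hom [IsAffine X] [IsNoetherian X] (M : ModSite.Mod X.sheaf) (hM : Coh.IsCoh (X := X) M) :
    Module.Finite (DerComp.GSec X.sheaf) (ModSite.freeOn X.sheaf (⊤ : X.Opens) ⟶ M) := by
  have hfin : Module.Finite Γ(X, ⊤) Γ((show X.Modules from M), ⊤) :=
    Groth.L16.SchSupport.finite_sections (X := X) M hM ⟨⊤, isAffineOpen_top X⟩
  obtain ⟨S, hS⟩ := hfin.fg_top
  let V : X.Opens := ⊤
  let e := secM X.sheaf V M
  classical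
  refine ⟨⟨S.image (fun x => e.symm x), eq_top_iff.2 fun φ _ => ?_⟩⟩
  suffices key : ∀ x : Γ((show X.Modules from M), ⊤), e.symm x ∈ Submodule.span (DerComp.GSec X.sheaf)
      (↑(S.image fun x => e.symm x) : Set (ModSite.freeOn X.sheaf V ⟶ M)) by
    have := key (e φ)
    rwa [Equiv.symm_apply_apply] at this
  intro x
  have hx : x ∈ Submodule.span Γ(X, ⊤) (S : Set Γ((show X.Modules from M), ⊤)) := by
    rw [hS]
    trivial
  induction hx using Submodule.span_induction with
  | mem y hy => exact Submodule.subset_span (Finset.mem_image_of_mem _ hy)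
  | zero =>
    have h0 : e.symm 0 = 0 := e.injective (by rw [Equiv.apply_symm_apply, secM_zero])
    exact h0 ▸ Submodule.zero_mem _
  | add y z _ _ hy hz =>
    have h0 : e.symm (y + z) = e.symm y + e.symm z :=
      e.injective (by rw [Equiv.apply_symm_apply, secM_add, Equiv.apply_symm_apply, Equiv.apply_symm_apply])
    exact h0 ▸ Submodule.add_mem _ hy hz
  | smul a y _ hy =>
    have h0 : e.symm (a • y) = (gsecEquiv X).symm a • e.symm y := e.injective (by
      rw [Equiv.apply_symm_apply, DerComp.smul_def, ← mulEnd_gsec, secM_mulEnd, Equiv.apply_symm_apply]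
      exact congrArg (fun t : Γ(X, ⊤) => t • y) ((gsecEquiv X).apply_symm_apply a).symm)
    exact h0 ▸ Submodule.smul_mem _ _ hy

theorem finite_hom_unit [IsAffine X] [IsNoetherian X] (K : DerivedCategory (ModSite.Mod X.sheaf))
    (hK : ∀ m : ℤ, DCoh.IsPseudoCoherentD (X := X) m K) (p : ℤ) (Q : ModSite.Mod X.sheaf)
    (θ : ModSite.freeOn X.sheaf (⊤ : X.Opens) ≅ Q) :
    Module.Finite (DerComp.GSec X.sheaf) (SiteCmp.inD X.sheaf Q ⟶ K⟦p⟧) := by
  haveI := Groth.L29.DC.QRlim.enoughKInj X
  have hq : DCoh.IsQCohD (X := X) K := Groth.L29.DC.PCQCoh.isQCohD_of_pc hK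
  let M : ModSite.Mod X.sheaf := DCoh.HD (X := X) K p
  have hM : Coh.IsCoh (X := X) M := ((Groth.Agent.S1039.result X K hq p).1 (hK p)).1 p le_rfl
  haveI := finite_free_hom M hM
  have hq' : ∀ i : ℤ, Coh.IsQCoh (X := X) ((homologyFunctor (ModSite.Mod X.sheaf) i).obj (K⟦p⟧)) := fun i =>
    Groth.L29.DC.isQCoh_of_iso' (X := X) (hShiftIso K p i (p + i) rfl).symm (hq (p + i))
  haveI := Groth.L29.DC.TildeD.hasProducts X fun n : ℕ =>
    ((TStructure.t : Triangulated.TStructure (DCoh.D X)).truncGE (-(n : ℤ))).obj (K⟦p⟧)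
  let Q₀ : ModSite.Mod X.sheaf := Groth.L29.DC.QRlim.free X ⊤
  have hb := Groth.L29.DC.QRlim.bijective_cls (Groth.L29.DC.QRlim.isRlimVia (X := X) (E := K⟦p⟧) hq') Q₀
    fun i => Groth.L29.DC.QRlim.small_free (hq' i) (isAffineOpen_top X)
  let θ' : Q₀ ≅ Q := (FreeOn.iso X.sheaf (⊤ : X.Opens)).symm ≪≫ θ
  let f : (SiteCmp.inD X.sheaf Q₀ ⟶ K⟦p⟧) →ₗ[DerComp.GSec X.sheaf]
      (Q₀ ⟶ (homologyFunctor (ModSite.Mod X.sheaf) 0).obj (K⟦p⟧)) :=
    { toFun := LocalDetect.cls
      map_add' := fun a b => cls_add a b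
      map_smul' := fun s a => by
        rw [RingHom.id_apply]
        have h1 : s • a = (DerivedCategory.singleFunctor (ModSite.Mod X.sheaf) 0).map (s • 𝟙 Q₀) ≫ a := by
          rw [Functor.map_smul, CategoryTheory.Functor.map_id, Linear.smul_comp, Category.id_comp]
        rw [h1, LocalDetect.cls_map, Linear.smul_comp, Category.id_comp] }
  let e : (SiteCmp.inD X.sheaf Q ⟶ K⟦p⟧) ≃ₗ[DerComp.GSec X.sheaf] (ModSite.freeOn X.sheaf (⊤ : X.Opens) ⟶ M) :=
    (Linear.homCongr _ ((DerivedCategory.singleFunctor _ 0).mapIso θ'.symm) (Iso.refl (K⟦p⟧))).trans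
      ((LinearEquiv.ofBijective f hb).trans
        (Linear.homCongr _ (FreeOn.iso X.sheaf (⊤ : X.Opens)).symm (hShiftIso K p 0 p (add_zero p))))
  exact Module.Finite.equiv e.symm

/-- `O_X = j_! O_X` over the whole space. -/
def freeTopIso (X : Scheme.{u}) : ModSite.freeOn X.sheaf (⊤ : X.Opens) ≅ ModSite.unit X.sheaf where
  hom := (secM X.sheaf (⊤ : X.Opens) (ModSite.unit X.sheaf)).symm (1 : X.sheaf.obj.obj (op ⊤))
  inv := ((ModSite.freeOn X.sheaf (⊤ : X.Opens)).unitHomEquiv).symm (PresheafOfModules.sectionsMk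
    (fun V => (show ModSite.sect (ModSite.freeOn X.sheaf (⊤ : X.Opens)) V.unop from
      Groth.L15.FlatCrit.rs _ (homOfLE (le_top : V.unop ≤ ⊤)) (secM X.sheaf (⊤ : X.Opens) _ (𝟙 _))))
    fun V W g => Groth.L15.FlatCrit.rs_rs _ (homOfLE (le_top : V.unop ≤ ⊤)) g.unop _)
  hom_inv_id := by
    apply (secM X.sheaf (⊤ : X.Opens) _).injective
    rw [secM_comp, Equiv.apply_symm_apply]
    refine ((SheafOfModules.unitHomEquiv_apply_coe _ _ (op (⊤ : X.Opens))).symm.trans ?_)
    rw [Equiv.apply_symm_apply]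
    exact rs_id _ _
  inv_hom_id := by
    apply (ModSite.unit X.sheaf).unitHomEquiv.injective
    rw [SheafOfModules.unitHomEquiv_comp_apply, Equiv.apply_symm_apply]
    refine PresheafOfModules.sections_ext _ _ fun V => ?_
    let h : ModSite.freeOn X.sheaf (⊤ : X.Opens) ⟶ ModSite.unit X.sheaf :=
      (secM X.sheaf (⊤ : X.Opens) (ModSite.unit X.sheaf)).symm (1 : X.sheaf.obj.obj (op ⊤))
    change ap h (Groth.L15.FlatCrit.rs _ (homOfLE (le_top : V.unop ≤ ⊤)) _) = (1 : X.sheaf.obj.obj V)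
    rw [← rs_ap]
    have h1 : ap h (secM X.sheaf (⊤ : X.Opens) _ (𝟙 _)) = (1 : X.sheaf.obj.obj (op ⊤)) := by
      refine (secM_comp (⊤ : X.Opens) (𝟙 _) h).symm.trans ?_
      rw [Category.id_comp, Equiv.apply_symm_apply]
    rw [h1]
    exact map_one (X.sheaf.obj.map (homOfLE (le_top : V.unop ≤ ⊤)).op).hom

end Groth.L04.DerComp.AffineAdic
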