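import Groth.Agent.L04.DerComp.AffineAdic

/-!
# The affine computation of derived completions of pseudo-coherent objects
-/

set_option autoImplicit false
set_option backward.defeqAttrib.useBackward true
set_option backward.isDefEq.respectTransparency false

universe u v

open CategoryTheory CategoryTheory.Limits CategoryTheory.Pretriangulated AlgebraicGeometry Opposite Groth.L10
  DerivedCategory

noncomputable section

attribute [local instance] HasDerivedCategory.standard

namespace Groth.L04.DerComp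

section Generic

variable {R : Type u} [CommRing R] {C : Type v} [Category.{u} C] [Abelian C] [Linear R C]

/-- A complex with scalars. -/
def scalarFam {ι : Type} (s : ι → R) (K : CochainComplex C ℤ) : Fam ι C where
  K := K
  μ i := s i • 𝟙 K
  comm i j := by simp only [Linear.smul_comp, Linear.comp_smul, Category.id_comp, smul_smul, mul_comm]

theorem isKInjective_mappingCone {K L : CochainComplex C ℤ} (φ : K ⟶ L) [K.IsKInjective] [L.IsKInjective] :
    (CochainComplex.mappingCone φ).IsKInjective := by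
  rw [CochainComplex.isKInjective_iff_rightOrthogonal]
  exact ObjectProperty.ext_of_isTriangulatedClosed₃ _ _
    (HomotopyCategory.mappingCone_triangleh_distinguished φ)
    (CochainComplex.IsKInjective.rightOrthogonal K) (CochainComplex.IsKInjective.rightOrthogonal L)

theorem isKInjective_kos {ι : Type} (L : List ι) (F : Fam ι C) (h : F.K.IsKInjective) :
    (Fam.kos L F).K.IsKInjective := by
  induction L generalizing F with
  | nil => exact h
  | cons i L ih => exact ih _ (isKInjective_mappingCone (F.μ i))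

/-- `Hom(P, -)` of the cone of a map of K-injective complexes with vanishing iterated cones. -/
theorem isZero_kos_G_cone (P : C) {ι : Type} (L : List ι) (s : ι → R) {K M : CochainComplex C ℤ} (φ : K ⟶ M)
    [K.IsKInjective] [M.IsKInjective]
    (h : IsZero (kos (L.map s) (DerivedCategory.Q.obj (CochainComplex.mappingCone φ)))) :
    IsZero (kos (L.map s) (DerivedCategory.Q.obj (CochainComplex.mappingCone
      (((GlobalHom.G (R := R) P).mapHomologicalComplex (ComplexShape.up ℤ)).map φ)))) := by
  let G := GlobalHom.G (R := R) P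
  let GG := G.mapHomologicalComplex (ComplexShape.up ℤ)
  let F := scalarFam s (CochainComplex.mappingCone φ)
  have hF : F.Scalar s := fun i => rfl
  haveI : F.K.IsKInjective := isKInjective_mappingCone φ
  haveI hk : (Fam.kos L F).K.IsKInjective := isKInjective_kos L F inferInstance
  obtain ⟨e₀⟩ := Q_kos_linear hF L
  have hQ : DerivedCategory.Q.map (𝟙 (Fam.kos L F).K) = 0 := (h.of_iso e₀).eq_of_src _ _
  obtain ⟨hh⟩ := (GlobalHom.Q_map_eq_zero_iff_homotopic
    (CochainComplex.IsKInjective.Qh_map_bijective _ _) (𝟙 (Fam.kos L F).K)).1 hQ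
  have hz : IsZero (DerivedCategory.Q.obj (GG.obj (Fam.kos L F).K)) := by
    rw [IsZero.iff_id_eq_zero, ← CategoryTheory.Functor.map_id, ← CategoryTheory.Functor.map_id GG,
      ← cancel_epi ((quotientCompQhIso _).hom.app _), ← quotientCompQhIso_hom_naturality,
      HomotopyCategory.eq_of_homotopy _ _ (G.mapHomotopy hh)]
    simp
  let F' := scalarFam s (CochainComplex.mappingCone (GG.map φ))
  have hF' : F'.Scalar s := fun i => rfl
  let base : Fam.Iso' (F.map G) F' :=
    { iso := CochainComplex.mappingCone.mapHomologicalComplexIso φ G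
      comm := fun i => by
        change GG.map (s i • 𝟙 _) ≫ _ = _ ≫ (s i • 𝟙 _)
        erw [Functor.map_smul, CategoryTheory.Functor.map_id, Linear.smul_comp, Linear.comp_smul, Category.id_comp] }
  obtain ⟨e₁⟩ := Fam.map_kos G F L
  obtain ⟨e₂⟩ := Fam.Iso'.kos ⟨base⟩ L
  obtain ⟨e₃⟩ := Q_kos_linear hF' L
  exact hz.of_iso (DerivedCategory.Q.mapIso (e₁.trans e₂).iso ≪≫ e₃).symm

end Generic

section Site

variable {C : Type u} [SmallCategory C] {J : GrothendieckTopology C} {O : Sheaf J CommRingCat.{u}}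

/-- Morphisms out of the structure sheaf into a derived completion, when they form finite modules over a
Noetherian ring of global sections. -/
theorem adic_of_finite_hom [IsNoetherianRing (DerComp.GSec O)] [KInjDerived.EnoughKInjectives (ModSite.Mod O)]
    (V : C) (θ : ModSite.freeOn O V ≅ ModSite.unit O) (I : Ideal (DerComp.GSec O)) (𝓘 : DerComp.IdealSh O)
    (h𝓘 : 𝓘.IsGenBy (fun a : I => (a : DerComp.GSec O))) [DerComp.HasDerCompletion O 𝓘]
    (K : DerivedCategory (ModSite.Mod O))
    (hfin : ∀ q : ℤ, Module.Finite (DerComp.GSec O) (SiteCmp.inD O (ModSite.unit O) ⟶ K⟦q⟧)) (p : ℤ) :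
    IsAdicComplete I (SiteCmp.inD O (ModSite.unit O) ⟶ ((DerComp.derCompletion O 𝓘).obj K).obj⟦p⟧) ∧
    ∀ n : ℕ,
      (∀ y : (SiteCmp.inD O (ModSite.unit O) ⟶ ((DerComp.derCompletion O 𝓘).obj K).obj⟦p⟧),
        ∃ x : (SiteCmp.inD O (ModSite.unit O) ⟶ K⟦p⟧),
          (Linear.rightComp (DerComp.GSec O) (SiteCmp.inD O (ModSite.unit O))
            ((shiftFunctor (DerivedCategory (ModSite.Mod O)) p).map (DerComp.toDerCompletion 𝓘 K))) x - y ∈
            (I ^ n • ⊤ : Submodule (DerComp.GSec O) _)) ∧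
      (∀ x : (SiteCmp.inD O (ModSite.unit O) ⟶ K⟦p⟧),
        (Linear.rightComp (DerComp.GSec O) (SiteCmp.inD O (ModSite.unit O))
          ((shiftFunctor (DerivedCategory (ModSite.Mod O)) p).map (DerComp.toDerCompletion 𝓘 K))) x ∈
          (I ^ n • ⊤ : Submodule (DerComp.GSec O) _) → x ∈ (I ^ n • ⊤ : Submodule (DerComp.GSec O) _)) := by
  classical
  have hfg : I.FG := IsNoetherian.noetherian I
  obtain ⟨r, fs, hfs⟩ := Submodule.fg_iff_exists_fin_generating_family.1 hfg
  have hmem : ∀ i, fs i ∈ I := fun i => hfs ▸ Submodule.subset_span ⟨i, rfl⟩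
  have hgen : 𝓘.IsGenBy fs := by
    refine ⟨fun i U => h𝓘.1 ⟨fs i, hmem i⟩ U, fun 𝓘' hc => h𝓘.2 𝓘' fun a U => ?_⟩
    have ha : (a : DerComp.GSec O) ∈ Submodule.span (DerComp.GSec O) (Set.range fs) := hfs.symm ▸ a.2
    show (a : DerComp.GSec O).1 U ∈ 𝓘'.ideal U
    generalize (a : DerComp.GSec O) = z at ha ⊢
    induction ha using Submodule.span_induction with
    | mem y hy => obtain ⟨i, rfl⟩ := hy; exact hc i U
    | zero => exact (𝓘'.ideal U).zero_mem
    | add y z _ _ hy hz => exact (𝓘'.ideal U).add_mem hy hz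
    | smul c y _ hy => exact (𝓘'.ideal U).mul_mem_left _ hy
  let u₀ := ModSite.unit O
  let L := ((DerComp.derCompletion O 𝓘).obj K).obj
  let η : K ⟶ L := DerComp.toDerCompletion 𝓘 K
  obtain ⟨W, g, δ, hT⟩ := distinguished_cocone_triangle η
  have hWk : Killed 𝓘 W := killed_cone_toDerCompletion 𝓘 K g δ hT
  have hrep : ∀ Y : DerivedCategory (ModSite.Mod O), Nonempty (KRep Y) := fun Y => by
    obtain ⟨J, f, hJ, hf⟩ := KInjDerived.EnoughKInjectives.exists_res (DerivedCategory.Q.objPreimage Y)
    exact ⟨@KRep.mk _ _ _ _ J hJ ((asIso (DerivedCategory.Q.map f)).symm ≪≫ DerivedCategory.Q.objObjPreimageIso Y)⟩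
  obtain ⟨rK⟩ := hrep K
  obtain ⟨rL⟩ := hrep L
  obtain ⟨φ, hφ⟩ := GlobalHom.Q_map_surjective
    (CochainComplex.IsKInjective.Qh_map_bijective ((HomotopyCategory.quotient _ _).obj rK.I) rL.I)
    (rK.e.hom ≫ η ≫ rL.e.inv)
  have hφ' : DerivedCategory.Q.map φ ≫ rL.e.hom = rK.e.hom ≫ η := by
    rw [hφ, Category.assoc, Category.assoc, Iso.inv_hom_id, Category.comp_id]
  let eW : DerivedCategory.Q.obj (CochainComplex.mappingCone φ) ≅ W :=
    Triangle.π₃.mapIso (isoTriangleOfIso₁₂ _ _ (DerivedCategory.mappingCone_triangle_distinguished φ) hT rK.e rL.e hφ')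
  have hz : IsZero (kos ((List.finRange r).map fs) (DerivedCategory.Q.obj (CochainComplex.mappingCone φ))) := by
    rw [← List.ofFn_eq_map]
    exact isZero_kos_gens hgen (fun M hM => (hWk M hM).of_iso₁ eW.symm)
  let GG := (GlobalHom.G (R := DerComp.GSec O) u₀).mapHomologicalComplex (ComplexShape.up ℤ)
  have hz' := isZero_kos_G_cone u₀ (List.finRange r) fs φ hz
  haveI : DRing.HasDerivedCompletion I := Groth.Agent.S7096.result I hfg
  -- completeness of the global sections of the completion
  have hL : DRing.IsDerivedComplete I (DerivedCategory.Q.obj (GG.obj rL.I)) := fun f hf => by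
    refine (Groth.L04.RGamma.subsingleton_away_iff f _).2 fun n => ?_
    have h1 : TzAt L V (f.1 V) :=
      (isDerComp_iff 𝓘 L).1 ((DerComp.derCompletion O 𝓘).obj K).property _ _ (h𝓘.1 ⟨f, hf⟩ V)
    let e : (((Groth.L04.RGamma.S₀ (DerComp.GSec O)).obj (Groth.L04.RGamma.R₁ _))⟦n⟧ ⟶
          DerivedCategory.Q.obj (GG.obj rL.I)) ≃ₗ[DerComp.GSec O]
        ((SiteCmp.inD O (ModSite.freeOn O V))⟦n⟧ ⟶ L) :=
      (shiftLin (DerComp.GSec O) _ _ n).trans ((Groth.L29.HomD.evalShiftEquiv _ (-n)).trans
        ((rL.psi (P := u₀) (-n)).symm.trans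
          ((Linear.homCongr _ ((DerivedCategory.singleFunctor _ 0).mapIso θ.symm) (Iso.refl (L⟦-n⟧))).trans
            (shiftLin (DerComp.GSec O) _ _ n).symm)))
    refine (tz_iff_of_equiv e.toAddEquiv (Groth.L04.RGamma.fEnd f _ _) (preEnd (freeMul V (f.1 V) n) L)
      fun x => ?_).2 (h1 n)
    rw [preEnd_apply, freeMul_gsec, Linear.smul_comp, Category.id_comp]
    exact map_smul e f x
  obtain ⟨ec, hec⟩ := exists_completion_iso I (DerivedCategory.Q.map (GG.map φ)) hL _ _
    (DerivedCategory.mappingCone_triangle_distinguished (GG.map φ)) fun M hM =>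
      orth_of_isZero_kos hM _ (fun f hf => by obtain ⟨i, -, rfl⟩ := List.mem_map.1 hf; exact hmem i) hz'
  have hfinK : ∀ q : ℤ, Module.Finite (DerComp.GSec O)
      (Dual.HD (DerComp.GSec O) (DerivedCategory.Q.obj (GG.obj rK.I)) q) := fun q =>
    haveI := hfin q
    Module.Finite.equiv (rK.psi (R := DerComp.GSec O) (P := u₀) q)
  haveI := hfinK p
  haveI := hfin p
  obtain ⟨e60, he60⟩ := Groth.L10.CompletionFinite.exists_homology_equiv I (DerivedCategory.Q.obj (GG.obj rK.I)) hfinK p
  let eHD := ((DerivedCategory.homologyFunctor (ModuleCat.{u} (DerComp.GSec O)) p).mapIso ec.symm).toLinearEquiv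
  let ψK := rK.psi (R := DerComp.GSec O) (P := u₀) p
  let e := (rL.psi (R := DerComp.GSec O) (P := u₀) p).trans (eHD.trans (e60.trans ((AdicCompletion.congr I ψK.symm).restrictScalars (DerComp.GSec O))))
  exact adic_of_completion I (Linear.rightComp (DerComp.GSec O) (SiteCmp.inD O u₀) (η⟦p⟧')) e fun x => by
    have h2 : rL.psi (R := DerComp.GSec O) (P := u₀) p (x ≫ η⟦p⟧') = _ := rK.psi_nat rL φ η hφ' p x
    change AdicCompletion.congr I ψK.symm (e60 (eHD (rL.psi (R := DerComp.GSec O) (P := u₀) p (x ≫ η⟦p⟧')))) = _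
    rw [h2]
    have h3 : eHD (((DerivedCategory.homologyFunctor (ModuleCat.{u} (DerComp.GSec O)) p).map
        (DerivedCategory.Q.map (GG.map φ))).hom (ψK x)) =
        ((DerivedCategory.homologyFunctor (ModuleCat.{u} (DerComp.GSec O)) p).map
          (DRing.toDerivedCompletion I (DerivedCategory.Q.obj (GG.obj rK.I)))).hom (ψK x) := by
      rw [← hec, Functor.map_comp]
      exact congr(($(((DerivedCategory.homologyFunctor (ModuleCat.{u} (DerComp.GSec O)) p).mapIso ec).hom_inv_id))
        ((((DerivedCategory.homologyFunctor (ModuleCat.{u} (DerComp.GSec O)) p).map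
          (DRing.toDerivedCompletion I (DerivedCategory.Q.obj (GG.obj rK.I)))).hom) (ψK x)))
    rw [h3, he60]
    exact (AdicCompletion.map_of I ψK.symm.toLinearMap (ψK x)).trans (congrArg _ (ψK.symm_apply_apply x))

end Site

end Groth.L04.DerComp
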