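import Groth.Agent.L04.DerComp.CandIdeal
import Groth.Agent.L10.DerivedAdj

/-!
# Restrictions of complete objects to slices are complete
-/

set_option autoImplicit false
set_option backward.defeqAttrib.useBackward true
set_option backward.isDefEq.respectTransparency false

universe u

open CategoryTheory CategoryTheory.Limits Opposite Groth.L10

noncomputable section

attribute [local instance] HasDerivedCategory.standard

namespace Groth.L04.DerComp

variable {C : Type u} [SmallCategory C] {J : GrothendieckTopology C} (O : Sheaf J CommRingCat.{u}) (U : C)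

theorem extZero_map_mulEnd (W : Over U) (x : O.obj.obj (op W.left)) :
    (ModSite.extZero O U).map (mulEnd (O := O.over U) W x) ≫ (extZeroFreeIso O U W).hom =
      (extZeroFreeIso O U W).hom ≫ mulEnd W.left x := by
  apply (extZeroFreeEquiv O U W _).injective
  have h1 : extZeroFreeEquiv O U W _ ((extZeroFreeIso O U W).hom ≫ mulEnd W.left x) =
      secM O _ _ (mulEnd W.left x) := by
    rw [extZeroFreeEquiv_comp]
    change (mulEnd W.left _).val.app _ (extZeroFreeEquiv O U W _ ((extZeroFreeEquiv O U W _).symm _)) = _
    rw [Equiv.apply_symm_apply, ← secM_comp, Category.id_comp]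
  rw [h1]
  simp only [extZeroFreeEquiv, Equiv.trans_apply]
  rw [(ModSite.extZeroAdj O U).homEquiv_naturality_left, secM_mulEnd, mulEnd, Equiv.apply_symm_apply]
  refine Eq.trans (restrSect_smul O U W _ x _) ?_
  congr 1
  exact (extZeroFreeEquiv O U W _).apply_symm_apply (secM O W.left _ (𝟙 _))

theorem isDerComp_restr (I : DerComp.IdealSh O) (K : DerivedCategory (ModSite.Mod O))
    (hK : DerComp.IsDerComp O I K) :
    DerComp.IsDerComp (O.over U) (I.over U) ((ModSite.restr O U).mapDerivedCategory.obj K) := by
  rw [isDerComp_iff] at hK ⊢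
  intro W x hx n
  have hU := shMod_isGrothendieckAbelian (ModSite.ringSh (O.over U))
  have hO := shMod_isGrothendieckAbelian (ModSite.ringSh O)
  haveI : KInjDerived.EnoughKInjectives (ModSite.Mod O) :=
    @KInjDerived.instEnoughKInjectivesOfIsGrothendieckAbelian _ _ _ hO
  let RD := (ModSite.restr O U).mapDerivedCategory
  let LD := (ModSite.extZero O U).mapDerivedCategory
  haveI : RD.IsRightDerivedFunctor (ModSite.restr O U).mapDerivedCategoryFactorsh.inv
      (HomotopyCategory.quasiIso (ModSite.Mod O) (ComplexShape.up ℤ)) :=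
    Functor.isRightDerivedFunctor_of_inverts _ _ _
  let ad : LD ⊣ RD := DerivedAdj.derived (ModSite.extZeroAdj O U) RD
    (ModSite.restr O U).mapDerivedCategoryFactorsh.inv
  refine (tz_iff_of_equiv (ad.homAddEquiv _ K) (preEnd (LD.map (freeMul (O := O.over U) W x n)) K)
    (preEnd (freeMul (O := O.over U) W x n) (RD.obj K)) fun a => ad.homEquiv_naturality_left _ a).1 ?_
  let i₀ : ((DerivedCategory.singleFunctor (ModSite.Mod (O.over U)) 0) ⋙
      CategoryTheory.shiftFunctor _ n ⋙ LD).obj (ModSite.freeOn (O.over U) W) ≅
    ((ModSite.extZero O U) ⋙ DerivedCategory.singleFunctor (ModSite.Mod O) 0 ⋙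
      CategoryTheory.shiftFunctor _ n).obj (ModSite.freeOn (O.over U) W) :=
    (LD.commShiftIso n).app _ ≪≫ (CategoryTheory.shiftFunctor _ n).mapIso
      (((ModSite.extZero O U).mapDerivedCategorySingleFunctor 0).app _)
  refine (tz_preEnd_iff_of_iso (i₀ ≪≫ (CategoryTheory.shiftFunctor _ n).mapIso
    ((DerivedCategory.singleFunctor (ModSite.Mod O) 0).mapIso (extZeroFreeIso O U W))) _ _ ?_ K).2
      (hK W.left x hx n)
  have n1 := (LD.commShiftIso n).hom.naturality
    ((DerivedCategory.singleFunctor (ModSite.Mod (O.over U)) 0).map (mulEnd (O := O.over U) W x))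
  have n2 := ((ModSite.extZero O U).mapDerivedCategorySingleFunctor 0).hom.naturality
    (mulEnd (O := O.over U) W x)
  simp only [i₀, Iso.trans_hom, Iso.app_hom, Functor.mapIso_hom, Category.assoc, freeMul]
  rw [reassoc_of% n1]
  simp only [Functor.comp_map, ← Functor.map_comp, Category.assoc]
  congr 2
  rw [reassoc_of% n2]
  simp only [Functor.comp_map, ← Functor.map_comp]
  congr 2
  exact extZero_map_mulEnd O U W x

end Groth.L04.DerComp
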