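import Groth.Agent.L04.DerComp.Pull
import Groth.Agent.L10.DerivedAdj
import Groth.Prelude.Def_DerComp
import Mathlib.Topology.Sheaves.SheafCondition.Sites

/-!
# Derived completion commutes with restriction to opens
-/

set_option autoImplicit false
set_option backward.defeqAttrib.useBackward true
set_option backward.isDefEq.respectTransparency false

universe u

open CategoryTheory CategoryTheory.Limits Opposite TopologicalSpace Groth.L10

noncomputable section

attribute [local instance] HasDerivedCategory.standard

namespace Groth.L04.DerComp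

section Reflective

variable {A : Type*} [Category A] {B : Type*} [Category B] {L : A ⥤ B} {R : B ⥤ A} (adj : L ⊣ R)
  {P : ObjectProperty A} {Q : ObjectProperty B}
  {cA : A ⥤ P.FullSubcategory} (aA : cA ⊣ P.ι) {cB : B ⥤ Q.FullSubcategory} (aB : cB ⊣ Q.ι)

include adj in
/-- A left adjoint whose right adjoint respects the reflective subcategories commutes with the reflections. -/
theorem isIso_reflection_comparison (hR : ∀ Z, Q Z → P (R.obj Z)) (K : A) (h : Q (L.obj (cA.obj K).obj)) :
    IsIso ((aB.homEquiv (L.obj K) ⟨L.obj (cA.obj K).obj, h⟩).symm (L.map (aA.unit.app K))) := by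
  refine (isIso_iff_coyoneda_map_bijective _).2 fun Z => ?_
  let e₁ : (L.obj (cA.obj K).obj ⟶ Z.obj) ≃ (L.obj K ⟶ Z.obj) :=
    (adj.homEquiv _ _).trans <| (ObjectProperty.fullyFaithfulι P).homEquiv (X := cA.obj K)
      (Y := ⟨R.obj Z.obj, hR _ Z.property⟩) |>.symm.trans <| (aA.homEquiv K _).trans (adj.homEquiv _ _).symm
  have he₁ : ∀ x, e₁ x = L.map (aA.unit.app K) ≫ x := fun x => by
    simp only [e₁, Equiv.trans_apply]
    rw [Adjunction.homEquiv_unit aA, Equiv.symm_apply_eq]
    exact (adj.homEquiv_naturality_left _ _).symm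
  let c := (aB.homEquiv (L.obj K) ⟨L.obj (cA.obj K).obj, h⟩).symm (L.map (aA.unit.app K))
  let e₂ := ((ObjectProperty.fullyFaithfulι Q).homEquiv (X := ⟨L.obj (cA.obj K).obj, h⟩) (Y := Z)).trans
    (e₁.trans (aB.homEquiv (L.obj K) Z).symm)
  have key : (fun φ => c ≫ φ) = e₂ := funext fun φ => by
    change c ≫ φ = (aB.homEquiv (L.obj K) Z).symm (e₁ φ.hom)
    rw [he₁]
    exact (aB.homEquiv_naturality_right_symm _ _).symm
  exact key ▸ e₂.bijective

end Reflective

section Restr

variable {C : Type u} [SmallCategory C] [HasFiniteLimits C] {J : GrothendieckTopology C}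
  (O : Sheaf J CommRingCat.{u}) (U : C)

/-- The morphism of ringed sites of a localisation. -/
def jMor : ModSite.RMor (O.over U) O :=
  ModSite.RMor.ofFlat (Over.star U)
    ⟨{ app := fun V => O.obj.map prod.snd.op
       naturality := fun V W g => by simp [← Functor.map_comp, ← op_comp]; rfl }⟩

/-- Restriction is left adjoint to the direct image of the localisation. -/
def restrPushAdj : ModSite.restr O U ⊣ (jMor O U).push :=
  SheafOfModules.overPushforwardOverAdj (R := ModSite.ringSh O) U

theorem rMapsIdealInto_jMor (I : DerComp.IdealSh O) : DerComp.RMapsIdealInto (jMor O U) I (I.over U) :=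
  fun _ _ hg => I.map_mem prod.snd hg

theorem isIso_derCompletion_restr (I : DerComp.IdealSh O)
    [(ModSite.restr O U).Additive] [PreservesFiniteLimits (ModSite.restr O U)]
    [PreservesFiniteColimits (ModSite.restr O U)] [DerComp.HasDerCompletion O I]
    [DerComp.HasDerCompletion (O.over U) (I.over U)] (F : DerivedCategory (ModSite.Mod O))
    (h : DerComp.IsDerComp (O.over U) (I.over U)
      ((ModSite.restr O U).mapDerivedCategory.obj ((DerComp.derCompletion O I).obj F).obj)) :
    IsIso (((DerComp.derCompletionAdj (O.over U) (I.over U)).homEquiv ((ModSite.restr O U).mapDerivedCategory.obj F)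
      ⟨(ModSite.restr O U).mapDerivedCategory.obj ((DerComp.derCompletion O I).obj F).obj, h⟩).symm
      ((ModSite.restr O U).mapDerivedCategory.map (DerComp.toDerCompletion I F))) := by
  haveI := shMod_isGrothendieckAbelian (ModSite.ringSh (O.over U))
  haveI : KInjDerived.EnoughKInjectives (ModSite.Mod (O.over U)) :=
    @KInjDerived.instEnoughKInjectivesOfIsGrothendieckAbelian _ _ _ (shMod_isGrothendieckAbelian _)
  haveI : SiteCmp.HasRpushD (jMor O U) := KInjDerived.hasRightDerivedFunctor _
  exact isIso_reflection_comparison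
    (DerivedAdj.derived (restrPushAdj O U) (SiteCmp.RpushD (jMor O U))
      ((SiteCmp.pushKh (jMor O U)).totalRightDerivedUnit DerivedCategory.Qh
        (HomotopyCategory.quasiIso (ModSite.Mod (O.over U)) (ComplexShape.up ℤ))))
    (DerComp.derCompletionAdj O I) (DerComp.derCompletionAdj (O.over U) (I.over U))
    (fun Z hZ => isDerComp_RpushD (jMor O U) I (I.over U) (rMapsIdealInto_jMor O U I) Z hZ) F h

end Restr

end Groth.L04.DerComp
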