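import Groth.Agent.L04.DerComp.Orth
import Groth.Agent.L10.DerivedAdj
import Groth.Agent.L15.ExtZero.Exact
import Groth.Agent.L15.KFlatSite.ToSheafColim
import Groth.Agent.L10.SheafModGroth
import Mathlib.CategoryTheory.Adjunction.AdjointFunctorTheorems

/-!
# Derived adjunctions around restriction to a slice of a site
-/

set_option autoImplicit false
set_option backward.defeqAttrib.useBackward true
set_option backward.isDefEq.respectTransparency false

universe u

open CategoryTheory CategoryTheory.Limits Opposite Groth.L10

noncomputable section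

attribute [local instance] HasDerivedCategory.standard

namespace Groth.L04.DerComp

variable {C : Type u} [SmallCategory C] {J : GrothendieckTopology C} (O : Sheaf J CommRingCat.{u}) (U : C)

theorem isLeftAdjoint_restr : (ModSite.restr O U).IsLeftAdjoint := by
  haveI := shMod_isGrothendieckAbelian (ModSite.ringSh O)
  haveI : WellPowered.{u} (ModSite.Mod O) := IsGrothendieckAbelian.wellPowered _
  haveI : WellPowered.{u} (ModSite.Mod O)ᵒᵖ := CategoryTheory.Abelian.wellPowered_opposite
  haveI := Groth.L15.KFlatSite.preservesColimits_toSheaf (ModSite.ringSh O)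
  haveI := Groth.L15.KFlatSite.preservesColimits_toSheaf (ModSite.ringSh (O.over U))
  haveI := Groth.L15.KFlatSite.reflectsIsomorphisms_toSheaf (ModSite.ringSh (O.over U))
  haveI := shMod_isGrothendieckAbelian (ModSite.ringSh (O.over U))
  haveI : ReflectsColimitsOfSize.{u, u} (SheafOfModules.toSheaf.{u} (ModSite.ringSh (O.over U))) :=
    reflectsColimits_of_reflectsIsomorphisms
  haveI : (J.overPullback AddCommGrpCat.{u} U).IsLeftAdjoint :=
    ((Over.forget U).sheafAdjunctionCocontinuous AddCommGrpCat.{u} (J.over U) J).isLeftAdjoint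
  haveI : PreservesColimitsOfSize.{u, u}
      (ModSite.restr O U ⋙ SheafOfModules.toSheaf.{u} (ModSite.ringSh (O.over U))) :=
    inferInstanceAs (PreservesColimitsOfSize.{u, u}
      (SheafOfModules.toSheaf.{u} (ModSite.ringSh O) ⋙ J.overPullback AddCommGrpCat.{u} U))
  haveI : PreservesColimitsOfSize.{u, u} (ModSite.restr O U) :=
    preservesColimits_of_reflects_of_preserves _ (SheafOfModules.toSheaf.{u} (ModSite.ringSh (O.over U)))
  exact isLeftAdjoint_of_preservesColimits_of_isSeparating (isSeparator_separator (ModSite.Mod O)) _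

/-- Restriction on derived categories. -/
abbrev restrD : DerivedCategory (ModSite.Mod O) ⥤ DerivedCategory (ModSite.Mod (O.over U)) :=
  (ModSite.restr O U).mapDerivedCategory

/-- Extension by zero on derived categories. -/
abbrev extD : DerivedCategory (ModSite.Mod (O.over U)) ⥤ DerivedCategory (ModSite.Mod O) :=
  (ModSite.extZero O U).mapDerivedCategory

/-- `j_! ⊣ j^*` on derived categories. -/
def extRestrAdjD : extD O U ⊣ restrD O U :=
  haveI := shMod_isGrothendieckAbelian (ModSite.ringSh O)
  haveI : KInjDerived.EnoughKInjectives (ModSite.Mod O) :=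
    @KInjDerived.instEnoughKInjectivesOfIsGrothendieckAbelian _ _ _ (shMod_isGrothendieckAbelian _)
  haveI : (restrD O U).IsRightDerivedFunctor (ModSite.restr O U).mapDerivedCategoryFactorsh.inv
      (HomotopyCategory.quasiIso (ModSite.Mod O) (ComplexShape.up ℤ)) :=
    Functor.isRightDerivedFunctor_of_inverts _ _ _
  DerivedAdj.derived (ModSite.extZeroAdj O U) (restrD O U) (ModSite.restr O U).mapDerivedCategoryFactorsh.inv

theorem isLeftAdjoint_restrD : (restrD O U).IsLeftAdjoint := by
  haveI := isLeftAdjoint_restr O U
  haveI : KInjDerived.EnoughKInjectives (ModSite.Mod (O.over U)) :=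
    @KInjDerived.instEnoughKInjectivesOfIsGrothendieckAbelian _ _ _ (shMod_isGrothendieckAbelian _)
  let adj := Adjunction.ofIsLeftAdjoint (ModSite.restr O U)
  haveI : (ModSite.restr O U).rightAdjoint.Additive := adj.right_adjoint_additive
  let F := (ModSite.restr O U).rightAdjoint.mapHomotopyCategory (ComplexShape.up ℤ) ⋙ DerivedCategory.Qh
  haveI : F.HasRightDerivedFunctor (HomotopyCategory.quasiIso (ModSite.Mod (O.over U)) (ComplexShape.up ℤ)) :=
    KInjDerived.hasRightDerivedFunctor _
  exact (DerivedAdj.derived adj (F.totalRightDerived DerivedCategory.Qh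
    (HomotopyCategory.quasiIso (ModSite.Mod (O.over U)) (ComplexShape.up ℤ)))
    (F.totalRightDerivedUnit DerivedCategory.Qh
      (HomotopyCategory.quasiIso (ModSite.Mod (O.over U)) (ComplexShape.up ℤ)))).isLeftAdjoint

omit C J in
theorem orth_adj_iff {T : Type*} [Category T] [HasShift T ℤ] {T' : Type*} [Category T'] [HasShift T' ℤ]
    {L : T ⥤ T'} [L.CommShift ℤ] {R : T' ⥤ T} (adj : L ⊣ R) (A : T) (Z : T') :
    Orth (L.obj A) Z ↔ Orth A (R.obj Z) :=
  forall_congr' fun n => (((L.commShiftIso n).app A).symm.homFromEquiv.trans (adj.homEquiv _ _)).subsingleton_congr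

end Groth.L04.DerComp
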