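import Groth.Agent.L04.DerComp.AffineAdicMain
import Groth.Agent.L04.DerComp.Restr
import Groth.Agent.L04.DerComp.OverTz
import Groth.Agent.L04.DerComp.RestrAdj

/-!
# Vanishing of cohomology on affine opens of completions of coherent modules
-/

set_option autoImplicit false
set_option backward.defeqAttrib.useBackward true
set_option backward.isDefEq.respectTransparency false

universe u

open CategoryTheory CategoryTheory.Limits CategoryTheory.Pretriangulated AlgebraicGeometry Opposite Groth.L10
  Groth.L15.FlatCrit Groth.L15.LocPres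

noncomputable section

attribute [local instance] HasDerivedCategory.standard

namespace Groth.L04.DerComp

section Terminal

variable {C : Type u} [SmallCategory C] {J : GrothendieckTopology C} {O : Sheaf J CommRingCat.{u}} {T : C}
  (hT : IsTerminal T)

include hT in
/-- Global sections are sections over a terminal object. -/
def gsecTerminal : DerComp.GSec O ≃+* O.obj.obj (op T) where
  toFun s := s.1 T
  invFun a := ⟨fun V => rr O (hT.from V) a, fun V W g => by
    change rr O g (rr O (hT.from V) a) = rr O (hT.from W) a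
    rw [rr_rr, hT.hom_ext (g ≫ hT.from V) (hT.from W)]⟩
  left_inv s := Subtype.ext (funext fun V => s.2 (hT.from V))
  right_inv a := by
    change rr O (hT.from T) a = a
    rw [hT.hom_ext (hT.from T) (𝟙 T), rr_id]
  map_mul' s t := rfl
  map_add' s t := rfl

/-- The structure sheaf is free on a terminal object. -/
def freeTerminalIso : ModSite.freeOn O T ≅ ModSite.unit O where
  hom := (secM O T (ModSite.unit O)).symm (1 : O.obj.obj (op T))
  inv := ((ModSite.freeOn O T).unitHomEquiv).symm (PresheafOfModules.sectionsMk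
    (fun V => (show ModSite.sect (ModSite.freeOn O T) V.unop from rs _ (hT.from V.unop) (secM O T _ (𝟙 _))))
    fun V W g => (rs_rs _ (hT.from V.unop) g.unop _).trans (by
      rw [hT.hom_ext (g.unop ≫ hT.from V.unop) (hT.from W.unop)]))
  hom_inv_id := by
    apply (secM O T _).injective
    rw [secM_comp, Equiv.apply_symm_apply]
    refine ((SheafOfModules.unitHomEquiv_apply_coe _ _ (op T)).symm.trans ?_)
    rw [Equiv.apply_symm_apply]
    show rs _ (hT.from T) _ = _
    rw [hT.hom_ext (hT.from T) (𝟙 T), rs_id]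
  inv_hom_id := by
    apply (ModSite.unit O).unitHomEquiv.injective
    rw [SheafOfModules.unitHomEquiv_comp_apply, Equiv.apply_symm_apply]
    refine PresheafOfModules.sections_ext _ _ fun V => ?_
    let h : ModSite.freeOn O T ⟶ ModSite.unit O := (secM O T (ModSite.unit O)).symm (1 : O.obj.obj (op T))
    change ap h (rs _ (hT.from V.unop) _) = (1 : O.obj.obj V)
    rw [← rs_ap]
    have h1 : ap h (secM O T _ (𝟙 _)) = (1 : O.obj.obj (op T)) := by
      refine (secM_comp T (𝟙 _) h).symm.trans ?_
      rw [Category.id_comp, Equiv.apply_symm_apply]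
    rw [h1]
    exact map_one (O.obj.map (hT.from V.unop).op).hom

include hT in
theorem finite_free_hom_terminal (M : ModSite.Mod O) (hfin : Module.Finite (O.obj.obj (op T)) (ModSite.sect M T)) :
    Module.Finite (DerComp.GSec O) (ModSite.freeOn O T ⟶ M) := by
  obtain ⟨S, hS⟩ := hfin.fg_top
  let e := secM O T M
  classical
  refine ⟨⟨S.image (fun x => e.symm x), eq_top_iff.2 fun φ _ => ?_⟩⟩
  suffices key : ∀ x : ModSite.sect M T, e.symm x ∈ Submodule.span (DerComp.GSec O)
      (↑(S.image fun x => e.symm x) : Set (ModSite.freeOn O T ⟶ M)) by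
    have := key (e φ)
    rwa [Equiv.symm_apply_apply] at this
  intro x
  have hx : x ∈ Submodule.span (O.obj.obj (op T)) (S : Set (ModSite.sect M T)) := by
    rw [hS]
    trivial
  induction hx using Submodule.span_induction with
  | mem y hy => exact Submodule.subset_span (Finset.mem_image_of_mem _ hy)
  | zero =>
    have h0 : e.symm 0 = 0 := e.injective (by rw [Equiv.apply_symm_apply, secM_zero])
    exact h0 ▸ Submodule.zero_mem _
  | add y z _ _ hy hz =>
    have h0 : e.symm (y + z) = e.symm y + e.symm z :=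
      e.injective (by rw [Equiv.apply_symm_apply, secM_add, Equiv.apply_symm_apply, Equiv.apply_symm_apply])
    exact h0 ▸ Submodule.add_mem _ hy hz
  | smul a y _ hy =>
    have h0 : e.symm (a • y) = (gsecTerminal hT).symm a • e.symm y := e.injective (by
      rw [Equiv.apply_symm_apply, DerComp.smul_def, ← mulEnd_gsec, secM_mulEnd, Equiv.apply_symm_apply]
      exact congrArg (fun t : O.obj.obj (op T) => t • y) ((gsecTerminal (O := O) hT).apply_symm_apply a).symm)
    exact h0 ▸ Submodule.smul_mem _ _ hy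

end Terminal

theorem single_hom_shift_eq_zero {A : Type*} [Category A] [Abelian A] [HasDerivedCategory A] (P M : A) {q : ℤ}
    (hq : q < 0) (a : (DerivedCategory.singleFunctor A 0).obj P ⟶ ((DerivedCategory.singleFunctor A 0).obj M)⟦q⟧) :
    a = 0 := by
  haveI := DerivedCategory.TStructure.t.isGE_shift ((DerivedCategory.singleFunctor A 0).obj M) 0 q (-q) (by lia)
  exact DerivedCategory.TStructure.t.zero a 0 (-q) (by lia)

theorem affine_vanishing (X : Scheme.{u}) [IsLocallyNoetherian X] (𝓘 : DerComp.IdealSh X.sheaf)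
    (hqc : ∀ (U : X.affineOpens) (g : Γ(X, ↑U)), 𝓘.ideal (X.basicOpen g) =
      Ideal.map (X.presheaf.map (homOfLE (X.basicOpen_le g)).op).hom (𝓘.ideal ↑U))
    [DerComp.HasDerCompletion X.sheaf 𝓘] (F : X.Modules) (hF : Coh.IsCoh F) (U : X.Opens) (hU : IsAffineOpen U)
    (p : ℤ) (hp : p ≠ 0) :
    Subsingleton (SiteCmp.inD X.sheaf (ModSite.freeOn X.sheaf U) ⟶
      ((DerComp.derCompletion X.sheaf 𝓘).obj (SiteCmp.inD X.sheaf F)).obj⟦p⟧) := by
  let F' : ModSite.Mod X.sheaf := F
  let O' := X.sheaf.over U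
  haveI hG := shMod_isGrothendieckAbelian (ModSite.ringSh O')
  haveI : KInjDerived.EnoughKInjectives (ModSite.Mod O') :=
    @KInjDerived.instEnoughKInjectivesOfIsGrothendieckAbelian _ _ _ hG
  let RD := (ModSite.restr X.sheaf U).mapDerivedCategory
  let K' := RD.obj (SiteCmp.inD X.sheaf F')
  let I' := 𝓘.over U
  haveI : DerComp.HasDerCompletion O' I' := hasDerCompletion O' I'
  let hT : IsTerminal (Over.mk (𝟙 U)) := Over.mkIdTerminal
  haveI : IsNoetherianRing Γ(X, U) := IsLocallyNoetherian.component_noetherian ⟨U, hU⟩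
  haveI : IsNoetherianRing (O'.obj.obj (op (Over.mk (𝟙 U)))) := ‹IsNoetherianRing Γ(X, U)›
  haveI : IsNoetherianRing (DerComp.GSec O') := isNoetherianRing_of_ringEquiv _ (gsecTerminal (O := O') hT).symm
  let I : Ideal (DerComp.GSec O') := (I'.ideal (Over.mk (𝟙 U))).comap (gsecTerminal (O := O') hT).toRingHom
  have hgen : I'.IsGenBy (fun a : I => (a : DerComp.GSec O')) := by
    refine ⟨fun a W => ?_, fun J hJ W x hx => ?_⟩
    · have := I'.map_mem (hT.from W) a.2
      rwa [show (O'.obj.map (hT.from W).op).hom ((gsecTerminal (O := O') hT).toRingHom a.1) = a.1.1 W from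
        a.1.2 (hT.from W)] at this
    · have hsub : W.left ≤ U := W.hom.le
      let S : Sieve W.left :=
        { arrows := fun V h => ∃ g : Γ(X, U), V ≤ X.basicOpen g ∧ X.basicOpen g ≤ W.left
          downward_closed := fun {V V'} _ h h' => by
            obtain ⟨g, h1, h2⟩ := ‹∃ g : Γ(X, U), _›
            exact ⟨g, h'.le.trans h1, h2⟩ }
      have hS : S ∈ Opens.grothendieckTopology X W.left := fun x hx => by
        obtain ⟨g, hg, hxg⟩ := hU.exists_basicOpen_le ⟨x, hx⟩ (hsub hx)
        exact ⟨X.basicOpen g, homOfLE hg, ⟨g, le_rfl, hg⟩, hxg⟩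
      refine J.glue ((Sieve.overEquiv W).symm S) (GrothendieckTopology.overEquiv_symm_mem_over _ _ _ hS)
        fun V h hh => ?_
      obtain ⟨g, h1, h2⟩ := (Sieve.overEquiv_symm_iff _ _).1 hh
      let D : Over U := Over.mk (homOfLE (X.basicOpen_le g))
      let k : D ⟶ W := Over.homMk (homOfLE h2) (Subsingleton.elim _ _)
      let l : V ⟶ D := Over.homMk (homOfLE h1) (Subsingleton.elim _ _)
      have hle : 𝓘.ideal (X.basicOpen g) ≤ J.ideal D := by
        rw [hqc ⟨U, hU⟩ g, Ideal.map_le_iff_le_comap]
        intro a ha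
        have hm : (gsecTerminal (O := O') hT).symm a ∈ I := by
          show (gsecTerminal (O := O') hT) _ ∈ I'.ideal _
          rw [RingEquiv.apply_symm_apply]
          exact ha
        exact hJ ⟨_, hm⟩ D
      have h3 := J.map_mem l (hle (𝓘.map_mem k.left hx))
      have e : (O'.obj.map l.op).hom ((X.sheaf.obj.map k.left.op).hom x) = (O'.obj.map h.op).hom x := by
        change (O'.obj.map l.op).hom ((O'.obj.map k.op).hom x) = _
        rw [← CommRingCat.comp_apply, ← Functor.map_comp, ← op_comp]
        rfl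
      rwa [e] at h3
  -- the cohomology of `F` on `U`
  let ad := extRestrAdjD X.sheaf U
  let LD := extD X.sheaf U
  have e1 : ∀ (Y : DerivedCategory (ModSite.Mod X.sheaf)) (q : ℤ),
      Nonempty ((SiteCmp.inD O' (ModSite.unit O') ⟶ (RD.obj Y)⟦q⟧) ≃
        (SiteCmp.inD X.sheaf (ModSite.freeOn X.sheaf U) ⟶ Y⟦q⟧)) := fun Y q =>
    ⟨((RD.commShiftIso q).app Y).symm.homToEquiv.trans ((ad.homEquiv _ _).symm.trans
      (((ModSite.extZero X.sheaf U).mapDerivedCategorySingleFunctor 0).app _).homFromEquiv)⟩
  have h0 : ∀ q : ℤ, q ≠ 0 → Subsingleton (SiteCmp.inD O' (ModSite.unit O') ⟶ K'⟦q⟧) := fun q hq => by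
    obtain ⟨e⟩ := e1 (SiteCmp.inD X.sheaf F') q
    refine @Equiv.subsingleton _ _ e (subsingleton_of_forall_eq 0 fun a => ?_)
    rcases lt_or_gt_of_ne hq with hlt | hgt
    · exact single_hom_shift_eq_zero _ _ hlt a
    · let θ := (DerivedCategory.singleFunctor (ModSite.Mod X.sheaf) 0).mapIso (FreeOn.iso X.sheaf U)
      exact (cancel_epi θ.inv).1 ((Groth.L29.DC.QRlim.small_free (M := F) hF.1 hU q (by exact_mod_cast hgt)
        (θ.inv ≫ a)).trans comp_zero.symm)
  have hfin : ∀ q : ℤ, Module.Finite (DerComp.GSec O') (SiteCmp.inD O' (ModSite.unit O') ⟶ K'⟦q⟧) := fun q => by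
    rcases eq_or_ne q 0 with rfl | hq
    · let M := (ModSite.restr X.sheaf U).obj F'
      haveI : Module.Finite (DerComp.GSec O') (ModSite.freeOn O' (Over.mk (𝟙 U)) ⟶ M) :=
        finite_free_hom_terminal hT M (Groth.L16.SchSupport.finite_sections (X := X) F hF ⟨U, hU⟩)
      let lin : (ModSite.unit O' ⟶ M) ≃ₗ[DerComp.GSec O'] (SiteCmp.inD O' (ModSite.unit O') ⟶ SiteCmp.inD O' M) :=
        LinearEquiv.ofBijective
          ((DerivedCategory.singleFunctor (ModSite.Mod O') 0).mapLinearMap (DerComp.GSec O'))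
          ⟨(DerivedCategory.singleFunctor (ModSite.Mod O') 0).map_injective,
            (DerivedCategory.singleFunctor (ModSite.Mod O') 0).map_surjective⟩
      exact Module.Finite.equiv
        ((Linear.homCongr (DerComp.GSec O') (freeTerminalIso (O := O') hT) (Iso.refl M)).trans (lin.trans
          (Linear.homCongr (DerComp.GSec O') (Iso.refl _)
            ((((ModSite.restr X.sheaf U).mapDerivedCategorySingleFunctor 0).app F').symm ≪≫
              ((shiftFunctorZero (DerivedCategory (ModSite.Mod O')) ℤ).app K').symm))))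
    · haveI := h0 q hq
      infer_instance
  obtain ⟨hadic, happ⟩ := adic_of_finite_hom (Over.mk (𝟙 U)) (freeTerminalIso (O := O') hT) I I' hgen K' hfin p
  have hsub0 : Subsingleton (SiteCmp.inD O' (ModSite.unit O') ⟶ ((DerComp.derCompletion O' I').obj K').obj⟦p⟧) :=
    subsingleton_of_forall_eq 0 fun y => hadic.haus' y fun n => by
      obtain ⟨x, hx⟩ := (happ n).1 y
      have hx0 : x = 0 := @Subsingleton.elim _ (h0 p hp) x 0
      rw [hx0, map_zero, zero_sub, neg_mem_iff] at hx
      rwa [SModEq.sub_mem, sub_zero]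
  have hc := isDerComp_restr X.sheaf U 𝓘 _ ((DerComp.derCompletion X.sheaf 𝓘).obj (SiteCmp.inD X.sheaf F')).property
  haveI := isIso_derCompletion_restr X.sheaf U 𝓘 (SiteCmp.inD X.sheaf F') hc
  let c := asIso (((DerComp.derCompletionAdj O' I').homEquiv K'
    ⟨RD.obj ((DerComp.derCompletion X.sheaf 𝓘).obj (SiteCmp.inD X.sheaf F')).obj, hc⟩).symm
    (RD.map (DerComp.toDerCompletion 𝓘 (SiteCmp.inD X.sheaf F'))))
  obtain ⟨e⟩ := e1 ((DerComp.derCompletion X.sheaf 𝓘).obj (SiteCmp.inD X.sheaf F')).obj p
  exact @Equiv.subsingleton _ _ (e.symm.trans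
    ((shiftFunctor _ p).mapIso ((ObjectProperty.ι _).mapIso c)).symm.homToEquiv) hsub0

end Groth.L04.DerComp
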