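import Groth.Agent.L04.DerComp.AwayTensor
import Groth.Prelude.Def_KFlatSite

/-!
# `RHom(O_s, K)` is a derived limit of multiplication by `s`
-/

set_option autoImplicit false
set_option backward.defeqAttrib.useBackward true
set_option backward.isDefEq.respectTransparency false
set_option backward.isDefEq.respectTransparency.types false

universe u

open CategoryTheory CategoryTheory.Limits HomologicalComplex

attribute [local instance] HasDerivedCategory.standard

noncomputable section

namespace Groth.L04.AwayTensor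

open Groth.L04.Telescope Groth.L15.ModTensor

variable {C : Type u} [SmallCategory C] {J : GrothendieckTopology C} {O : Sheaf J CommRingCat.{u}}

/-- Naturality of the degree zero comparison. -/
theorem singleIso_natural (M : ModSite.Mod O) {L L' : CochainComplex (ModSite.Mod O) ℤ} (f : L ⟶ L') :
    ((tR M).mapHomologicalComplex (ComplexShape.up ℤ)).map f ≫ (Groth.L15.KFlatSite.singleIso M L').hom =
      (Groth.L15.KFlatSite.singleIso M L).hom ≫
        ((ModSite.tensorCx O).map f).app ((single (ModSite.Mod O) (ComplexShape.up ℤ) 0).obj M) := by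
  let S := (single (ModSite.Mod O) (ComplexShape.up ℤ) 0).obj M
  have h1 : ((tR M).mapHomologicalComplex (ComplexShape.up ℤ)).map f ≫
      (Groth.L00.SingleTotal.iso (ModSite.tensorBi O).flip M L').hom =
      (Groth.L00.SingleTotal.iso (ModSite.tensorBi O).flip M L).hom ≫
        mapBifunctorMap (𝟙 S) f (ModSite.tensorBi O).flip (ComplexShape.up ℤ) := by
    ext n
    simp [Groth.L00.SingleTotal.iso, Groth.L00.SingleTotal.XIso, S]
  have h2 := mapBifunctorFlipIso_hom_naturality (c := ComplexShape.up ℤ) (F := ModSite.tensorBi O) (φ₁ := f) (φ₂ := 𝟙 S)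
  show _ ≫ (Groth.L00.SingleTotal.iso (ModSite.tensorBi O).flip M L').hom ≫ (mapBifunctorFlipIso L' S (ModSite.tensorBi O) _).hom =
    ((Groth.L00.SingleTotal.iso (ModSite.tensorBi O).flip M L).hom ≫ (mapBifunctorFlipIso L S (ModSite.tensorBi O) _).hom) ≫
      mapBifunctorMap f (𝟙 S) (ModSite.tensorBi O) (ComplexShape.up ℤ)
  rw [← Category.assoc, h1, Category.assoc, Category.assoc, h2]

/-- `RHom(O_s, K)` is a derived limit. -/
theorem isT (s : DerComp.GSec O)
    [ModSite.HasLTensorCx ((CochainComplex.singleFunctor (ModSite.Mod O) 0).obj (DerComp.locAway s (ModSite.unit O)))]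
    [DerComp.HasRHom ((CochainComplex.singleFunctor (ModSite.Mod O) 0).obj (DerComp.locAway s (ModSite.unit O)))]
    (K : DerivedCategory (ModSite.Mod O)) [HasProduct fun _ : ℕ => K] :
    DerComp.IsT s K ((DerComp.RHom ((CochainComplex.singleFunctor (ModSite.Mod O) 0).obj (DerComp.locAway s (ModSite.unit O)))).obj K) := by
  haveI := Groth.L10.shMod_isGrothendieckAbelian (ModSite.ringSh O)
  haveI : Groth.L10.KInjDerived.EnoughKInjectives (ModSite.Mod O) := inferInstance
  let P := (CochainComplex.singleFunctor (ModSite.Mod O) 0).obj (DerComp.locAway s (ModSite.unit O))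
  let G := tR (Os s)
  haveI : PreservesFiniteLimits G := (isFlat_Os s).1
  haveI : PreservesFiniteColimits G := (isFlat_Os s).2
  let e' : DerivedCategory.Q ⋙ G.mapDerivedCategory ≅ ModSite.tensorCxQ P :=
    G.mapDerivedCategoryFactors ≪≫ Functor.isoWhiskerRight
      (NatIso.ofComponents (fun L => Groth.L15.KFlatSite.singleIso (Os s) L) (fun f => singleIso_natural (Os s) f))
      DerivedCategory.Q
  haveI : G.mapDerivedCategory.IsLeftDerivedFunctor e'.hom (quasiIso (ModSite.Mod O) (ComplexShape.up ℤ)) :=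
    Functor.isLeftDerivedFunctor_of_inverts (quasiIso (ModSite.Mod O) (ComplexShape.up ℤ)) G.mapDerivedCategory e'
  let η : ModSite.LTensorCx P ≅ G.mapDerivedCategory :=
    Functor.leftDerivedUnique _ _
      ((ModSite.tensorCxQ P).totalLeftDerivedCounit DerivedCategory.Q (quasiIso (ModSite.Mod O) (ComplexShape.up ℤ)))
      e'.hom (quasiIso (ModSite.Mod O) (ComplexShape.up ℤ))
  refine isRlim_rightAdjoint G (p s) (hp s) (shortExact_p s) ((DerComp.RHomAdj P).ofNatIsoLeft η) K (s • 𝟙 K) ?_
  intro I j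
  have h : eC (e s) I = s • 𝟙 I := by
    refine HomologicalComplex.hom_ext _ _ fun i => ?_
    show DerComp.smulEnd s (I.X i) = DerComp.smulEnd s (I.X i) ≫ 𝟙 (I.X i)
    rw [Category.comp_id]
  rw [h, Functor.map_smul, CategoryTheory.Functor.map_id, Linear.smul_comp, Category.id_comp, Linear.comp_smul,
    Category.comp_id]

/-- Vanishing of `RHom(O_s, K)` is vanishing of every `T(K, s)`. -/
theorem isZero_iff (s : DerComp.GSec O)
    [ModSite.HasLTensorCx ((CochainComplex.singleFunctor (ModSite.Mod O) 0).obj (DerComp.locAway s (ModSite.unit O)))]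
    [DerComp.HasRHom ((CochainComplex.singleFunctor (ModSite.Mod O) 0).obj (DerComp.locAway s (ModSite.unit O)))]
    (K : DerivedCategory (ModSite.Mod O)) [HasProduct fun _ : ℕ => K] :
    IsZero ((DerComp.RHom ((CochainComplex.singleFunctor (ModSite.Mod O) 0).obj (DerComp.locAway s (ModSite.unit O)))).obj K) ↔
      ∀ L : DerivedCategory (ModSite.Mod O), DerComp.IsT s K L → IsZero L := by
  refine ⟨fun h L ⟨a, c, hT⟩ => ?_, fun h => h _ (isT s K)⟩
  obtain ⟨a', c', hT'⟩ := isT s K
  let θK : (∏ᶜ fun _ : ℕ => K) ⟶ ∏ᶜ fun _ : ℕ => K :=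
    Pi.lift fun n => Pi.π (fun _ : ℕ => K) n - Pi.π (fun _ : ℕ => K) (n + 1) ≫ (s • 𝟙 K)
  have hm : θK ≫ 𝟙 _ = 𝟙 _ ≫ θK := by simp
  obtain ⟨g, hg₁, hg₃⟩ := Pretriangulated.complete_distinguished_triangle_morphism₁ _ _ hT hT' (𝟙 _) (𝟙 _) hm
  haveI : IsIso g := Pretriangulated.isIso₁_of_isIso₂₃ (Pretriangulated.Triangle.homMk _ _ g (𝟙 _) (𝟙 _) hg₁ hm hg₃)
    hT hT' (by dsimp; infer_instance) (by dsimp; infer_instance)
  exact h.of_iso (asIso g)

end Groth.L04.AwayTensor
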