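import Groth.Agent.L04.DerComp.TelescopeDerived
import Groth.Agent.L15.KFlatSite.Basic
import Groth.Agent.L15.ModTensor.Projection
import Groth.Agent.L10.SeqColim
import Groth.Agent.L10.ModRDer
import Groth.Prelude.Def_DerComp
import Mathlib.CategoryTheory.Abelian.Refinements

/-!
# Tensoring with `O_s` is the telescope of `s`
-/

set_option autoImplicit false
set_option backward.defeqAttrib.useBackward true
set_option backward.isDefEq.respectTransparency false

universe u

open CategoryTheory CategoryTheory.Limits Opposite MonoidalCategory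

noncomputable section

namespace Groth.L04.AwayTensor

open Groth.L04.Telescope Groth.L15.ModTensor

variable {C : Type u} [SmallCategory C] {J : GrothendieckTopology C} {O : Sheaf J CommRingCat.{u}}

/-- Multiplication by a global section, as a natural endomorphism. -/
def e (s : DerComp.GSec O) : 𝟭 (ModSite.Mod O) ⟶ 𝟭 (ModSite.Mod O) where
  app X := DerComp.smulEnd s X
  naturality _ _ f := (DerComp.smulEnd_comm s f).symm

/-- Tensoring is linear over global sections in the second variable. -/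
theorem tL_map_smulEnd (s : DerComp.GSec O) (P Q : ModSite.Mod O) :
    (tL P).map (DerComp.smulEnd s Q) = DerComp.smulEnd s (ten P Q) := by
  let PQ : Groth.L00.ModSiteTensor.PMo O :=
    (Groth.L00.ModSiteTensor.preF O).obj P ⊗ (Groth.L00.ModSiteTensor.preF O).obj Q
  change (Groth.L00.ModSiteTensor.shf O).map
    ((Groth.L00.ModSiteTensor.preF O).obj P ◁ (Groth.L00.ModSiteTensor.preF O).map (DerComp.smulEnd s Q)) =
      DerComp.smulEnd s ((Groth.L00.ModSiteTensor.shf O).obj PQ)
  apply ((Groth.L00.ModSiteTensor.shfAdj O).homEquiv PQ _).injective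
  rw [Adjunction.homEquiv_unit, Adjunction.homEquiv_unit]
  refine ((Groth.L00.ModSiteTensor.shfAdj O).unit.naturality _).symm.trans ?_
  ext U x
  let r : O.obj.obj U := DerComp.GSec.val' s U
  let M₁ := P.val.obj U
  let M₂ := Q.val.obj U
  have hlin : ∀ z : (PQ.obj U : Type u),
      ((((Groth.L00.ModSiteTensor.preF O).obj P) ◁ (Groth.L00.ModSiteTensor.preF O).map (DerComp.smulEnd s Q)).app U).hom z =
        r • z := fun z => by
    induction z using TensorProduct.induction_on with
    | zero => exact (map_zero _).trans (smul_zero r).symm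
    | tmul a b =>
      change a ⊗ₜ[(O.obj.obj U : Type u)] (r • b) = r • (a ⊗ₜ[(O.obj.obj U : Type u)] b)
      exact TensorProduct.tmul_smul r a b
    | add a b ha hb => rw [map_add, ha, hb, smul_add]
  change (((Groth.L00.ModSiteTensor.shfAdj O).unit.app PQ).app U).hom _ =
    DerComp.GSec.val' s U • (((Groth.L00.ModSiteTensor.shfAdj O).unit.app PQ).app U).hom x
  exact (congrArg _ (hlin x)).trans (map_smul _ _ _)

variable (s : DerComp.GSec O)

/-- `O_s`. -/
abbrev Os : ModSite.Mod O := DerComp.locAway s (ModSite.unit O)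

instance : PreservesColimitsOfShape (Discrete ℕ) (tR (Os s)) :=
  haveI : PreservesColimitsOfSize.{0, 0} (tR (Os s)) := preservesColimitsOfSize_shrink.{0, u, 0, u} _
  inferInstance

/-- The projection `⊕_ℕ X → X ⊗ O_s`. -/
def p : sigmaF (ModSite.Mod O) ⟶ tR (Os s) where
  app X := Sigma.desc fun n => (unitIso.inv.app X : X ⟶ ten X (ModSite.unit O)) ≫
    (tL X).map (Sigma.ι (fun _ : ℕ => ModSite.unit O) n ≫ cokernel.π (DerComp.awayMap s (ModSite.unit O)))
  naturality X Y f := Sigma.hom_ext _ _ fun n => by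
    let g := Sigma.ι (fun _ : ℕ => ModSite.unit O) n ≫ cokernel.π (DerComp.awayMap s (ModSite.unit O))
    show Sigma.ι (fun _ : ℕ => X) n ≫ Limits.Sigma.map (fun _ => f) ≫
        Sigma.desc (fun n => (unitIso.inv.app Y : Y ⟶ ten Y (ModSite.unit O)) ≫ (tL Y).map
          (Sigma.ι (fun _ : ℕ => ModSite.unit O) n ≫ cokernel.π (DerComp.awayMap s (ModSite.unit O)))) =
      Sigma.ι (fun _ : ℕ => X) n ≫ Sigma.desc (fun n => (unitIso.inv.app X : X ⟶ ten X (ModSite.unit O)) ≫ (tL X).map
          (Sigma.ι (fun _ : ℕ => ModSite.unit O) n ≫ cokernel.π (DerComp.awayMap s (ModSite.unit O)))) ≫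
        (tR (Os s)).map f
    rw [Sigma.ι_map_assoc, Sigma.ι_desc, Sigma.ι_desc_assoc, Category.assoc]
    have h1 : f ≫ unitIso.inv.app Y = unitIso.inv.app X ≫ (tR (ModSite.unit O)).map f := unitIso.inv.naturality f
    rw [reassoc_of% h1]
    exact congrArg (unitIso.inv.app X ≫ ·) (comm_sq f g).symm

/-- The comparison `⊕_ℕ X ≅ X ⊗ ⊕_ℕ O`. -/
def sigmaIso (X : ModSite.Mod O) :
    (∐ fun _ : ℕ => X) ≅ (tL X).obj (∐ fun _ : ℕ => ModSite.unit O) :=
  haveI : PreservesColimitsOfSize.{0, 0} (tL X) := preservesColimitsOfSize_shrink.{0, u, 0, u} _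
  Sigma.mapIso (fun _ => (unitIso.app X).symm) ≪≫
    (PreservesCoproduct.iso (tL X) (fun _ : ℕ => ModSite.unit O)).symm

theorem ι_sigmaIso (X : ModSite.Mod O) (n : ℕ) :
    Sigma.ι (fun _ : ℕ => X) n ≫ (sigmaIso X).hom =
      (unitIso.inv.app X : X ⟶ ten X (ModSite.unit O)) ≫ (tL X).map (Sigma.ι (fun _ : ℕ => ModSite.unit O) n) := by
  simp [sigmaIso, PreservesCoproduct.inv_hom]

theorem φ_comp_sigmaIso (X : ModSite.Mod O) :
    (φ (e s)).app X ≫ (sigmaIso X).hom = (sigmaIso X).hom ≫ (tL X).map (DerComp.awayMap s (ModSite.unit O)) := by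
  refine Sigma.hom_ext _ _ fun n => ?_
  have hu : DerComp.smulEnd s X ≫ (unitIso.inv.app X : X ⟶ ten X (ModSite.unit O)) =
      (unitIso.inv.app X : X ⟶ ten X (ModSite.unit O)) ≫ (tL X).map (DerComp.smulEnd s (ModSite.unit O)) := by
    rw [tL_map_smulEnd]
    exact DerComp.smulEnd_comm s _
  rw [← Category.assoc, ι_φ, Preadditive.sub_comp, Category.assoc, ι_sigmaIso, ι_sigmaIso,
    reassoc_of% (ι_sigmaIso X n), ← Functor.map_comp, DerComp.awayMap, Sigma.ι_desc, Functor.map_sub,
    Preadditive.comp_sub, Functor.map_comp]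
  exact congrArg _ ((Category.assoc _ _ _).symm.trans ((congrArg (· ≫ _) hu).trans (Category.assoc _ _ _)))

theorem p_eq (X : ModSite.Mod O) :
    (p s).app X = (sigmaIso X).hom ≫ (tL X).map (cokernel.π (DerComp.awayMap s (ModSite.unit O))) := by
  refine Sigma.hom_ext _ _ fun n => ?_
  rw [reassoc_of% (ι_sigmaIso X n)]
  simp [p]

theorem hp : φ (e s) ≫ p s = 0 := by
  ext1
  ext1 X
  rw [NatTrans.comp_app, p_eq, ← Category.assoc, φ_comp_sigmaIso, Category.assoc, ← Functor.map_comp,
    cokernel.condition, Functor.map_zero, comp_zero]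
  rfl

instance mono_φ (X : ModSite.Mod O) : Mono ((φ (e s)).app X) := by
  have h : (φ (e s)).app X = 𝟙 (∐ fun _ : ℕ => X) - DerLim.shiftMap (fun _ : ℕ => X) (fun _ => DerComp.smulEnd s X) := by
    refine Sigma.hom_ext _ _ fun n => ?_
    rw [ι_φ]
    simp [DerLim.shiftMap]
    rfl
  rw [h]
  exact Groth.L10.SeqColim.mono_one_sub_shift (fun _ : ℕ => X) _

theorem shortExact_p (X : ModSite.Mod O) :
    (ShortComplex.mk ((φ (e s)).app X) ((p s).app X) (NatTrans.congr_app (hp s) X)).ShortExact := by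
  let a := DerComp.awayMap s (ModSite.unit O)
  let S₀ := ShortComplex.mk a (cokernel.π a) (cokernel.condition a)
  have hS₀ : S₀.Exact := ShortComplex.exact_cokernel a
  haveI : Epi ((tL X).map (cokernel.π a)) := inferInstance
  have h₁ := hS₀.map_of_epi_of_preservesCokernel (tL X) (inferInstanceAs (Epi (cokernel.π a))) inferInstance
  let i : ShortComplex.mk ((φ (e s)).app X) ((p s).app X) (NatTrans.congr_app (hp s) X) ≅ S₀.map (tL X) :=
    ShortComplex.isoMk (sigmaIso X) (sigmaIso X) (Iso.refl _) (φ_comp_sigmaIso s X).symm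
      ((p_eq s X).symm.trans (Category.comp_id _).symm)
  refine { exact := (ShortComplex.exact_iff_of_iso i).2 h₁, mono_f := mono_φ s X, epi_g := ?_ }
  change Epi ((p s).app X)
  rw [p_eq]
  exact epi_comp _ _

/-- `- ⊗ O_s` preserves monomorphisms. -/
theorem isFlat_Os : ModSite.IsFlat (Os s) := by
  refine (isFlat_iff _).2 ⟨fun {X Y} f _ => ?_⟩
  let g := cokernel.π f
  haveI hmX : ∀ Z, Mono ((φ (e s)).app Z) := mono_φ s
  haveI : Mono ((sigmaF (ModSite.Mod O)).map f) := inferInstanceAs (Mono (Limits.Sigma.map fun _ : ℕ => f))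
  have w : (sigmaF (ModSite.Mod O)).map f ≫ (sigmaF (ModSite.Mod O)).map g = 0 := by
    rw [← Functor.map_comp, cokernel.condition, Functor.map_zero]
  -- `⊕ g` is a cokernel of `⊕ f`
  let hcok : IsColimit (CokernelCofork.ofπ ((sigmaF (ModSite.Mod O)).map g) w) :=
    CokernelCofork.IsColimit.ofπ _ _
      (fun {Z} k hk => Sigma.desc fun n => cokernel.desc f (Sigma.ι (fun _ : ℕ => Y) n ≫ k) (by
        have := Sigma.ι (fun _ : ℕ => X) n ≫= hk
        simpa [sigmaF] using this))
      (fun {Z} k hk => Sigma.hom_ext _ _ fun n => by simp [sigmaF, g])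
      (fun {Z} k hk m hm => Sigma.hom_ext _ _ fun n => by
        subst hm
        apply (cancel_epi g).1
        simp [sigmaF, g])
  have hex : (ShortComplex.mk _ _ w).Exact := ShortComplex.exact_of_g_is_cokernel _ hcok
  rw [Preadditive.mono_iff_cancel_zero]
  intro T a ha
  have hX := shortExact_p s X
  have hY := shortExact_p s Y
  haveI := hX.epi_g
  obtain ⟨T₁, q₁, _, b, hb⟩ := surjective_up_to_refinements_of_epi ((p s).app X) a
  have hb2 : (b ≫ (sigmaF (ModSite.Mod O)).map f) ≫ (p s).app Y = 0 := by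
    rw [Category.assoc, (p s).naturality f, ← Category.assoc, ← hb, Category.assoc, ha, comp_zero]
  obtain ⟨T₂, q₂, _, c, hc⟩ := hY.exact.exact_up_to_refinements _ hb2
  have hcg : c ≫ (sigmaF (ModSite.Mod O)).map g = 0 := by
    rw [← cancel_mono ((φ (e s)).app _), zero_comp, Category.assoc, (φ (e s)).naturality g, ← Category.assoc, ← hc,
      Category.assoc, Category.assoc, w, comp_zero, comp_zero]
  obtain ⟨T₃, q₃, _, d, hd⟩ := hex.exact_up_to_refinements c hcg
  have hd2 : q₃ ≫ q₂ ≫ b = d ≫ (φ (e s)).app X := by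
    rw [← cancel_mono ((sigmaF (ModSite.Mod O)).map f)]
    simp only [Category.assoc]
    rw [hc, ← (φ (e s)).naturality f]
    exact (Category.assoc _ _ _).symm.trans ((congrArg (· ≫ (φ (e s)).app Y) hd).trans (Category.assoc _ _ _))
  have : q₃ ≫ q₂ ≫ q₁ ≫ a = 0 := by
    rw [hb, ← Category.assoc q₂, ← Category.assoc q₃, hd2, Category.assoc]
    exact (congrArg (d ≫ ·) (NatTrans.congr_app (hp s) X)).trans comp_zero
  simpa only [← cancel_epi q₁, ← cancel_epi q₂, ← cancel_epi q₃, comp_zero] using this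

end Groth.L04.AwayTensor
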