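import Groth.Agent.L04.DerComp.Detect
import Groth.Agent.L10.DerivedAdj
import Groth.Agent.L15.ExtZero.Exact

/-!
# The sheaf of ideals of sections for which an object is derived complete
-/

set_option autoImplicit false
set_option backward.defeqAttrib.useBackward true
set_option backward.isDefEq.respectTransparency false

universe u

open CategoryTheory CategoryTheory.Limits Opposite

noncomputable section

attribute [local instance] HasDerivedCategory.standard

namespace Groth.L04.DerComp

variable {C : Type u} [SmallCategory C] {J : GrothendieckTopology C} {O : Sheaf J CommRingCat.{u}}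

theorem secM_add (U : C) {M : ModSite.Mod O} (a b : ModSite.freeOn O U ⟶ M) :
    secM O U M (a + b) = secM O U M a + secM O U M b := by
  rw [← Category.id_comp (a + b), secM_comp]
  conv_rhs => rw [← Category.id_comp a, ← Category.id_comp b, secM_comp, secM_comp]
  rfl

theorem secM_zero (U : C) {M : ModSite.Mod O} : secM O U M 0 = 0 := by
  rw [← Category.id_comp (0 : ModSite.freeOn O U ⟶ M), secM_comp]
  rfl

theorem mulEnd_add (U : C) (a b : O.obj.obj (op U)) : mulEnd U (a + b) = mulEnd U a + mulEnd U b := by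
  apply (secM O U _).injective
  rw [secM_add, mulEnd, mulEnd, mulEnd, Equiv.apply_symm_apply, Equiv.apply_symm_apply, Equiv.apply_symm_apply]
  exact add_smul a b _

theorem mulEnd_zero (U : C) : mulEnd U (0 : O.obj.obj (op U)) = 0 := by
  apply (secM O U _).injective
  rw [secM_zero, mulEnd, Equiv.apply_symm_apply]
  exact zero_smul _ _

theorem mulEnd_mul (U : C) (a b : O.obj.obj (op U)) : mulEnd U (a * b) = mulEnd U a ≫ mulEnd U b := by
  apply (secM O U _).injective
  rw [secM_mulEnd, mulEnd, mulEnd, Equiv.apply_symm_apply, Equiv.apply_symm_apply]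
  exact mul_smul a b _

variable (K : DerivedCategory (ModSite.Mod O))

theorem freeMul_add (V : C) (a b : O.obj.obj (op V)) (n : ℤ) :
    preEnd (freeMul V (a + b) n) K = preEnd (freeMul V a n) K + preEnd (freeMul V b n) K := by
  ext x
  change freeMul V (a + b) n ≫ x = freeMul V a n ≫ x + freeMul V b n ≫ x
  rw [← Preadditive.add_comp]
  congr 1
  simp only [freeMul, mulEnd_add, Functor.map_add]

theorem freeMul_mul (V : C) (a b : O.obj.obj (op V)) (n : ℤ) :
    preEnd (freeMul V (a * b) n) K = preEnd (freeMul V a n) K * preEnd (freeMul V b n) K := by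
  ext x
  change freeMul V (a * b) n ≫ x = freeMul V a n ≫ freeMul V b n ≫ x
  rw [← Category.assoc]
  congr 1
  simp only [freeMul, mulEnd_mul, Functor.map_comp]

theorem freeMul_commute (V : C) (a b : O.obj.obj (op V)) (n : ℤ) :
    Commute (preEnd (freeMul V a n) K) (preEnd (freeMul V b n) K) := by
  change _ * _ = _ * _
  rw [← freeMul_mul, ← freeMul_mul, mul_comm]

variable {K}

theorem TzAt.add {V : C} {a b : O.obj.obj (op V)} (ha : TzAt K V a) (hb : TzAt K V b) : TzAt K V (a + b) :=
  fun n => freeMul_add K V a b n ▸ Tz.add (freeMul_commute K V a b n) (ha n) (hb n)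

theorem TzAt.mul {V : C} (a : O.obj.obj (op V)) {b : O.obj.obj (op V)} (hb : TzAt K V b) : TzAt K V (a * b) :=
  fun n => freeMul_mul K V a b n ▸ Tz.mul (freeMul_commute K V a b n) (hb n)

theorem TzAt.zero (V : C) : TzAt K V (0 : O.obj.obj (op V)) := fun n => by
  have : preEnd (freeMul V (0 : O.obj.obj (op V)) n) K = 0 := by
    ext x
    change freeMul V (0 : O.obj.obj (op V)) n ≫ x = 0
    simp only [freeMul, mulEnd_zero, Functor.map_zero, zero_comp]
  exact this ▸ tz_zero

section Over

variable (O) (U : C)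

/-- Sections of a restriction. -/
def restrSect (W : Over U) (M : ModSite.Mod O) :
    ModSite.sect ((ModSite.restr O U).obj M) W ≃ ModSite.sect M W.left :=
  Equiv.refl _

theorem restrSect_smul (W : Over U) (M : ModSite.Mod O) (r : O.obj.obj (op W.left))
    (x : ModSite.sect ((ModSite.restr O U).obj M) W) :
    restrSect O U W M ((id r : (O.over U).obj.obj (op W)) • x) = r • restrSect O U W M x := rfl

/-- Free modules on the slice extend by zero to free modules. -/
def extZeroFreeEquiv (W : Over U) (M : ModSite.Mod O) :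
    ((ModSite.extZero O U).obj (ModSite.freeOn (O.over U) W) ⟶ M) ≃ ModSite.sect M W.left :=
  ((ModSite.extZeroAdj O U).homEquiv _ _).trans ((secM (O.over U) W ((ModSite.restr O U).obj M)).trans (restrSect O U W M))

theorem extZeroFreeEquiv_comp (W : Over U) {M N : ModSite.Mod O}
    (a : (ModSite.extZero O U).obj (ModSite.freeOn (O.over U) W) ⟶ M) (φ : M ⟶ N) :
    extZeroFreeEquiv O U W N (a ≫ φ) = φ.val.app (op W.left) (extZeroFreeEquiv O U W M a) := by
  simp only [extZeroFreeEquiv, Equiv.trans_apply]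
  rw [(ModSite.extZeroAdj O U).homEquiv_naturality_right, secM_comp]
  rfl

/-- `j_! O_W = O_{W.left}` -/
def extZeroFreeIso (W : Over U) :
    (ModSite.extZero O U).obj (ModSite.freeOn (O.over U) W) ≅ ModSite.freeOn O W.left where
  hom := (extZeroFreeEquiv O U W _).symm (secM O _ _ (𝟙 _))
  inv := (secM O _ _).symm (extZeroFreeEquiv O U W _ (𝟙 _))
  hom_inv_id := by
    apply (extZeroFreeEquiv O U W _).injective
    rw [extZeroFreeEquiv_comp, Equiv.apply_symm_apply, ← secM_comp, Category.id_comp, Equiv.apply_symm_apply]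
  inv_hom_id := by
    apply (secM O _ _).injective
    rw [secM_comp, Equiv.apply_symm_apply, ← extZeroFreeEquiv_comp, Category.id_comp, Equiv.apply_symm_apply]

theorem extZero_map_smulEnd_free (f : O.obj.obj (op U)) (W : Over U) :
    (ModSite.extZero O U).map (DerComp.smulEnd (DerComp.GSec.ofSect O U f) (ModSite.freeOn (O.over U) W)) ≫
        (extZeroFreeIso O U W).hom =
      (extZeroFreeIso O U W).hom ≫ mulEnd W.left ((O.obj.map W.hom.op).hom f) := by
  apply (extZeroFreeEquiv O U W _).injective
  have h1 : extZeroFreeEquiv O U W _ ((extZeroFreeIso O U W).hom ≫ mulEnd W.left ((O.obj.map W.hom.op).hom f)) =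
      secM O _ _ (mulEnd W.left ((O.obj.map W.hom.op).hom f)) := by
    rw [extZeroFreeEquiv_comp]
    change (mulEnd W.left _).val.app _ (extZeroFreeEquiv O U W _ ((extZeroFreeEquiv O U W _).symm _)) = _
    rw [Equiv.apply_symm_apply, ← secM_comp, Category.id_comp]
  rw [h1]
  simp only [extZeroFreeEquiv, Equiv.trans_apply]
  rw [(ModSite.extZeroAdj O U).homEquiv_naturality_left, DerComp.smulEnd_comm, secM_comp]
  rw [mulEnd, Equiv.apply_symm_apply]
  refine Eq.trans (restrSect_smul O U W _ ((O.obj.map W.hom.op).hom f) _) ?_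
  congr 1
  exact (extZeroFreeEquiv O U W _).apply_symm_apply (secM O W.left _ (𝟙 _))

/-- Free modules on `W ⊆ S` separate. -/
theorem isSeparating_sieve (S : Sieve U) (hS : S ∈ J U) :
    (ObjectProperty.ofObj fun W : {W : Over U // S W.hom} => ModSite.freeOn (O.over U) W.1).IsSeparating :=
  Groth.L10.FreeOn.isSeparating (O.over U) {W : Over U | S W.hom} fun X =>
    ⟨{ p : Σ Z : C, Z ⟶ X.left // S (p.2 ≫ X.hom) }, fun p => Over.mk (p.1.2 ≫ X.hom),
      fun p => Over.homMk p.1.2, by
        rw [GrothendieckTopology.mem_over_iff]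
        refine J.superset_covering (fun Z g hg => ?_) (J.pullback_stable X.hom hS)
        rw [Sieve.overEquiv_iff]
        exact ⟨_, 𝟙 _, _, Presieve.ofArrows.mk (⟨⟨Z, g⟩, hg⟩ : { p : Σ Z : C, Z ⟶ X.left // S (p.2 ≫ X.hom) }),
          Category.id_comp _⟩,
      fun p => p.2⟩

end Over

/-- Completeness for a section is local. -/
theorem tzAt_of_cover {U : C} {f : O.obj.obj (op U)} (S : Sieve U) (hS : S ∈ J U)
    (h : ∀ ⦃V : C⦄ (g : V ⟶ U), S g → TzAt K V ((O.obj.map g.op).hom f)) : TzAt K U f := by
  have hU := Groth.L10.shMod_isGrothendieckAbelian (ModSite.ringSh (O.over U))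
  have hO := Groth.L10.shMod_isGrothendieckAbelian (ModSite.ringSh O)
  haveI : EnoughInjectives (ModSite.Mod (O.over U)) := IsGrothendieckAbelian.enoughInjectives.{u}
  haveI : HasProductsOfShape ℕ (ModSite.Mod (O.over U)) := hasLimitsOfShape_of_equivalence
    (Discrete.equivalence (Equiv.ulift.{u} : ULift.{u} ℕ ≃ ℕ))
  let RD := (ModSite.restr O U).mapDerivedCategory
  let LD := (ModSite.extZero O U).mapDerivedCategory
  haveI : RD.IsRightDerivedFunctor (ModSite.restr O U).mapDerivedCategoryFactorsh.inv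
      (HomotopyCategory.quasiIso (ModSite.Mod O) (ComplexShape.up ℤ)) :=
    Functor.isRightDerivedFunctor_of_inverts _ _ _
  let ad : LD ⊣ RD := Groth.L10.DerivedAdj.derived (ModSite.extZeroAdj O U) RD
    (ModSite.restr O U).mapDerivedCategoryFactorsh.inv
  let T := RD.obj K
  let s := DerComp.GSec.ofSect O U f
  let t : T ⟶ T := s • 𝟙 T
  have ht : ∀ (W : Over U) (n : ℤ) (a : (SiteCmp.inD (O.over U) (ModSite.freeOn (O.over U) W))⟦n⟧ ⟶ T),
      ((DerivedCategory.singleFunctor (ModSite.Mod (O.over U)) 0).map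
        (DerComp.smulEnd s (ModSite.freeOn (O.over U) W)))⟦n⟧' ≫ a = a ≫ t := fun W n a => by
    have h1 : DerComp.smulEnd s (ModSite.freeOn (O.over U) W) = s • 𝟙 (ModSite.freeOn (O.over U) W) :=
      (Category.comp_id _).symm
    rw [h1, Functor.map_smul, Functor.map_smul, CategoryTheory.Functor.map_id, CategoryTheory.Functor.map_id,
      Linear.smul_comp, Linear.comp_smul, Category.comp_id]
    congr 1
    exact Category.id_comp a
  have key : ∀ (W : Over U) (n : ℤ),
      Tz (preEnd (freeMul W.left ((O.obj.map W.hom.op).hom f) n) K) ↔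
      Tz (preEnd (((DerivedCategory.singleFunctor (ModSite.Mod (O.over U)) 0).map
        (DerComp.smulEnd s (ModSite.freeOn (O.over U) W)))⟦n⟧') T) := fun W n => by
    refine Iff.trans ?_ (tz_iff_of_equiv (ad.homAddEquiv _ K) (preEnd (LD.map _) K) _ fun a =>
      ad.homEquiv_naturality_left _ a)
    let i₀ : ((DerivedCategory.singleFunctor (ModSite.Mod (O.over U)) 0) ⋙
        CategoryTheory.shiftFunctor _ n ⋙ LD).obj (ModSite.freeOn (O.over U) W) ≅
      ((ModSite.extZero O U) ⋙ DerivedCategory.singleFunctor (ModSite.Mod O) 0 ⋙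
        CategoryTheory.shiftFunctor _ n).obj (ModSite.freeOn (O.over U) W) :=
      (LD.commShiftIso n).app _ ≪≫ (CategoryTheory.shiftFunctor _ n).mapIso
        (((ModSite.extZero O U).mapDerivedCategorySingleFunctor 0).app _)
    refine (tz_preEnd_iff_of_iso (i₀ ≪≫ (CategoryTheory.shiftFunctor _ n).mapIso
      ((DerivedCategory.singleFunctor (ModSite.Mod O) 0).mapIso (extZeroFreeIso O U W))) _ _ ?_ K).symm
    have n1 := (LD.commShiftIso n).hom.naturality
      ((DerivedCategory.singleFunctor (ModSite.Mod (O.over U)) 0).map (DerComp.smulEnd s (ModSite.freeOn (O.over U) W)))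
    have n2 := ((ModSite.extZero O U).mapDerivedCategorySingleFunctor 0).hom.naturality
      (DerComp.smulEnd s (ModSite.freeOn (O.over U) W))
    simp only [i₀, Iso.trans_hom, Iso.app_hom, Functor.mapIso_hom, Category.assoc]
    rw [reassoc_of% n1]
    simp only [freeMul, Functor.comp_map, ← Functor.map_comp, Category.assoc]
    congr 2
    rw [reassoc_of% n2]
    simp only [Functor.comp_map, ← Functor.map_comp]
    congr 2
    exact extZero_map_smulEnd_free O U f W
  haveI : HasProductsOfShape ℕ (DerivedCategory (ModSite.Mod (O.over U))) := Groth.L10.DerivedProd.hasProductsOfShape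
  let ψ : (∏ᶜ fun _ : ℕ => T) ⟶ ∏ᶜ fun _ : ℕ => T :=
    Pi.lift fun i => Pi.π (fun _ : ℕ => T) i - Pi.π (fun _ : ℕ => T) (i + 1) ≫ t
  have hψ : ∀ (W : Over U) (n : ℤ),
      Tz (preEnd (((DerivedCategory.singleFunctor (ModSite.Mod (O.over U)) 0).map
        (DerComp.smulEnd s (ModSite.freeOn (O.over U) W)))⟦n⟧') T) ↔
      Function.Bijective (fun g : (SiteCmp.inD (O.over U) (ModSite.freeOn (O.over U) W))⟦n⟧ ⟶ ∏ᶜ fun _ : ℕ => T =>
        g ≫ ψ) := fun W n => by
    let Φ : ((SiteCmp.inD (O.over U) (ModSite.freeOn (O.over U) W))⟦n⟧ ⟶ ∏ᶜ fun _ : ℕ => T) ≃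
        (ℕ → ((SiteCmp.inD (O.over U) (ModSite.freeOn (O.over U) W))⟦n⟧ ⟶ T)) :=
      { toFun := fun g i => g ≫ Pi.π _ i
        invFun := fun x => Pi.lift x
        left_inv := fun g => by refine Pi.hom_ext _ _ fun i => ?_; simp
        right_inv := fun x => by funext i; simp }
    have hk : theta (preEnd (((DerivedCategory.singleFunctor (ModSite.Mod (O.over U)) 0).map
        (DerComp.smulEnd s (ModSite.freeOn (O.over U) W)))⟦n⟧') T) ∘ Φ = Φ ∘ (fun g => g ≫ ψ) := by
      funext g i
      change g ≫ Pi.π _ i - _ ≫ (g ≫ Pi.π _ (i + 1)) = (g ≫ ψ) ≫ Pi.π _ i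
      rw [ht]
      simp [ψ]
    constructor
    · intro h; exact (Function.Bijective.of_comp_iff' Φ.bijective _).1 (hk ▸ h.comp Φ.bijective)
    · intro h; exact (Function.Bijective.of_comp_iff _ Φ.bijective).1 (hk ▸ Φ.bijective.comp h)
  haveI : IsIso ψ := isIso_of_separating _ (isSeparating_sieve O U S hS) ψ
    fun W n => (hψ W.1 n).1 ((key W.1 n).1 (h W.1.hom W.2 n))
  intro n
  have h0 := (key (Over.mk (𝟙 U)) n).2 ((hψ _ n).2 ((asIso ψ).homToEquiv.bijective))
  have e : (O.obj.map (Over.mk (𝟙 U)).hom.op).hom f = f := by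
    change (O.obj.map (𝟙 U).op).hom f = f
    rw [op_id, CategoryTheory.Functor.map_id]
    rfl
  rw [e] at h0
  exact h0

variable (K)

/-- The sheaf of ideals of sections `f` with `T(K|_U, f) = 0`. -/
def candIdeal : DerComp.IdealSh O where
  ideal U :=
    { carrier := {f | ∀ ⦃V : C⦄ (g : V ⟶ U), TzAt K V ((O.obj.map g.op).hom f)}
      add_mem' := fun ha hb V g => by rw [map_add]; exact (ha g).add (hb g)
      zero_mem' := fun V g => by rw [map_zero]; exact TzAt.zero V
      smul_mem' := fun c f hf V g => by rw [smul_eq_mul, map_mul]; exact (hf g).mul _ }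
  map_mem {U V} g f hf W h := by
    rw [← CommRingCat.comp_apply, ← Functor.map_comp, ← op_comp]
    exact hf (h ≫ g)
  glue {U f} S hS h V g := tzAt_of_cover (S.pullback g) (J.pullback_stable g hS) fun W k hk => by
    have := h (k ≫ g) hk (𝟙 W)
    rw [op_id, CategoryTheory.Functor.map_id, op_comp, Functor.map_comp] at this
    exact this

theorem mem_candIdeal (U : C) (f : O.obj.obj (op U)) :
    f ∈ (candIdeal K).ideal U ↔ ∀ ⦃V : C⦄ (g : V ⟶ U), TzAt K V ((O.obj.map g.op).hom f) := Iff.rfl

theorem isDerComp_iff_le (I : DerComp.IdealSh O) : DerComp.IsDerComp O I K ↔ I ≤ candIdeal K := by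
  rw [isDerComp_iff]
  refine ⟨fun h U f hf V g => h V _ (I.map_mem g hf), fun h V f hf => ?_⟩
  have := h V hf (𝟙 V)
  rw [op_id, CategoryTheory.Functor.map_id] at this
  exact this

end Groth.L04.DerComp
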