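import Groth.Agent.L04.DerComp.GlobalCompletion

/-!
# Completion is bijective on morphisms into objects with complete groups of morphisms
-/

set_option autoImplicit false
set_option backward.defeqAttrib.useBackward true
set_option backward.isDefEq.respectTransparency false

universe u

open CategoryTheory CategoryTheory.Limits CategoryTheory.Pretriangulated Opposite Groth.L10

noncomputable section

attribute [local instance] HasDerivedCategory.standard

namespace Groth.L04.DerComp

section Generic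

variable {T : Type*} [Category T] [Preadditive T] {R : Type*} [CommRing R] [Linear R T]

/-- Multiplication on morphisms. -/
def smulHom (s : R) (X Y : T) : AddMonoid.End (X ⟶ Y) := AddMonoidHom.mk' (fun a => s • a) fun a b => smul_add s a b

theorem smulHom_apply (s : R) (X Y : T) (a : X ⟶ Y) : smulHom s X Y a = s • a := rfl

variable [HasZeroObject T] [HasShift T ℤ] [∀ n : ℤ, (shiftFunctor T n).Additive] [Pretriangulated T]
  [∀ n : ℤ, (shiftFunctor T n).Linear R]

/-- Completeness for `s` of all `Hom(F[n], Y)`. -/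
def TzHom (s : R) (F Y : T) : Prop := ∀ n : ℤ, Tz (smulHom s (F⟦n⟧) Y)

theorem TzHom.shift {s : R} {F Y : T} (h : TzHom s F Y) (n : ℤ) : Tz (smulHom s (F⟦n⟧) (Y⟦(1 : ℤ)⟧)) := by
  let L₁ := shiftLin R (F⟦n⟧) (Y⟦(1 : ℤ)⟧) (-1)
  let L₂ : (((F⟦n⟧)⟦(-1 : ℤ)⟧) ⟶ Y) ≃ₗ[R] (F⟦n + -1⟧ ⟶ Y) :=
    Linear.homCongr R ((shiftFunctorAdd T n (-1)).app F).symm (Iso.refl Y)
  let L₃ : (((F⟦n⟧)⟦(-1 : ℤ)⟧) ⟶ Y) ≃ₗ[R] (F⟦n⟧ ⟶ Y⟦(1 : ℤ)⟧) :=
    (shiftLin R (F⟦n⟧) Y (-1)).trans (Linear.homCongr R (Iso.refl _) ((shiftFunctor T (-(-1 : ℤ))).mapIso (Iso.refl Y) ≪≫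
      eqToIso (by rw [neg_neg])))
  exact (tz_iff_of_equiv (L₂.symm.trans L₃).toAddEquiv _ _ fun a => map_smul (L₂.symm.trans L₃) s a).1 (h (n + -1))

/-- Completeness passes to the third object of a triangle. -/
theorem TzHom.obj₃ {s : R} {F : T} (t : Triangle T) (ht : t ∈ distTriang T) (h₁ : TzHom s F t.obj₁)
    (h₂ : TzHom s F t.obj₂) : TzHom s F t.obj₃ := by
  intro n
  have h1 := h₁ n
  have h2 := h₂ n
  have h1' := h₁.shift n
  have h2' := h₂.shift n
  refine ⟨fun x y hxy => sub_eq_zero.1 ?_, fun y => ?_⟩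
  · have hz : ∀ i, (x - y) i - s • (x - y) (i + 1) = 0 := fun i => by
      have := congrFun hxy i
      simp only [theta_apply, smulHom_apply] at this
      rw [Pi.sub_apply, Pi.sub_apply, smul_sub, sub_sub_sub_comm, this, sub_self]
    generalize x - y = z at hz ⊢
    have e1 : (fun i => z i ≫ t.mor₃) = 0 := h1'.1 (funext fun i => by
      simp only [theta_apply, smulHom_apply]
      rw [← Linear.smul_comp, ← Preadditive.sub_comp, hz, zero_comp]
      simp)
    choose w hw using fun i => Triangle.coyoneda_exact₃ t ht (z i) (congrFun e1 i)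
    have e2 : ∀ i, (w i - s • w (i + 1)) ≫ t.mor₂ = 0 := fun i => by
      rw [Preadditive.sub_comp, Linear.smul_comp, ← hw, ← hw]
      exact hz i
    choose v hv using fun i => Triangle.coyoneda_exact₂ t ht _ (e2 i)
    obtain ⟨u, hu⟩ := h1.2 v
    have e3 : (fun i => w i - u i ≫ t.mor₁) = 0 := h2.1 (funext fun i => by
      have := congrFun hu i
      simp only [theta_apply, smulHom_apply] at this ⊢
      have h' : theta (smulHom s (F⟦n⟧) t.obj₂) (0 : ℕ → _) i = 0 := by simp [theta_apply, smulHom_apply]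
      simp only [theta_apply, smulHom_apply] at h'
      rw [h', smul_sub, ← Linear.smul_comp, sub_sub_sub_comm, ← Preadditive.sub_comp, this, hv, sub_self])
    funext i
    rw [hw i, sub_eq_zero.1 (congrFun e3 i), Category.assoc, comp_distTriang_mor_zero₁₂ _ ht, comp_zero]
    rfl
  · obtain ⟨p, hp⟩ := h1'.2 fun i => y i ≫ t.mor₃
    have e4 : (fun i => p i ≫ t.mor₁⟦(1 : ℤ)⟧') = 0 := h2'.1 (funext fun i => by
      have := congrFun hp i
      simp only [theta_apply, smulHom_apply] at this ⊢
      rw [← Linear.smul_comp, ← Preadditive.sub_comp, this, Category.assoc, comp_distTriang_mor_zero₃₁ _ ht, comp_zero]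
      simp)
    choose x₀ hx₀ using fun i => Triangle.coyoneda_exact₁ t ht (p i) (congrFun e4 i)
    have e5 : ∀ i, (y i - (x₀ i - s • x₀ (i + 1))) ≫ t.mor₃ = 0 := fun i => by
      have := congrFun hp i
      simp only [theta_apply, smulHom_apply] at this
      rw [Preadditive.sub_comp, Preadditive.sub_comp, Linear.smul_comp, ← hx₀, ← hx₀, this, sub_self]
    choose q hq using fun i => Triangle.coyoneda_exact₃ t ht _ (e5 i)
    obtain ⟨r, hr⟩ := h2.2 q
    refine ⟨fun i => x₀ i + r i ≫ t.mor₂, funext fun i => ?_⟩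
    have := congrFun hr i
    simp only [theta_apply, smulHom_apply] at this ⊢
    rw [smul_add, ← Linear.smul_comp, add_sub_add_comm, ← Preadditive.sub_comp, this, ← hq]
    abel

theorem TzHom.coneS {s : R} {F X : T} (h : TzHom s F X) (c : R) : TzHom s F (DerComp.coneS c X) := by
  obtain ⟨g, δ, hd⟩ := coneS_spec c X
  exact TzHom.obj₃ _ hd h h

/-- Iterated cones detect objects with complete groups of morphisms. -/
theorem orth_of_tzHom (l : List R) {F X : T} (h : ∀ s ∈ l, TzHom s F X) (hz : IsZero (kos l X)) : Orth F X := by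
  induction l generalizing X with
  | nil => exact fun n => ⟨fun a b => hz.eq_of_tgt a b⟩
  | cons c l ih =>
    intro n
    have hb := (orth_coneS₂ c F X).1 (ih (fun s hs => (h s (List.mem_cons_of_mem _ hs)).coneS c) hz) n
    exact subsingleton_of_forall_eq 0 fun a =>
      (h c (List.mem_cons_self ..) n).eq_zero_of_iterate (Function.surjInv hb.2)
        (fun x => Function.surjInv_eq hb.2 x) a

end Generic

variable {C : Type u} [SmallCategory C] {J : GrothendieckTopology C} {O : Sheaf J CommRingCat.{u}}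

/-- Morphisms from any object into a complete object are complete. -/
theorem tz_of_isDerComp {I : DerComp.IdealSh O} {K : DerivedCategory (ModSite.Mod O)}
    (hK : DerComp.IsDerComp O I K) (s : DerComp.GSec O) (hs : ∀ V, s.1 V ∈ I.ideal V)
    (Y : DerivedCategory (ModSite.Mod O)) : Tz (smulHom s Y K) := by
  have hO := shMod_isGrothendieckAbelian (ModSite.ringSh O)
  haveI : EnoughInjectives (ModSite.Mod O) := IsGrothendieckAbelian.enoughInjectives.{u}
  haveI : KInjDerived.EnoughKInjectives (ModSite.Mod O) :=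
    @KInjDerived.instEnoughKInjectivesOfIsGrothendieckAbelian _ _ _ hO
  haveI : HasProductsOfShape ℕ (ModSite.Mod O) := hasLimitsOfShape_of_equivalence
    (Discrete.equivalence (Equiv.ulift.{u} : ULift.{u} ℕ ≃ ℕ))
  haveI : HasProductsOfShape ℕ (DerivedCategory (ModSite.Mod O)) := Groth.L10.DerivedProd.hasProductsOfShape
  let σ : (∏ᶜ fun _ : ℕ => K) ⟶ ∏ᶜ fun _ : ℕ => K :=
    𝟙 _ - Pi.lift fun i => s • Pi.π (fun _ : ℕ => K) (i + 1)
  let E : ∀ Y : DerivedCategory (ModSite.Mod O), (Y ⟶ ∏ᶜ fun _ : ℕ => K) ≃ (ℕ → (Y ⟶ K)) := fun Y =>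
    { toFun := fun g j => g ≫ Pi.π (fun _ : ℕ => K) j
      invFun := fun x => Pi.lift x
      left_inv := fun g => Pi.hom_ext _ _ fun j => Pi.lift_π _ _
      right_inv := fun x => funext fun j => Pi.lift_π _ _ }
  have hc : ∀ Y : DerivedCategory (ModSite.Mod O), theta (smulHom s Y K) ∘ E Y = E Y ∘ (fun g => g ≫ σ) := fun Y =>
    funext fun g => funext fun i => by
      show g ≫ Pi.π _ i - s • (g ≫ Pi.π _ (i + 1)) = (g ≫ σ) ≫ Pi.π _ i
      simp [σ, Category.assoc, Preadditive.sub_comp, Linear.comp_smul]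
  haveI : IsIso σ := by
    refine isIso_of_separating (fun V : (Set.univ : Set C) => ModSite.freeOn O V.1)
      (FreeOn.isSeparating O Set.univ fun U => ⟨PUnit.{u + 1}, fun _ => U, fun _ => 𝟙 U,
        J.superset_covering (fun Z g _ => ⟨U, g, 𝟙 U, Presieve.ofArrows.mk PUnit.unit, Category.comp_id g⟩) (J.top_mem U),
        fun _ => Set.mem_univ _⟩) σ fun V n => ?_
    have ht : Tz (smulHom s ((SiteCmp.inD O (ModSite.freeOn O V.1))⟦n⟧) K) := by
      have h1 := (isDerComp_iff I K).1 hK V.1 (s.1 V.1) (hs V.1) n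
      have h2 : preEnd (freeMul V.1 (s.1 V.1) n) K = smulHom s ((SiteCmp.inD O (ModSite.freeOn O V.1))⟦n⟧) K := by
        ext a
        rw [preEnd_apply, freeMul_gsec, Linear.smul_comp, Category.id_comp]
        rfl
      exact h2 ▸ h1
    have h3 : Function.Bijective (E ((SiteCmp.inD O (ModSite.freeOn O V.1))⟦n⟧) ∘ fun g => g ≫ σ) :=
      hc _ ▸ ht.comp (E _).bijective
    exact (Function.Bijective.of_comp_iff' (E _).bijective _).1 h3
  have h4 : Function.Bijective (theta (smulHom s Y K) ∘ E Y) := by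
    rw [hc]
    exact (E Y).bijective.comp ((asIso σ).homToEquiv (Z := Y)).bijective
  exact (Function.Bijective.of_comp_iff _ (E Y).bijective).1 h4

/-- Completion is bijective on morphisms into `G` when all `Hom(F[n], G)` are complete for the generators. -/
theorem bijective_map_of_tzHom {r : ℕ} {I : DerComp.IdealSh O} {s : Fin r → DerComp.GSec O} (hI : I.IsGenBy s)
    [DerComp.HasDerCompletion O I] (F G : DerivedCategory (ModSite.Mod O)) (hG : ∀ i, TzHom (s i) F G) :
    Function.Bijective (fun ψ : F ⟶ G => (DerComp.derCompletion O I).map ψ) := by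
  obtain ⟨W, g, δ, hT⟩ := distinguished_cocone_triangle (DerComp.toDerCompletion I G)
  have hW : Killed I W := killed_cone_toDerCompletion I G g δ hT
  have ho : Orth F W := orth_of_tzHom (List.ofFn s) (fun t ht => by
    obtain ⟨i, rfl⟩ := List.mem_ofFn.1 ht
    exact TzHom.obj₃ _ hT (hG i) fun n =>
      tz_of_isDerComp ((DerComp.derCompletion O I).obj G).property (s i) (hI.1 i) _) (isZero_kos_gens hI hW)
  let S := (shiftFunctorZero (DerivedCategory (ModSite.Mod O)) ℤ).app F
  have hb : Function.Bijective (fun x : F ⟶ G => x ≫ DerComp.toDerCompletion I G) := by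
    have h0 := (forall_bijective₂_iff _ hT F).2 ho 0
    have e : (fun x : F ⟶ G => x ≫ DerComp.toDerCompletion I G) =
        S.homFromEquiv ∘ (fun x => x ≫ DerComp.toDerCompletion I G) ∘ S.homFromEquiv.symm := by
      funext x
      change _ = S.inv ≫ (S.hom ≫ x) ≫ _
      simp
    rw [e]
    exact (Equiv.bijective _).comp (h0.comp (Equiv.bijective _))
  let e := (Equiv.ofBijective _ hb).trans
    ((DerComp.derCompletionAdj O I).homEquiv F ((DerComp.derCompletion O I).obj G)).symm
  have key : (fun ψ : F ⟶ G => (DerComp.derCompletion O I).map ψ) = e := funext fun ψ => by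
    show (DerComp.derCompletion O I).map ψ =
      ((DerComp.derCompletionAdj O I).homEquiv F ((DerComp.derCompletion O I).obj G)).symm
        (ψ ≫ DerComp.toDerCompletion I G)
    rw [Equiv.eq_symm_apply, Adjunction.homEquiv_unit]
    exact ((DerComp.derCompletionAdj O I).unit.naturality ψ).symm
  exact key ▸ e.bijective

end Groth.L04.DerComp
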