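import Groth.Agent.L10.FreeOn
import Groth.Agent.L10.SeqColim
import Groth.Agent.L15.KFlatSite.Basic
import Groth.Prelude.Def_DerComp
import Mathlib.CategoryTheory.Limits.Preserves.Shapes.Kernels
import Mathlib.CategoryTheory.Limits.Preserves.Shapes.Products

/-!
# A model of `j_{U!} O_{U,g}` built on the free module

`locCok O U g` is the cokernel of `1 - g · shift` on a countable sum of copies of `freeOn O U`.
-/

set_option autoImplicit false
set_option backward.defeqAttrib.useBackward true
set_option backward.isDefEq.respectTransparency false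

universe u

open CategoryTheory CategoryTheory.Limits Opposite

noncomputable section

namespace Groth.L04.DerComp

variable {C : Type u} [SmallCategory C] {J : GrothendieckTopology C} (O : Sheaf J CommRingCat.{u})

/-- Maps out of `freeOn` are sections, as elements of the module of sections. -/
def secM (U : C) (M : ModSite.Mod O) : (ModSite.freeOn O U ⟶ M) ≃ ModSite.sect M U :=
  Groth.L10.FreeOn.sec O U M

variable {O}

theorem secM_comp (U : C) {M N : ModSite.Mod O} (a : ModSite.freeOn O U ⟶ M) (φ : M ⟶ N) :
    secM O U N (a ≫ φ) = φ.val.app (op U) (secM O U M a) :=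
  Groth.L10.FreeOn.sec_comp O U a φ

/-- Multiplication by a section on the free module. -/
def mulEnd (U : C) (g : O.obj.obj (op U)) : ModSite.freeOn O U ⟶ ModSite.freeOn O U :=
  (secM O U _).symm (g • secM O U _ (𝟙 _))

theorem secM_mulEnd (U : C) (g : O.obj.obj (op U)) {M : ModSite.Mod O} (φ : ModSite.freeOn O U ⟶ M) :
    secM O U M (mulEnd U g ≫ φ) = g • secM O U M φ := by
  rw [secM_comp, mulEnd, Equiv.apply_symm_apply]
  refine (map_smul (φ.val.app (op U)).hom g _).trans ?_
  conv_rhs => rw [← Category.id_comp φ, secM_comp]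

/-- `1 - g · shift` on a countable sum of free modules. -/
def locMap (U : C) (g : O.obj.obj (op U)) :
    (∐ fun _ : ℕ => ModSite.freeOn O U) ⟶ ∐ fun _ : ℕ => ModSite.freeOn O U :=
  𝟙 _ - DerLim.shiftMap (fun _ : ℕ => ModSite.freeOn O U) (fun _ => mulEnd U g)

theorem ι_locMap (U : C) (g : O.obj.obj (op U)) (n : ℕ) :
    Sigma.ι (fun _ : ℕ => ModSite.freeOn O U) n ≫ locMap U g =
      Sigma.ι (fun _ : ℕ => ModSite.freeOn O U) n - mulEnd U g ≫ Sigma.ι (fun _ : ℕ => ModSite.freeOn O U) (n + 1) := by
  simp [locMap, DerLim.shiftMap]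

instance mono_locMap (U : C) (g : O.obj.obj (op U)) : Mono (locMap U g) :=
  Groth.L10.SeqColim.mono_one_sub_shift (fun _ : ℕ => ModSite.freeOn O U) _

/-- The model of `j_{U!} O_{U,g}`. -/
abbrev locCok (U : C) (g : O.obj.obj (op U)) : ModSite.Mod O := cokernel (locMap U g)

theorem locMap_shortExact (U : C) (g : O.obj.obj (op U)) :
    (ShortComplex.mk (locMap U g) (cokernel.π _) (cokernel.condition _)).ShortExact :=
  { exact := ShortComplex.exact_cokernel _ }

theorem extZero_map_smulEnd (U : C) (g : O.obj.obj (op U)) :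
    (ModSite.extZero O U).map (DerComp.smulEnd (DerComp.GSec.ofSect O U g) (ModSite.unit (O.over U))) = mulEnd U g := by
  apply (secM O U _).injective
  rw [mulEnd, Equiv.apply_symm_apply]
  let N := (ModSite.restr O U).obj (ModSite.freeOn O U)
  let e := (ModSite.extZeroAdj O U).homEquiv (ModSite.unit (O.over U)) (ModSite.freeOn O U)
  let h : ModSite.unit (O.over U) ⟶ N := e (𝟙 _)
  have h1 : e ((ModSite.extZero O U).map (DerComp.smulEnd (DerComp.GSec.ofSect O U g) (ModSite.unit (O.over U)))) =
      DerComp.smulEnd (DerComp.GSec.ofSect O U g) (ModSite.unit (O.over U)) ≫ h := by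
    rw [← (ModSite.extZeroAdj O U).homEquiv_naturality_left, Category.comp_id]
  change (id (Groth.L10.FreeOn.overSections O U _ (N.unitHomEquiv (e _))) : ModSite.sect (ModSite.freeOn O U) U) =
    g • (id (Groth.L10.FreeOn.overSections O U _ (N.unitHomEquiv h)) : ModSite.sect (ModSite.freeOn O U) U)
  rw [h1, DerComp.smulEnd_comm]
  change DerComp.GSec.val' (DerComp.GSec.ofSect O U g) (op (Over.mk (𝟙 U))) • _ =
    g • (id (Groth.L10.FreeOn.overSections O U _ (N.unitHomEquiv h)) : ModSite.sect (ModSite.freeOn O U) U)
  congr 1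
  change (O.obj.map (𝟙 U).op).hom g = g
  rw [op_id, CategoryTheory.Functor.map_id]
  rfl

/-- Extension by zero of the localised structure sheaf in the free model. -/
def extZeroAwayIso (U : C) (g : O.obj.obj (op U)) :
    (ModSite.extZero O U).obj (DerComp.awayOver O U g) ≅ locCok U g :=
  PreservesCokernel.iso (ModSite.extZero O U) (DerComp.awayMap (DerComp.GSec.ofSect O U g) (ModSite.unit (O.over U))) ≪≫
    cokernel.mapIso _ _ (PreservesCoproduct.iso (ModSite.extZero O U) (fun _ : ℕ => ModSite.unit (O.over U)))
      (PreservesCoproduct.iso (ModSite.extZero O U) (fun _ : ℕ => ModSite.unit (O.over U))) (by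
        rw [← cancel_epi (PreservesCoproduct.iso (ModSite.extZero O U) (fun _ : ℕ => ModSite.unit (O.over U))).inv,
          Iso.inv_hom_id_assoc]
        refine Sigma.hom_ext _ _ fun n => ?_
        rw [PreservesCoproduct.inv_hom, ι_comp_sigmaComparison_assoc, ← Functor.map_comp_assoc]
        rw [DerComp.awayMap, Sigma.ι_desc, Functor.map_sub, Functor.map_comp, Preadditive.sub_comp, Category.assoc,
          extZero_map_smulEnd, ι_locMap]
        simp only [← ι_comp_sigmaComparison, ← PreservesCoproduct.inv_hom, Category.assoc, Iso.inv_hom_id,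
          Category.comp_id])

end Groth.L04.DerComp
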