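import Groth.Agent.L04.DerComp.TzAlgebra
import Groth.Agent.L04.DerComp.FreeModel
import Groth.Agent.L10.HomotopyProd
import Groth.Prelude.Def_DerComp
import Mathlib.CategoryTheory.Triangulated.Yoneda

/-!
# Derived completeness through sequences in `Hom(j_! O_V, K[n])`
-/

set_option autoImplicit false
set_option backward.defeqAttrib.useBackward true
set_option backward.isDefEq.respectTransparency false

universe w v u

open CategoryTheory CategoryTheory.Limits CategoryTheory.Pretriangulated Opposite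

noncomputable section

namespace Groth.L04.DerComp

/-- Precomposition as an endomorphism of a group of morphisms. -/
def preEnd {T : Type*} [Category T] [Preadditive T] {X : T} (e : X ⟶ X) (K : T) : AddMonoid.End (X ⟶ K) :=
  AddMonoidHom.mk' (fun a => e ≫ a) fun _ _ => Preadditive.comp_add _ _ _ _ _ _

theorem preEnd_apply {T : Type*} [Category T] [Preadditive T] {X : T} (e : X ⟶ X) (K : T) (a : X ⟶ K) :
    preEnd e K a = e ≫ a := rfl

theorem tz_preEnd_iff_of_iso {T : Type*} [Category T] [Preadditive T] {X X' : T} (i : X ≅ X') (e : X ⟶ X)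
    (e' : X' ⟶ X') (h : e ≫ i.hom = i.hom ≫ e') (K : T) : Tz (preEnd e K) ↔ Tz (preEnd e' K) :=
  tz_iff_of_equiv
    { toEquiv := i.homFromEquiv, map_add' := fun a b => Preadditive.comp_add _ _ _ _ _ _ } _ _ fun a => by
      change i.inv ≫ e ≫ a = e' ≫ i.inv ≫ a
      rw [← Category.assoc, ← Category.assoc]
      congr 1
      rw [Iso.inv_comp_eq, ← Category.assoc, ← h, Category.assoc, Iso.hom_inv_id, Category.comp_id]

section Triangle

variable {T : Type*} [Category T] [Preadditive T] [HasZeroObject T] [HasShift T ℤ]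
  [∀ n : ℤ, (shiftFunctor T n).Additive] [Pretriangulated T]

theorem bijective_of_arrowIso {X Y X' Y' : T} (f : X ⟶ Y) (f' : X' ⟶ Y') (a : X ≅ X') (b : Y ≅ Y')
    (h : f ≫ b.hom = a.hom ≫ f') (K : T) (hf : Function.Bijective (fun g : Y ⟶ K => f ≫ g)) :
    Function.Bijective (fun g : Y' ⟶ K => f' ≫ g) := by
  have : (fun g : Y' ⟶ K => f' ≫ g) = a.homFromEquiv ∘ (fun g => f ≫ g) ∘ b.homFromEquiv.symm := by
    funext g
    change f' ≫ g = a.inv ≫ f ≫ b.hom ≫ g
    rw [reassoc_of% h, Iso.inv_hom_id_assoc]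
  rw [this]
  exact a.homFromEquiv.bijective.comp (hf.comp b.homFromEquiv.symm.bijective)

/-- The third object of a triangle maps trivially iff the first map induces bijections. -/
theorem forall_bijective_iff (t : Triangle T) (ht : t ∈ distTriang T) (K : T) :
    (∀ n : ℤ, Function.Bijective (fun g : t.obj₂⟦n⟧ ⟶ K => t.mor₁⟦n⟧' ≫ g)) ↔
      ∀ n : ℤ, Subsingleton (t.obj₃⟦n⟧ ⟶ K) := by
  constructor
  · intro h n
    have hn := Triangle.shift_distinguished t ht n
    let tn := (Triangle.shiftFunctor T n).obj t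
    refine subsingleton_of_forall_eq 0 fun (g : tn.obj₃ ⟶ K) => ?_
    have h1 : tn.mor₂ ≫ g = 0 := (h n).1 (by
      have := comp_distTriang_mor_zero₁₂ _ hn
      change (n.negOnePow • t.mor₁⟦n⟧') ≫ (n.negOnePow • t.mor₂⟦n⟧') = 0 at this
      rw [Linear.units_smul_comp, Linear.comp_units_smul, smul_smul, Int.units_mul_self, one_smul] at this
      change t.mor₁⟦n⟧' ≫ (n.negOnePow • t.mor₂⟦n⟧') ≫ g = t.mor₁⟦n⟧' ≫ 0
      rw [Linear.units_smul_comp, Linear.comp_units_smul, ← Category.assoc, this, zero_comp, comp_zero, smul_zero])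
    obtain ⟨k, hk⟩ := Triangle.yoneda_exact₃ tn hn g h1
    have hb := bijective_of_arrowIso (t.mor₁⟦n + 1⟧') ((t.mor₁⟦n⟧')⟦(1 : ℤ)⟧') ((shiftFunctorAdd T n 1).app t.obj₁)
      ((shiftFunctorAdd T n 1).app t.obj₂) ((shiftFunctorAdd T n 1).hom.naturality t.mor₁) K (h (n + 1))
    obtain ⟨k', rfl⟩ := hb.2 k
    have h31 := comp_distTriang_mor_zero₃₁ tn hn
    change tn.mor₃ ≫ (n.negOnePow • t.mor₁⟦n⟧')⟦(1 : ℤ)⟧' = 0 at h31
    rw [Functor.map_units_smul, Linear.comp_units_smul] at h31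
    rw [hk]
    change tn.mor₃ ≫ (t.mor₁⟦n⟧')⟦(1 : ℤ)⟧' ≫ k' = 0
    rw [← Category.assoc, (smul_eq_zero_iff_eq n.negOnePow).1 h31, zero_comp]
  · intro h n
    have hn := Triangle.shift_distinguished t ht n
    let tn := (Triangle.shiftFunctor T n).obj t
    refine ⟨fun a b hab => ?_, fun y => ?_⟩
    · haveI := h n
      obtain ⟨k, hk⟩ := Triangle.yoneda_exact₂ tn hn (a - b) (by
        change (n.negOnePow • t.mor₁⟦n⟧') ≫ (a - b) = 0
        rw [Linear.units_smul_comp, Preadditive.comp_sub, sub_eq_zero.2 hab, smul_zero])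
      rw [← sub_eq_zero, hk, Subsingleton.elim (α := t.obj₃⟦n⟧ ⟶ K) k 0, comp_zero]
    · haveI : Subsingleton (((t.obj₃⟦n⟧)⟦(-1 : ℤ)⟧) ⟶ K) := @Equiv.subsingleton _ _
        ((shiftFunctorAdd T n (-1)).app t.obj₃).symm.homFromEquiv (h (n + -1))
      obtain ⟨k, hk⟩ := Triangle.yoneda_exact₂ tn.invRotate (inv_rot_of_distTriang _ hn) y
        (Subsingleton.elim (α := ((t.obj₃⟦n⟧)⟦(-1 : ℤ)⟧) ⟶ K) _ 0)
      refine ⟨n.negOnePow • k, ?_⟩
      rw [hk]
      change t.mor₁⟦n⟧' ≫ (n.negOnePow • k) = (n.negOnePow • t.mor₁⟦n⟧') ≫ k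
      rw [Linear.units_smul_comp, Linear.comp_units_smul]

end Triangle

section General

variable {A : Type u} [Category.{v} A] [Abelian A] [HasDerivedCategory.{w} A]
  [Groth.L10.KInjDerived.EnoughKInjectives A] [HasCoproductsOfShape ℕ A]

local notation "s₀" => DerivedCategory.singleFunctor A 0

theorem single_coproduct_bijective (P : ℕ → A) (n : ℤ) (K : DerivedCategory A) :
    Function.Bijective (fun (g : ((s₀).obj (∐ P))⟦n⟧ ⟶ K) i => ((s₀).map (Sigma.ι P i))⟦n⟧' ≫ g) := by
  let S := HomologicalComplex.single A (ComplexShape.up ℤ) 0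
  let qQ := DerivedCategory.quotientCompQhIso A
  have h0 : ∀ L : DerivedCategory A, Function.Bijective
      (fun (g : (s₀).obj (∐ P) ⟶ L) i => (s₀).map (Sigma.ι P i) ≫ g) := fun L => by
    let e : DerivedCategory.Qh.obj ((HomotopyCategory.quotient A _).obj (∐ fun i => S.obj (P i))) ≅ (s₀).obj (∐ P) :=
      qQ.app _ ≪≫ DerivedCategory.Q.mapIso (asIso (sigmaComparison S P)) ≪≫
        ((DerivedCategory.singleFunctorIsoCompQ A 0).app (∐ P)).symm
    have he : ∀ i, DerivedCategory.Qh.map ((HomotopyCategory.quotient A _).map (Sigma.ι (fun i => S.obj (P i)) i)) ≫ e.hom =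
        (qQ.app _ ≪≫ ((DerivedCategory.singleFunctorIsoCompQ A 0).app (P i)).symm).hom ≫ (s₀).map (Sigma.ι P i) := fun i => by
      simp only [e, Iso.trans_hom, Iso.symm_hom, Iso.app_hom, Iso.app_inv, Functor.mapIso_hom, asIso_hom, Category.assoc]
      rw [← (DerivedCategory.singleFunctorIsoCompQ A 0).inv.naturality (Sigma.ι P i)]
      refine ((reassoc_of% (qQ.hom.naturality (Sigma.ι (fun i => S.obj (P i)) i))) _).trans ?_
      rw [← Functor.map_comp_assoc, ι_comp_sigmaComparison]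
      rfl
    have hc := Groth.L10.DerivedProd.hom_from_coproduct_bijective (fun i => S.obj (P i)) L
    have : (fun (g : (s₀).obj (∐ P) ⟶ L) i => (s₀).map (Sigma.ι P i) ≫ g) =
        (Equiv.piCongrRight fun i =>
          (qQ.app _ ≪≫ ((DerivedCategory.singleFunctorIsoCompQ A 0).app (P i)).symm).homFromEquiv (Z := L)) ∘
        (fun g i => DerivedCategory.Qh.map ((HomotopyCategory.quotient A _).map (Sigma.ι (fun i => S.obj (P i)) i)) ≫ g) ∘
        e.homFromEquiv.symm := by
      funext g i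
      change _ = Iso.inv _ ≫ DerivedCategory.Qh.map _ ≫ e.hom ≫ g
      rw [← Category.assoc (DerivedCategory.Qh.map _), he, Category.assoc, Iso.inv_hom_id_assoc]
    rw [this]
    exact (Equiv.bijective _).comp (hc.comp (Equiv.bijective _))
  let a := (shiftEquiv (DerivedCategory A) n).toAdjunction
  have : (fun (g : ((s₀).obj (∐ P))⟦n⟧ ⟶ K) i => ((s₀).map (Sigma.ι P i))⟦n⟧' ≫ g) =
      (Equiv.piCongrRight fun i => (a.homEquiv ((s₀).obj (P i)) K).symm) ∘
        (fun g i => (s₀).map (Sigma.ι P i) ≫ g) ∘ a.homEquiv ((s₀).obj (∐ P)) K := by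
    funext g i
    refine ((congrArg _ ((a.homEquiv _ K).symm_apply_apply g).symm).trans ?_)
    exact (a.homEquiv_naturality_left_symm _ _).symm
  rw [this]
  exact (Equiv.bijective _).comp ((h0 _).comp (Equiv.bijective _))

theorem forall_tz_iff (P : A) (m : P ⟶ P) [Mono (𝟙 _ - DerLim.shiftMap (fun _ : ℕ => P) (fun _ => m))]
    (K : DerivedCategory A) :
    (∀ n : ℤ, Tz (preEnd (((s₀).map m)⟦n⟧') K)) ↔
      ∀ n : ℤ, Subsingleton (((s₀).obj (cokernel (𝟙 _ - DerLim.shiftMap (fun _ : ℕ => P) (fun _ => m))))⟦n⟧ ⟶ K) := by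
  let A' := 𝟙 _ - DerLim.shiftMap (fun _ : ℕ => P) (fun _ => m)
  let S := ShortComplex.mk A' (cokernel.π A') (cokernel.condition _)
  have hS : S.ShortExact := { exact := ShortComplex.exact_cokernel _ }
  refine Iff.trans ?_ (forall_bijective_iff hS.singleTriangle hS.singleTriangle_distinguished K)
  refine forall_congr' fun n => ?_
  let Φ : (((s₀).obj (∐ fun _ : ℕ => P))⟦n⟧ ⟶ K) → (ℕ → (((s₀).obj P)⟦n⟧ ⟶ K)) :=
    fun g i => ((s₀).map (Sigma.ι (fun _ : ℕ => P) i))⟦n⟧' ≫ g
  have hΦ : Function.Bijective Φ := single_coproduct_bijective (fun _ : ℕ => P) n K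
  have key : theta (preEnd (((s₀).map m)⟦n⟧') K) ∘ Φ = Φ ∘ (fun g => ((s₀).map A')⟦n⟧' ≫ g) := by
    funext g i
    have h1 : Sigma.ι (fun _ : ℕ => P) i ≫ A' =
        Sigma.ι (fun _ : ℕ => P) i - m ≫ Sigma.ι (fun _ : ℕ => P) (i + 1) := by
      simp [A', DerLim.shiftMap]
    simp only [Function.comp_apply, theta_apply, preEnd_apply, Φ]
    rw [← Category.assoc (((s₀).map (Sigma.ι (fun _ : ℕ => P) i))⟦n⟧') (((s₀).map A')⟦n⟧'), ← Functor.map_comp,
      ← Functor.map_comp, h1, Functor.map_sub, Functor.map_sub, Preadditive.sub_comp, Functor.map_comp,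
      Functor.map_comp, Category.assoc]
  constructor
  · intro h
    exact (Function.Bijective.of_comp_iff' hΦ _).1 (key ▸ h.comp hΦ)
  · intro h
    exact (Function.Bijective.of_comp_iff _ hΦ).1 (key ▸ hΦ.comp h)

end General

section Site

attribute [local instance] HasDerivedCategory.standard

variable {C : Type u} [SmallCategory C] {J : GrothendieckTopology C} {O : Sheaf J CommRingCat.{u}}

/-- Multiplication by `g` on `j_! O_V[n]`. -/
def freeMul (V : C) (g : O.obj.obj (op V)) (n : ℤ) :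
    (SiteCmp.inD O (ModSite.freeOn O V))⟦n⟧ ⟶ (SiteCmp.inD O (ModSite.freeOn O V))⟦n⟧ :=
  ((DerivedCategory.singleFunctor (ModSite.Mod O) 0).map (mulEnd V g))⟦n⟧'

/-- `K` is complete for the section `g` at `V`. -/
def TzAt (K : DerivedCategory (ModSite.Mod O)) (V : C) (g : O.obj.obj (op V)) : Prop :=
  ∀ n : ℤ, Tz (preEnd (freeMul V g n) K)

theorem tzAt_iff (K : DerivedCategory (ModSite.Mod O)) (V : C) (g : O.obj.obj (op V)) :
    TzAt K V g ↔ ∀ n : ℤ,
      Subsingleton (SiteCmp.inD O ((ModSite.extZero O V).obj (DerComp.awayOver O V g)) ⟶ K⟦n⟧) := by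
  have := Groth.L10.shMod_isGrothendieckAbelian (ModSite.ringSh O)
  haveI : Mono (𝟙 _ - DerLim.shiftMap (fun _ : ℕ => ModSite.freeOn O V) (fun _ => mulEnd V g)) := mono_locMap V g
  refine (forall_tz_iff (ModSite.freeOn O V) (mulEnd V g) K).trans ⟨fun h n => ?_, fun h n => ?_⟩
  · refine @Equiv.subsingleton _ _ ((((DerivedCategory.singleFunctor _ 0).mapIso (extZeroAwayIso V g)).homFromEquiv).trans
      ((shiftEquiv (DerivedCategory (ModSite.Mod O)) n).symm.toAdjunction.homEquiv _ _).symm) (h (-n))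
  · have h' := h (-n)
    have e : Subsingleton ((SiteCmp.inD O (locCok V g)) ⟶ K⟦-n⟧) :=
      @Equiv.subsingleton _ _ (((DerivedCategory.singleFunctor _ 0).mapIso (extZeroAwayIso V g)).homFromEquiv).symm h'
    exact @Equiv.subsingleton _ _ ((shiftEquiv (DerivedCategory (ModSite.Mod O)) n).toAdjunction.homEquiv _ _) e

theorem isDerComp_iff (I : DerComp.IdealSh O) (K : DerivedCategory (ModSite.Mod O)) :
    DerComp.IsDerComp O I K ↔ ∀ (V : C) (g : O.obj.obj (op V)), g ∈ I.ideal V → TzAt K V g :=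
  ⟨fun h V g hg => (tzAt_iff K V g).2 (h V g hg), fun h V g hg => (tzAt_iff K V g).1 (h V g hg)⟩

end Site

end Groth.L04.DerComp
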