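import Groth.Agent.L04.DerComp.Criterion
import Groth.Agent.L10.KInjDerived

/-!
# Separating families detect zero objects and isomorphisms in the derived category
-/

set_option autoImplicit false
set_option backward.defeqAttrib.useBackward true
set_option backward.isDefEq.respectTransparency false

universe w v u

open CategoryTheory CategoryTheory.Limits CategoryTheory.Pretriangulated

noncomputable section

namespace Groth.L04.DerComp

variable {A : Type u} [Category.{v} A] [Abelian A] [HasDerivedCategory.{w} A]
  [Groth.L10.KInjDerived.EnoughKInjectives A] {ι : Type*} (G : ι → A)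
  (hG : (ObjectProperty.ofObj G).IsSeparating)

local notation "s₀" => DerivedCategory.singleFunctor A 0

include hG in
theorem isZero_of_separating (X : DerivedCategory A)
    (h : ∀ i (n : ℤ), Subsingleton (((s₀).obj (G i))⟦n⟧ ⟶ X)) : IsZero X := by
  obtain ⟨I, f, hI, hf⟩ := Groth.L10.KInjDerived.EnoughKInjectives.exists_res (DerivedCategory.Q.objPreimage X)
  let e : DerivedCategory.Q.obj I ≅ X := (asIso (DerivedCategory.Q.map f)).symm ≪≫ DerivedCategory.Q.objObjPreimageIso X
  refine IsZero.of_iso ?_ e.symm
  have hac : I.Acyclic := fun m => by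
    have hex : Epi (I.toCycles (m - 1) m) := by
      refine Preadditive.epi_of_isZero_cokernel _ (IsZero.iff_id_eq_zero _ |>.2 ?_)
      rw [← cancel_epi (cokernel.π (I.toCycles (m - 1) m)), Category.comp_id, comp_zero]
      refine hG _ _ fun G' hG' k => ?_
      cases hG' with
      | mk i =>
        rw [comp_zero]
        let c : G i ⟶ I.X m := k ≫ I.iCycles m
        let x : (HomologicalComplex.single A (ComplexShape.up ℤ) m).obj (G i) ⟶ I :=
          HomologicalComplex.mkHomFromSingle c (fun j _ => by simp [c])
        have hx : DerivedCategory.Q.map x = 0 := by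
          let d : DerivedCategory.Q.obj ((HomologicalComplex.single A (ComplexShape.up ℤ) m).obj (G i)) ≅
              ((s₀).obj (G i))⟦-m⟧ :=
            ((DerivedCategory.singleFunctorIsoCompQ A m).app (G i)).symm ≪≫
              (((DerivedCategory.singleFunctors A).shiftIso (-m) m 0 (by omega)).app (G i)).symm
          rw [← cancel_epi d.inv, comp_zero, ← cancel_mono e.hom, zero_comp]
          exact (h i (-m)).elim _ _
        obtain ⟨H⟩ : Nonempty (Homotopy x 0) := by
          refine ⟨HomotopyCategory.homotopyOfEq _ _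
            ((Groth.L10.KInjDerived.qh_bijective _ ⟨(HomotopyCategory.quotient A _).obj I, hI⟩).injective ?_)⟩
          rw [← cancel_epi ((DerivedCategory.quotientCompQhIso A).inv.app _)]
          have h1 := (DerivedCategory.quotientCompQhIso A).inv.naturality x
          rw [hx, zero_comp] at h1
          refine h1.symm.trans ?_
          simp
        have hm := H.comm m
        rw [dNext_eq _ (show (ComplexShape.up ℤ).Rel m (m + 1) from rfl),
          prevD_eq _ (show (ComplexShape.up ℤ).Rel (m - 1) m by simp)] at hm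
        simp only [x, HomologicalComplex.mkHomFromSingle_f, HomologicalComplex.zero_f, add_zero,
          HomologicalComplex.single_obj_d, zero_comp, zero_add] at hm
        have hk : k = ((HomologicalComplex.singleObjXSelf (ComplexShape.up ℤ) m (G i)).inv ≫ H.hom m (m - 1)) ≫
            I.toCycles (m - 1) m := by
          rw [← cancel_mono (I.iCycles m), Category.assoc, Category.assoc, HomologicalComplex.toCycles_i, ← hm,
            Iso.inv_hom_id_assoc]
        rw [hk, Category.assoc, cokernel.condition, comp_zero]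
    rw [HomologicalComplex.exactAt_iff_isZero_homology]
    refine IsZero.of_epi_eq_zero (I.homologyπ m) ?_
    rw [← cancel_epi (I.toCycles (m - 1) m), HomologicalComplex.toCycles_comp_homologyπ, comp_zero]
  haveI : QuasiIso (0 : I ⟶ (HomologicalComplex.zero : CochainComplex A ℤ)) :=
    ⟨fun i => (quasiIsoAt_iff_exactAt _ _ (hac i)).2 (ShortComplex.exact_of_isZero_X₂ _
      ((HomologicalComplex.eval A (ComplexShape.up ℤ) i).map_isZero HomologicalComplex.isZero_zero))⟩
  exact (DerivedCategory.Q.map_isZero HomologicalComplex.isZero_zero).of_iso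
    (asIso (DerivedCategory.Q.map (0 : I ⟶ (HomologicalComplex.zero : CochainComplex A ℤ))))

include hG in
theorem isIso_of_separating {X Y : DerivedCategory A} (ψ : X ⟶ Y)
    (h : ∀ i (n : ℤ), Function.Bijective (fun g : ((s₀).obj (G i))⟦n⟧ ⟶ X => g ≫ ψ)) : IsIso ψ := by
  obtain ⟨Z, g, δ, hT⟩ := distinguished_cocone_triangle ψ
  refine (Triangle.isZero₃_iff_isIso₁ _ hT).1 (isZero_of_separating G hG Z fun i n => subsingleton_of_forall_eq 0 fun a => ?_)
  let W := (s₀).obj (G i)
  have h1 : a ≫ δ = 0 := by
    let ad := (shiftEquiv (DerivedCategory A) (1 : ℤ)).symm.toAdjunction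
    obtain ⟨z, hz⟩ : ∃ z, (ad.homEquiv (W⟦n⟧) X).symm (a ≫ δ) = z := ⟨_, rfl⟩
    have hzψ : z ≫ ψ = 0 := by
      rw [← hz, ← ad.homEquiv_naturality_right_symm, Category.assoc]
      change (ad.homEquiv (W⟦n⟧) Y).symm (a ≫ δ ≫ ψ⟦(1 : ℤ)⟧') = 0
      have h31 := comp_distTriang_mor_zero₃₁ _ hT
      change δ ≫ ψ⟦(1 : ℤ)⟧' = 0 at h31
      rw [h31, comp_zero, ad.homEquiv_counit]
      simp
    let sh := (shiftFunctorAdd (DerivedCategory A) n (-1)).app W
    have hz0 : sh.hom ≫ z = 0 := (h i (n + -1)).1 (show (sh.hom ≫ z) ≫ ψ = 0 ≫ ψ by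
      rw [Category.assoc, hzψ, comp_zero, zero_comp])
    have : z = 0 := by rw [← cancel_epi sh.hom, hz0, comp_zero]
    apply (ad.homEquiv _ _).symm.injective
    rw [hz, this, ad.homEquiv_counit]
    simp
  obtain ⟨b, rfl⟩ := Triangle.coyoneda_exact₃ _ hT a h1
  obtain ⟨c, rfl⟩ := (h i n).2 b
  have h12 := comp_distTriang_mor_zero₁₂ _ hT
  change ψ ≫ g = 0 at h12
  change (c ≫ ψ) ≫ g = 0
  rw [Category.assoc, h12, comp_zero]

end Groth.L04.DerComp
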