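import Groth.Agent.L04.DerComp.FreeModel
import Groth.Agent.L10.RDerTri
import Groth.Agent.L10.ModAcyc
import Groth.Agent.L10.SiteCover
import Groth.Prelude.Def_SiteCmp

/-!
# Inverse images of `j_{U!} O_{U,g}` and direct images of derived complete objects
-/

set_option autoImplicit false
set_option backward.defeqAttrib.useBackward true
set_option backward.isDefEq.respectTransparency false

universe u

open CategoryTheory CategoryTheory.Limits Opposite CategoryTheory.Abelian Groth.L10

noncomputable section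

attribute [local instance] HasDerivedCategory.standard

namespace Groth.L04.DerComp

variable {C : Type u} [SmallCategory C] {J : GrothendieckTopology C} {O_C : Sheaf J CommRingCat.{u}}
  {D : Type u} [SmallCategory D] {K : GrothendieckTopology D} {O_D : Sheaf K CommRingCat.{u}}
  (f : ModSite.RMor O_C O_D)

/-- The image of a section under the structure map. -/
def sharpAt (V : D) (g : O_D.obj.obj (op V)) : O_C.obj.obj (op (f.fn.obj V)) :=
  (f.sharp.hom.app (op V)).hom g

/-- Sections of a direct image. -/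
def pushSect (M : ModSite.Mod O_C) (V : D) : ModSite.sect (f.push.obj M) V ≃ ModSite.sect M (f.fn.obj V) :=
  Equiv.refl _

theorem pushSect_smul (M : ModSite.Mod O_C) (V : D) (g : O_D.obj.obj (op V)) (x : ModSite.sect (f.push.obj M) V) :
    pushSect f M V (g • x) = sharpAt f V g • pushSect f M V x := rfl

/-- Maps out of the inverse image of a free module. -/
def pullSec (V : D) (M : ModSite.Mod O_C) :
    (f.pull.obj (ModSite.freeOn O_D V) ⟶ M) ≃ ModSite.sect M (f.fn.obj V) :=
  (f.adj.homEquiv _ _).trans ((secM O_D V _).trans (pushSect f M V))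

theorem pullSec_comp (V : D) {M N : ModSite.Mod O_C} (a : f.pull.obj (ModSite.freeOn O_D V) ⟶ M) (φ : M ⟶ N) :
    pullSec f V N (a ≫ φ) = φ.val.app (op (f.fn.obj V)) (pullSec f V M a) := by
  simp only [pullSec, Equiv.trans_apply]
  rw [f.adj.homEquiv_naturality_right, secM_comp]
  rfl

/-- The inverse image of a free module is free. -/
def pullFreeIso (V : D) : f.pull.obj (ModSite.freeOn O_D V) ≅ ModSite.freeOn O_C (f.fn.obj V) where
  hom := (pullSec f V _).symm (secM O_C _ _ (𝟙 _))
  inv := (secM O_C _ _).symm (pullSec f V _ (𝟙 _))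
  hom_inv_id := by
    apply (pullSec f V _).injective
    rw [pullSec_comp, Equiv.apply_symm_apply, ← secM_comp, Category.id_comp, Equiv.apply_symm_apply]
  inv_hom_id := by
    apply (secM O_C _ _).injective
    rw [secM_comp, Equiv.apply_symm_apply, ← pullSec_comp, Category.id_comp, Equiv.apply_symm_apply]

theorem pullSec_pull_map (V : D) (g : O_D.obj.obj (op V)) {M : ModSite.Mod O_C}
    (φ : f.pull.obj (ModSite.freeOn O_D V) ⟶ M) :
    pullSec f V M (f.pull.map (mulEnd V g) ≫ φ) = sharpAt f V g • pullSec f V M φ := by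
  simp only [pullSec, Equiv.trans_apply]
  rw [f.adj.homEquiv_naturality_left, secM_mulEnd, pushSect_smul]

theorem pullSec_hom (V : D) {M : ModSite.Mod O_C} (φ : ModSite.freeOn O_C (f.fn.obj V) ⟶ M) :
    pullSec f V M ((pullFreeIso f V).hom ≫ φ) = secM O_C _ _ φ := by
  rw [pullSec_comp]
  change φ.val.app _ (pullSec f V _ ((pullSec f V _).symm _)) = _
  rw [Equiv.apply_symm_apply, ← secM_comp, Category.id_comp]

theorem pull_map_mulEnd (V : D) (g : O_D.obj.obj (op V)) :
    f.pull.map (mulEnd V g) ≫ (pullFreeIso f V).hom = (pullFreeIso f V).hom ≫ mulEnd (f.fn.obj V) (sharpAt f V g) := by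
  apply (pullSec f V _).injective
  rw [pullSec_pull_map, pullSec_hom, ← Category.comp_id (mulEnd (f.fn.obj V) (sharpAt f V g)), secM_mulEnd]
  congr 1
  exact Equiv.apply_symm_apply _ _

/-- The comparison of sums of copies of free modules. -/
def pullSumIso (V : D) :
    f.pull.obj (∐ fun _ : ℕ => ModSite.freeOn O_D V) ≅ ∐ fun _ : ℕ => ModSite.freeOn O_C (f.fn.obj V) :=
  PreservesCoproduct.iso f.pull _ ≪≫ Sigma.mapIso fun _ => pullFreeIso f V

theorem ι_pullSumIso (V : D) (n : ℕ) :
    f.pull.map (Sigma.ι (fun _ : ℕ => ModSite.freeOn O_D V) n) ≫ (pullSumIso f V).hom =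
      (pullFreeIso f V).hom ≫ Sigma.ι (fun _ : ℕ => ModSite.freeOn O_C (f.fn.obj V)) n := by
  simp only [pullSumIso, Iso.trans_hom]
  rw [← ι_comp_sigmaComparison, ← PreservesCoproduct.inv_hom, Category.assoc, Iso.inv_hom_id_assoc]
  simp

theorem pull_map_locMap (V : D) (g : O_D.obj.obj (op V)) :
    f.pull.map (locMap V g) ≫ (pullSumIso f V).hom = (pullSumIso f V).hom ≫ locMap (f.fn.obj V) (sharpAt f V g) := by
  rw [← cancel_epi (PreservesCoproduct.iso f.pull (fun _ : ℕ => ModSite.freeOn O_D V)).inv]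
  refine Sigma.hom_ext _ _ fun n => ?_
  rw [PreservesCoproduct.inv_hom, ι_comp_sigmaComparison_assoc, ι_comp_sigmaComparison_assoc, ← Functor.map_comp_assoc,
    ι_locMap, Functor.map_sub, Preadditive.sub_comp, Functor.map_comp, Category.assoc, ι_pullSumIso, ι_pullSumIso,
    ← Category.assoc, pull_map_mulEnd, reassoc_of% (ι_pullSumIso f V n), ι_locMap, Preadditive.comp_sub]
  simp only [Category.assoc]

instance mono_pull_map_locMap (V : D) (g : O_D.obj.obj (op V)) : Mono (f.pull.map (locMap V g)) := by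
  have h : f.pull.map (locMap V g) =
      (pullSumIso f V).hom ≫ locMap (f.fn.obj V) (sharpAt f V g) ≫ (pullSumIso f V).inv := by
    rw [← Category.assoc, ← pull_map_locMap, Category.assoc, Iso.hom_inv_id, Category.comp_id]
  rw [h]
  infer_instance

/-- The inverse image of the localised module. -/
def pullLocCokIso (V : D) (g : O_D.obj.obj (op V)) :
    f.pull.obj (locCok V g) ≅ locCok (f.fn.obj V) (sharpAt f V g) :=
  PreservesCokernel.iso f.pull _ ≪≫ cokernel.mapIso _ _ (pullSumIso f V) (pullSumIso f V) (pull_map_locMap f V g)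

theorem acyc_of_iso {A : Type*} [Category A] [Abelian A] {B : Type*} [Category B] [Abelian B] [HasExt.{u + 1} B]
    {F : A ⥤ B} {X Y : B} (e : X ≅ Y) (h : AcycObj.Acyc F X) : AcycObj.Acyc F Y := fun I _ q => by
  have := h I q
  refine subsingleton_of_forall_eq 0 fun x => ?_
  rw [← Ext.mk₀_id_comp x, ← e.inv_hom_id, ← Ext.mk₀_comp_mk₀, Ext.comp_assoc_of_second_deg_zero,
    Subsingleton.elim ((Ext.mk₀ e.hom).comp x (zero_add _)) 0, Ext.comp_zero]

/-- Cokernels of monomorphisms between acyclic objects which stay monomorphisms after the left adjoint. -/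
theorem acyc_cokernel {A : Type*} [Category A] [Abelian A] {B : Type*} [Category B] [Abelian B] [HasExt.{u + 1} B]
    {F : A ⥤ B} {G : B ⥤ A} (adj : G ⊣ F) {S : ShortComplex B} (hS : S.ShortExact)
    (h₁ : AcycObj.Acyc F S.X₁) (h₂ : AcycObj.Acyc F S.X₂) [Mono (G.map S.f)] : AcycObj.Acyc F S.X₃ := fun I _ q => by
  refine subsingleton_of_forall_eq 0 fun x => ?_
  have := h₂ I q
  obtain ⟨y, hy⟩ := Ext.contravariant_sequence_exact₃ hS _ x (Subsingleton.elim _ _) (n₀ := q) (by omega)
  cases q with
  | zero =>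
    obtain ⟨a, rfl⟩ := (Ext.mk₀_bijective _ _).2 y
    obtain ⟨b, hb⟩ := Injective.factors ((adj.homEquiv _ _).symm a) (G.map S.f)
    have ha : a = S.f ≫ adj.homEquiv _ _ b := by
      rw [← adj.homEquiv_naturality_left, hb, Equiv.apply_symm_apply]
    rw [← hy, ha, ← Ext.mk₀_comp_mk₀, hS.extClass_comp_assoc]
  | succ q =>
    have := h₁ I q
    rw [← hy, Subsingleton.elim y 0, Ext.comp_zero]

theorem acyc_locCok [HasExt.{u + 1} (ModSite.Mod O_D)] [EnoughInjectives (ModSite.Mod O_D)] (V : D)
    (g : O_D.obj.obj (op V)) : AcycObj.Acyc.{u + 1} f.push (locCok V g) := by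
  have h : AcycObj.Acyc.{u + 1} f.push (∐ fun _ : ℕ => ModSite.freeOn O_D V) :=
    AcycObj.Acyc.coprod f.push fun _ => acyc_of_iso (FreeOn.iso O_D V).symm (ModAcyc.acyc_free O_D f _)
  haveI : Mono (f.pull.map (ShortComplex.mk (locMap V g) (cokernel.π _) (cokernel.condition _)).f) :=
    mono_pull_map_locMap f V g
  exact acyc_cokernel f.adj (locMap_shortExact V g) h h

theorem shift_hom_subsingleton_iff {A : Type*} [Category A] [Abelian A] [HasDerivedCategory A] (X : A)
    (Y : DerivedCategory A) (n : ℤ) :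
    Subsingleton ((DerivedCategory.singleFunctor A 0).obj X ⟶ Y⟦n⟧) ↔
      Subsingleton ((DerivedCategory.singleFunctor A n).obj X ⟶ Y) :=
  (((shiftEquiv (DerivedCategory A) n).symm.toAdjunction.homEquiv _ _).symm.trans
    (((DerivedCategory.singleFunctors A).shiftIso (-n) n 0 (by omega)).app X).homFromEquiv).subsingleton_congr

/-- Direct images preserve derived completeness. -/
theorem isDerComp_RpushD [SiteCmp.HasRpushD f] (I : DerComp.IdealSh O_D) (I' : DerComp.IdealSh O_C)
    (hf : DerComp.RMapsIdealInto f I I') (M : DerivedCategory (ModSite.Mod O_C))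
    (hM : DerComp.IsDerComp O_C I' M) : DerComp.IsDerComp O_D I ((SiteCmp.RpushD f).obj M) := fun V g hg n => by
  have hC := shMod_isGrothendieckAbelian (ModSite.ringSh O_C)
  have hD := shMod_isGrothendieckAbelian (ModSite.ringSh O_D)
  have : HasExt.{u + 1} (ModSite.Mod O_D) := HasExt.standard _
  have : EnoughInjectives (ModSite.Mod O_C) := IsGrothendieckAbelian.enoughInjectives.{u}
  have : EnoughInjectives (ModSite.Mod O_D) := IsGrothendieckAbelian.enoughInjectives.{u}
  have : KInjDerived.EnoughKInjectives (ModSite.Mod O_C) := @KInjDerived.instEnoughKInjectivesOfIsGrothendieckAbelian _ _ _ hC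
  have h := hM (f.fn.obj V) (sharpAt f V g) (hf V g hg) n
  rw [shift_hom_subsingleton_iff] at h ⊢
  refine @Equiv.subsingleton _ _ (((DerivedCategory.singleFunctor _ n).mapIso (extZeroAwayIso V g)).homFromEquiv) ?_
  haveI : Subsingleton ((DerivedCategory.singleFunctor (ModSite.Mod O_C) n).obj (f.pull.obj (locCok V g)) ⟶ M) :=
    @Equiv.subsingleton _ _ (((DerivedCategory.singleFunctor _ n).mapIso
      (pullLocCokIso f V g ≪≫ (extZeroAwayIso _ _).symm)).homFromEquiv) h
  refine subsingleton_of_forall_eq 0 fun a => ?_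
  exact RDerTri.hom_eq_zero ((SiteCmp.pushKh f).totalRightDerivedUnit DerivedCategory.Qh
    (HomotopyCategory.quasiIso (ModSite.Mod O_C) (ComplexShape.up ℤ))) f.adj (fun X => ModAcyc.enough O_D f X)
    _ (acyc_locCok f V g) n M (fun b => Subsingleton.elim b 0) a

end Groth.L04.DerComp
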