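import Groth.Agent.L15.PullFlat.Cone
import Groth.Agent.L15.FlatCrit.Relations
import Groth.Agent.L04.DerComp.Pull
import Groth.Prelude.Def_DerComp

/-!
# Local generators of an extended sheaf of ideals
-/

set_option autoImplicit false
set_option backward.defeqAttrib.useBackward true
set_option backward.isDefEq.respectTransparency false

universe u

open CategoryTheory CategoryTheory.Limits Opposite Groth.L15.FlatCrit Groth.L15.PullFlat

noncomputable section

namespace Groth.L04.DerComp

variable {C : Type u} [SmallCategory C] {J : GrothendieckTopology C} {O_C : Sheaf J CommRingCat.{u}}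
  {D : Type u} [SmallCategory D] {K : GrothendieckTopology D} {O_D : Sheaf K CommRingCat.{u}}
  (f : ModSite.RMor O_C O_D)

theorem sharpAt_res {V V' : D} (p : V' ⟶ V) (x : O_D.obj.obj (op V)) :
    sharpAt f V' (rr O_D p x) = rr O_C (f.fn.map p) (sharpAt f V x) :=
  congr($(f.sharp.hom.naturality p.op) x)

variable {f}

/-- Images of generators generate the extended ideal. -/
theorem isGenBy_over_fn {I : DerComp.IdealSh O_D} {I' : DerComp.IdealSh O_C} (hI' : DerComp.RIsIdealExt f I I')
    (W : D) {r : ℕ} (a : Fin r → O_D.obj.obj (op W))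
    (ha : (I.over W).IsGenBy fun i => DerComp.GSec.ofSect O_D W (a i)) :
    (I'.over (f.fn.obj W)).IsGenBy fun i => DerComp.GSec.ofSect O_C (f.fn.obj W) (sharpAt f W (a i)) := by
  haveI : PreservesFiniteLimits (Groth.L10.SiteFr.pullT (J := J) K f.fn) := f.exact
  have haW : ∀ i, a i ∈ I.ideal W := fun i => by
    have h1 : (O_D.obj.map (𝟙 W).op).hom (a i) ∈ I.ideal W := ha.1 i (Over.mk (𝟙 W))
    rwa [op_id, CategoryTheory.Functor.map_id] at h1
  refine ⟨fun i X => I'.map_mem X.hom (hI'.1 W (a i) (haW i)), fun J' hJ' X x hx => ?_⟩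
  let A : DerComp.IdealSh (O_D.over W) :=
    { ideal := fun Z =>
        { carrier := {x | ∀ (T : C) (m : T ⟶ f.fn.obj Z.left),
            rr O_C m (sharpAt f Z.left x) ∈ J'.ideal (Over.mk (m ≫ f.fn.map Z.hom))}
          zero_mem' := fun T m => by
            have h0 : rr O_C m (sharpAt f Z.left 0) = 0 :=
              (congrArg (rr O_C m) (map_zero (f.sharp.hom.app (op Z.left)).hom)).trans (map_zero _)
            exact h0 ▸ (J'.ideal (Over.mk (m ≫ f.fn.map Z.hom))).zero_mem
          add_mem' := fun {x y} hx hy T m => by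
            have h0 : rr O_C m (sharpAt f Z.left (x + y)) =
                rr O_C m (sharpAt f Z.left x) + rr O_C m (sharpAt f Z.left y) :=
              (congrArg (rr O_C m) (map_add (f.sharp.hom.app (op Z.left)).hom x y)).trans (map_add _ _ _)
            exact h0 ▸ (J'.ideal (Over.mk (m ≫ f.fn.map Z.hom))).add_mem (hx T m) (hy T m)
          smul_mem' := fun c x hx T m => by
            have h0 : rr O_C m (sharpAt f Z.left (c • x)) =
                rr O_C m (sharpAt f Z.left c) * rr O_C m (sharpAt f Z.left x) :=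
              (congrArg (rr O_C m) (map_mul (f.sharp.hom.app (op Z.left)).hom c x)).trans (map_mul _ _ _)
            exact h0 ▸ (J'.ideal (Over.mk (m ≫ f.fn.map Z.hom))).mul_mem_left _ (hx T m) }
      map_mem := fun {Z Z'} g x hx T m => by
        have h1 := hx T (m ≫ f.fn.map g.left)
        have e1 : rr O_C (m ≫ f.fn.map g.left) (sharpAt f Z.left x) =
            rr O_C m (sharpAt f Z'.left (rr O_D g.left x)) := by
          rw [sharpAt_res, rr_rr]
        have e2 : (m ≫ f.fn.map g.left) ≫ f.fn.map Z.hom = m ≫ f.fn.map Z'.hom := by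
          rw [Category.assoc, ← Functor.map_comp, Over.w g]
        have e3 : (Over.mk ((m ≫ f.fn.map g.left) ≫ f.fn.map Z.hom) : Over (f.fn.obj W)) =
            Over.mk (m ≫ f.fn.map Z'.hom) := by rw [e2]
        let i₀ : (Over.mk (m ≫ f.fn.map Z'.hom) : Over (f.fn.obj W)) ⟶
            Over.mk ((m ≫ f.fn.map g.left) ≫ f.fn.map Z.hom) := Over.homMk (𝟙 T) (by simp [e2])
        have h2 := J'.map_mem i₀ h1
        rw [e1] at h2
        change rr O_C (𝟙 T) _ ∈ _ at h2
        rw [rr, op_id, CategoryTheory.Functor.map_id] at h2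
        exact h2
      glue := fun {Z x} S hS h T m => by
        obtain ⟨R, hR, hRd⟩ := cover_preserve (J := J) (u := f.fn) ((GrothendieckTopology.mem_over_iff _ _).1 hS) m
        refine J'.glue ((Sieve.overEquiv (Over.mk (m ≫ f.fn.map Z.hom))).symm R)
          (GrothendieckTopology.overEquiv_symm_mem_over J _ _ (by assumption)) fun T' l hl => ?_
        obtain ⟨W', p, g', hp, he⟩ := hRd l.left ((Sieve.overEquiv_symm_iff _ _).1 hl)
        have h1 := h (Over.homMk p : Over.mk (p ≫ Z.hom) ⟶ Z) ((Sieve.overEquiv_iff S p).1 hp) T'.left g'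
        have e1 : rr O_C g' (sharpAt f W' (rr O_D p x)) = rr O_C l.left (rr O_C m (sharpAt f Z.left x)) := by
          rw [sharpAt_res, rr_rr, he]
          exact (rr_rr O_C m l.left _).symm
        let i₀ : T' ⟶ (Over.mk (g' ≫ f.fn.map (p ≫ Z.hom)) : Over (f.fn.obj W)) := Over.homMk (𝟙 T'.left) (by
          simp only [Over.mk_hom, Category.id_comp, Functor.map_comp]
          rw [← Category.assoc, he, Category.assoc]
          exact Over.w l)
        have h2 := J'.map_mem i₀ h1
        change rr O_C (𝟙 T'.left) (rr O_C g' (sharpAt f W' (rr O_D p x))) ∈ _ at h2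
        rw [rr_rr, Category.id_comp, e1] at h2
        exact h2 }
  have hA : I.over W ≤ A := ha.2 A fun i Z T m => by
    have e1 : rr O_C m (sharpAt f Z.left (rr O_D Z.hom (a i))) =
        rr O_C (m ≫ f.fn.map Z.hom) (sharpAt f W (a i)) := by
      rw [sharpAt_res, rr_rr]
    show rr O_C m (sharpAt f Z.left (rr O_D Z.hom (a i))) ∈ _
    rw [e1]
    exact hJ' i (Over.mk (m ≫ f.fn.map Z.hom))
  let B : DerComp.IdealSh O_C :=
    { ideal := fun Y =>
        { carrier := {x | ∀ (T : C) (h : T ⟶ Y) (k : T ⟶ f.fn.obj W), rr O_C h x ∈ J'.ideal (Over.mk k)}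
          zero_mem' := fun T h k => (map_zero (rr O_C h)).symm ▸ (J'.ideal (Over.mk k)).zero_mem
          add_mem' := fun {x y} hx hy T h k => (map_add (rr O_C h) x y).symm ▸
            (J'.ideal (Over.mk k)).add_mem (hx T h k) (hy T h k)
          smul_mem' := fun c x hx T h k => (map_mul (rr O_C h) c x).symm ▸
            (J'.ideal (Over.mk k)).mul_mem_left _ (hx T h k) }
      map_mem := fun {Y Y'} g x hx T h k => by
        show rr O_C h (rr O_C g x) ∈ _
        rw [rr_rr]
        exact hx T (h ≫ g) k
      glue := fun {Y x} S hS hx T h k => by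
        refine J'.glue ((Sieve.overEquiv (Over.mk k)).symm (S.pullback h))
          (GrothendieckTopology.overEquiv_symm_mem_over J _ _ (J.pullback_stable h hS))
          fun T' l hl => ?_
        have h1 := hx (l.left ≫ h) ((Sieve.overEquiv_symm_iff _ _).1 hl) T'.left (𝟙 _) T'.hom
        change rr O_C (𝟙 T'.left) (rr O_C (l.left ≫ h) x) ∈ _ at h1
        rw [rr_rr, Category.id_comp, ← rr_rr O_C h l.left] at h1
        exact h1 }
  have hB : DerComp.RMapsIdealInto f I B := fun V g hg T h k => by
    obtain ⟨S, hS, hSd⟩ := exists_pair (J := J) (K := K) (u := f.fn) h k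
    refine J'.glue ((Sieve.overEquiv (Over.mk k)).symm S)
      (GrothendieckTopology.overEquiv_symm_mem_over J _ _ (by assumption)) fun T' l hl => ?_
    obtain ⟨V', m, p, q, hp, hq⟩ := hSd l.left ((Sieve.overEquiv_symm_iff _ _).1 hl)
    have h1 := hA (Over.mk q) (I.map_mem p hg) T'.left m
    let i₀ : T' ⟶ (Over.mk (m ≫ f.fn.map q) : Over (f.fn.obj W)) := Over.homMk (𝟙 T'.left) (by
      simp only [Over.mk_hom, Category.id_comp]
      rw [hq]
      exact Over.w l)
    have h2 := J'.map_mem i₀ h1
    change rr O_C (𝟙 T'.left) (rr O_C m (sharpAt f V' (rr O_D p g))) ∈ _ at h2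
    rw [sharpAt_res, rr_rr, rr_rr, Category.id_comp, hp, ← rr_rr O_C h l.left] at h2
    exact h2
  have h3 := hI'.2 B hB X.left hx X.left (𝟙 _) X.hom
  change rr O_C (𝟙 X.left) x ∈ _ at h3
  rw [rr, op_id, CategoryTheory.Functor.map_id] at h3
  exact h3

end Groth.L04.DerComp
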