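import Mathlib.Algebra.Homology.HomotopyCategory.Pretriangulated
import Mathlib.Algebra.Homology.Single
import Mathlib.CategoryTheory.Linear.LinearFunctor
import Mathlib.Algebra.Homology.Linear

/-!
# Complexes with commuting endomorphisms and their iterated cones
-/

set_option autoImplicit false
set_option backward.defeqAttrib.useBackward true
set_option backward.isDefEq.respectTransparency false

universe t w v u

open CategoryTheory CategoryTheory.Limits CochainComplex

noncomputable section

namespace Groth.L04.DerComp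

variable {ι : Type w} {A : Type u} [Category.{v} A] [Preadditive A] [HasBinaryBiproducts A]

/-- A complex with a family of commuting endomorphisms. -/
structure Fam (ι : Type w) (A : Type u) [Category.{v} A] [Preadditive A] [HasBinaryBiproducts A] where
  /-- the complex -/
  K : CochainComplex A ℤ
  /-- the endomorphisms -/
  μ : ι → (K ⟶ K)
  comm : ∀ i j, μ i ≫ μ j = μ j ≫ μ i

namespace Fam

variable (F : Fam ι A)

/-- The cone of one endomorphism. -/
def cone (i : ι) : Fam ι A where
  K := mappingCone (F.μ i)
  μ j := mappingCone.map (F.μ i) (F.μ i) (F.μ j) (F.μ j) (F.comm i j)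
  comm j k := by
    rw [← mappingCone.map_comp, ← mappingCone.map_comp]
    simp only [F.comm j k]

/-- Iterated cones. -/
def kos : List ι → Fam ι A → Fam ι A
  | [], F => F
  | i :: L, F => kos L (F.cone i)

/-- Isomorphisms of families. -/
structure Iso' (F F' : Fam ι A) where
  /-- the isomorphism -/
  iso : F.K ≅ F'.K
  comm : ∀ i, F.μ i ≫ iso.hom = iso.hom ≫ F'.μ i

variable {F}

/-- Composition. -/
def Iso'.trans {F' F'' : Fam ι A} (e : Iso' F F') (e' : Iso' F' F'') : Iso' F F'' where
  iso := e.iso ≪≫ e'.iso
  comm i := by rw [Iso.trans_hom, ← Category.assoc, e.comm, Category.assoc, e'.comm, Category.assoc]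

/-- Cones of isomorphic families. -/
def Iso'.cone {F' : Fam ι A} (e : Iso' F F') (i : ι) : Iso' (F.cone i) (F'.cone i) where
  iso :=
    { hom := mappingCone.map (F.μ i) (F'.μ i) e.iso.hom e.iso.hom (e.comm i)
      inv := mappingCone.map (F'.μ i) (F.μ i) e.iso.inv e.iso.inv
        ((Iso.comp_inv_eq _).2 (by rw [Category.assoc, e.comm, Iso.inv_hom_id_assoc]))
      hom_inv_id := by
        simp only [← mappingCone.map_comp, Iso.hom_inv_id]
        exact mappingCone.map_id _
      inv_hom_id := by
        simp only [← mappingCone.map_comp, Iso.inv_hom_id]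
        exact mappingCone.map_id _ }
  comm j := by
    change mappingCone.map (F.μ i) (F.μ i) (F.μ j) (F.μ j) (F.comm i j) ≫
        mappingCone.map (F.μ i) (F'.μ i) e.iso.hom e.iso.hom (e.comm i) =
      mappingCone.map (F.μ i) (F'.μ i) e.iso.hom e.iso.hom (e.comm i) ≫
        mappingCone.map (F'.μ i) (F'.μ i) (F'.μ j) (F'.μ j) (F'.comm i j)
    rw [← mappingCone.map_comp, ← mappingCone.map_comp]
    simp only [e.comm j]

theorem Iso'.kos {F' : Fam ι A} (h : Nonempty (Iso' F F')) (L : List ι) :
    Nonempty (Iso' (Fam.kos L F) (Fam.kos L F')) := by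
  induction L generalizing F F' with
  | nil => exact h
  | cons i L ih => exact ih ⟨h.some.cone i⟩

variable {B : Type*} [Category B] [Preadditive B] [HasBinaryBiproducts B]

/-- Image under an additive functor. -/
def map (F : Fam ι A) (G : A ⥤ B) [G.Additive] : Fam ι B where
  K := (G.mapHomologicalComplex _).obj F.K
  μ i := (G.mapHomologicalComplex _).map (F.μ i)
  comm i j := by rw [← Functor.map_comp, ← Functor.map_comp, F.comm]

variable (G : A ⥤ B) [G.Additive]

/-- Images of isomorphisms. -/
def Iso'.map {F' : Fam ι A} (e : Iso' F F') : Iso' (F.map G) (F'.map G) where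
  iso := (G.mapHomologicalComplex _).mapIso e.iso
  comm i := by
    change (G.mapHomologicalComplex _).map (F.μ i) ≫ (G.mapHomologicalComplex _).map e.iso.hom = _
    rw [← Functor.map_comp, e.comm, Functor.map_comp]
    rfl

theorem map_map_comm {K L : CochainComplex A ℤ} (φ : K ⟶ L) (a : K ⟶ K) (b : L ⟶ L) (c : φ ≫ b = a ≫ φ) :
    (G.mapHomologicalComplex (ComplexShape.up ℤ)).map (mappingCone.map φ φ a b c) ≫
        (mappingCone.mapHomologicalComplexIso φ G).hom =
      (mappingCone.mapHomologicalComplexIso φ G).hom ≫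
        mappingCone.map _ _ ((G.mapHomologicalComplex (ComplexShape.up ℤ)).map a)
          ((G.mapHomologicalComplex (ComplexShape.up ℤ)).map b) (by rw [← Functor.map_comp, c, Functor.map_comp]) := by
  ext n
  simp [mappingCone.mapHomologicalComplexIso, mappingCone.mapHomologicalComplexXIso_eq φ G n (n + 1) rfl,
    mappingCone.ext_from_iff _ (n + 1) n rfl, mappingCone.ext_to_iff _ n (n + 1) rfl, mappingCone.map]
  refine ⟨?_, ?_⟩ <;> rw [← G.map_comp, ← G.map_comp] <;> congr 1 <;>
    simp [mappingCone.ext_from_iff _ (n + 1) n rfl]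

/-- Cones commute with additive functors. -/
def mapCone (F : Fam ι A) (i : ι) : Iso' ((F.cone i).map G) ((F.map G).cone i) where
  iso := mappingCone.mapHomologicalComplexIso (F.μ i) G
  comm j := map_map_comm G (F.μ i) (F.μ j) (F.μ j) (F.comm i j)

theorem map_kos (F : Fam ι A) (L : List ι) : Nonempty (Iso' ((Fam.kos L F).map G) (Fam.kos L (F.map G))) := by
  induction L generalizing F with
  | nil => exact ⟨⟨Iso.refl _, fun i => (Category.comp_id _).trans (Category.id_comp _).symm⟩⟩
  | cons i L ih => exact ⟨(ih (F.cone i)).some.trans (Iso'.kos ⟨mapCone G F i⟩ L).some⟩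

section Single

variable [HasZeroObject A]

/-- An object in degree `0` with commuting endomorphisms. -/
def single (X : A) (e : ι → (X ⟶ X)) (h : ∀ i j, e i ≫ e j = e j ≫ e i) : Fam ι A where
  K := (HomologicalComplex.single A (ComplexShape.up ℤ) 0).obj X
  μ i := (HomologicalComplex.single A (ComplexShape.up ℤ) 0).map (e i)
  comm i j := by rw [← Functor.map_comp, ← Functor.map_comp, h]

variable [HasZeroObject B]

/-- The image of an object in degree `0`. -/
def mapSingle (X : A) (e : ι → (X ⟶ X)) (h : ∀ i j, e i ≫ e j = e j ≫ e i) {Y : B} (φ : G.obj X ≅ Y)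
    (e' : ι → (Y ⟶ Y)) (h' : ∀ i j, e' i ≫ e' j = e' j ≫ e' i) (hφ : ∀ i, G.map (e i) ≫ φ.hom = φ.hom ≫ e' i) :
    Iso' ((single X e h).map G) (single Y e' h') where
  iso := (HomologicalComplex.singleMapHomologicalComplex G (ComplexShape.up ℤ) 0).app X ≪≫
    (HomologicalComplex.single B (ComplexShape.up ℤ) 0).mapIso φ
  comm i := by
    have n1 := (HomologicalComplex.singleMapHomologicalComplex G (ComplexShape.up ℤ) 0).hom.naturality (e i)
    simp only [Functor.comp_map] at n1
    simp only [Iso.trans_hom, Iso.app_hom, Functor.mapIso_hom, single, map]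
    rw [reassoc_of% n1, ← Functor.map_comp, hφ, Functor.map_comp, ← Category.assoc]

end Single

section Scalar

variable {R : Type t} [CommRing R] [Linear R A]

/-- The endomorphisms are scalars. -/
def Scalar (F : Fam ι A) (s : ι → R) : Prop := ∀ i, F.μ i = s i • 𝟙 F.K

omit [HasBinaryBiproducts A] in
theorem smul_single [HasZeroObject A] (X : A) (r : R) :
    (HomologicalComplex.single A (ComplexShape.up ℤ) 0).map (r • 𝟙 X) = r • 𝟙 _ := by
  apply HomologicalComplex.from_single_hom_ext
  simp [HomologicalComplex.single_map_f_self]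

theorem Scalar.cone {F : Fam ι A} {s : ι → R} (h : F.Scalar s) (i : ι) : (F.cone i).Scalar s := fun j => by
  change mappingCone.map (F.μ i) (F.μ i) (F.μ j) (F.μ j) (F.comm i j) = s j • 𝟙 (mappingCone (F.μ i))
  ext n
  simp [mappingCone.ext_from_iff _ (n + 1) n rfl, mappingCone.map, h j, Fam.cone]

end Scalar

end Fam

end Groth.L04.DerComp
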