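import Groth.Agent.L00.CellTower
import Groth.Prelude.Def_DerLim
import Groth.Agent.L10.AcycObj
import Groth.Agent.L10.HomotopyProd
import Groth.Agent.L10.RDerTri
import Mathlib.Algebra.Homology.HomotopyCategory.SingleFunctors
import Mathlib.CategoryTheory.Adjunction.PartialAdjoint

/-!
# Left adjoints of right derived functors

If `G ⊣ F` and every object is a quotient of an object acyclic for `F` (with sums), the unbounded right derived
functor of `F` has a left adjoint, computed by `G` on cell complexes of acyclic objects.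
-/

set_option autoImplicit false
set_option backward.defeqAttrib.useBackward true
set_option backward.isDefEq.respectTransparency false

universe w v u

open CategoryTheory CategoryTheory.Limits CategoryTheory.Pretriangulated CategoryTheory.Abelian CochainComplex
open DerivedCategory Groth.L10

namespace Groth.L04.LeftDerived

variable {A : Type u} [Category.{v} A] [Abelian A] {B : Type u} [Category.{v} B] [Abelian B] [HasExt.{w} B]
  (F : A ⥤ B) [F.Additive]

local notation "qA" => HomotopyCategory.quotient A (ComplexShape.up ℤ)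
local notation "qB" => HomotopyCategory.quotient B (ComplexShape.up ℤ)

/-- Objects of `K(B)` receiving only zero maps from acyclic objects placed in any degree. -/
def Perp (E : HomotopyCategory B (ComplexShape.up ℤ)) : Prop :=
  ∀ (Y : B), AcycObj.Acyc F Y → ∀ (m : ℤ), Subsingleton ((HomotopyCategory.singleFunctor B m).obj Y ⟶ E)

/-- Complexes with only zero maps into `Perp`. -/
def Good (P : HomotopyCategory B (ComplexShape.up ℤ)) : Prop := ∀ E, Perp F E → Subsingleton (P ⟶ E)

variable {F}

theorem perp_shift {E : HomotopyCategory B (ComplexShape.up ℤ)} (h : Perp F E) (n : ℤ) : Perp F (E⟦n⟧) :=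
  fun Y hY m => @Equiv.subsingleton _ _
    (((shiftEquiv (HomotopyCategory B (ComplexShape.up ℤ)) n).symm.toAdjunction.homEquiv _ _).symm.trans
      (((HomotopyCategory.singleFunctors B).shiftIso (-n) (m + n) m (by omega)).app Y).homFromEquiv)
    (h Y hY (m + n))

theorem good_single {Y : B} (hY : AcycObj.Acyc F Y) (m : ℤ) :
    Good F ((qB).obj ((HomologicalComplex.single B (ComplexShape.up ℤ) m).obj Y)) := fun _ hE => hE Y hY m

theorem good_of_iso {P P' : HomotopyCategory B (ComplexShape.up ℤ)} (e : P ≅ P') (h : Good F P) : Good F P' :=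
  fun E hE => @Equiv.subsingleton _ _ e.symm.homFromEquiv (h E hE)

theorem good_of_isZero {P : HomotopyCategory B (ComplexShape.up ℤ)} (h : IsZero P) : Good F P :=
  fun _ _ => ⟨fun a b => h.eq_of_src a b⟩

theorem good_coprod {ι : Type*} (K : ι → CochainComplex B ℤ) [HasCoproductsOfShape ι B]
    (h : ∀ i, Good F ((qB).obj (K i))) : Good F ((qB).obj (∐ K)) := fun E hE =>
  ⟨fun a b => (HomotopyProd.hom_from_coproduct_bijective K E).injective (funext fun i =>
    (h i E hE).elim _ _)⟩

theorem good_obj₃ (T : Triangle (HomotopyCategory B (ComplexShape.up ℤ))) (hT : T ∈ distTriang _)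
    (h₁ : Good F T.obj₁) (h₂ : Good F T.obj₂) : Good F T.obj₃ := fun E hE =>
  subsingleton_of_forall_eq 0 fun a => by
    haveI := h₂ E hE
    obtain ⟨g, rfl⟩ := T.yoneda_exact₃ hT a (Subsingleton.elim _ _)
    haveI : Subsingleton (T.obj₁⟦(1 : ℤ)⟧ ⟶ E) := @Equiv.subsingleton _ _
      ((shiftEquiv (HomotopyCategory B (ComplexShape.up ℤ)) (1 : ℤ)).toAdjunction.homEquiv _ _)
      (h₁ _ (perp_shift hE (-1)))
    rw [Subsingleton.elim g 0, comp_zero]

theorem good_obj₂ (T : Triangle (HomotopyCategory B (ComplexShape.up ℤ))) (hT : T ∈ distTriang _)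
    (h₁ : Good F T.obj₁) (h₃ : Good F T.obj₃) : Good F T.obj₂ := fun E hE =>
  subsingleton_of_forall_eq 0 fun a => by
    haveI := h₁ E hE
    obtain ⟨g, rfl⟩ := T.yoneda_exact₂ hT a (Subsingleton.elim _ _)
    rw [(h₃ E hE).elim g 0, comp_zero]

theorem good_mappingCone {P N : CochainComplex B ℤ} (φ : P ⟶ N) (hP : Good F ((qB).obj P))
    (hN : Good F ((qB).obj N)) : Good F ((qB).obj (mappingCone φ)) :=
  good_obj₃ _ (HomotopyCategory.mappingCone_triangleh_distinguished φ) hP hN

theorem good_of_zeroDiff [HasCoproductsOfShape ℤ B] (E : CochainComplex B ℤ) (hd : ∀ m n, E.d m n = 0)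
    (h : ∀ n, AcycObj.Acyc F (E.X n)) : Good F ((qB).obj E) := by
  let S : ℤ → CochainComplex B ℤ := fun q => (HomologicalComplex.single B (ComplexShape.up ℤ) q).obj (E.X q)
  let d : ∀ q, S q ⟶ E := fun q =>
    HomologicalComplex.mkHomFromSingle (𝟙 (E.X q)) (fun n _ => by rw [hd, comp_zero])
  let f : (∐ S) ⟶ E := Sigma.desc d
  haveI : ∀ m, IsIso (f.f m) := fun m => by
    let g : E.X m ⟶ (∐ S).X m :=
      (HomologicalComplex.singleObjXSelf (ComplexShape.up ℤ) m (E.X m)).inv ≫ (Sigma.ι S m).f m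
    refine ⟨⟨g, ?_, ?_⟩⟩
    · refine (isColimitOfPreserves (HomologicalComplex.eval B (ComplexShape.up ℤ) m)
        (colimit.isColimit (Discrete.functor S))).hom_ext ?_
      rintro ⟨q⟩
      change (Sigma.ι S q).f m ≫ f.f m ≫ g = (Sigma.ι S q).f m ≫ 𝟙 _
      rw [← Category.assoc, ← HomologicalComplex.comp_f, Sigma.ι_desc, Category.comp_id]
      by_cases hq : m = q
      · subst hq
        simp [d, g]
      · exact (HomologicalComplex.isZero_single_obj_X _ _ _ _ hq).eq_of_src _ _
    · change _ ≫ f.f m = _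
      rw [Category.assoc, ← HomologicalComplex.comp_f, Sigma.ι_desc]
      simp [d]
  haveI := HomologicalComplex.Hom.isIso_of_components f
  exact good_of_iso ((qB).mapIso (asIso f)) (good_coprod S fun q => good_single (h q) q)

/-- Colimits of sequences of degreewise split monomorphisms. -/
theorem good_colimit [HasColimitsOfShape ℕ B] [HasExactColimitsOfShape ℕ B] [HasCoproductsOfShape ℕ B]
    (K : ℕ ⥤ CochainComplex B ℤ) (c : Cocone K) (hc : IsColimit c)
    (hs : ∀ k n, IsSplitMono ((K.map (homOfLE (Nat.le_succ k))).f n))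
    (h : ∀ k, Good F ((qB).obj (K.obj k))) : Good F ((qB).obj c.pt) := by
  let sh := DerLim.shiftMap K.obj (fun k => K.map (homOfLE (Nat.le_succ k)))
  let g : (∐ K.obj) ⟶ c.pt := Sigma.desc c.ι.app
  have w : (𝟙 (∐ K.obj) - sh) ≫ g = 0 := Sigma.hom_ext _ _ fun k => by
    simp only [sh, DerLim.shiftMap, Preadditive.sub_comp, Category.id_comp, Preadditive.comp_sub, comp_zero, g,
      colimit.ι_desc, Cofan.mk_pt, Cofan.mk_ι_app, colimit.ι_desc_assoc, Category.assoc]
    rw [c.w, sub_self]
  let S := ShortComplex.mk (𝟙 (∐ K.obj) - sh) g w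
  have hι : ∀ k, Sigma.ι K.obj k ≫ (𝟙 (∐ K.obj) - sh) =
      Sigma.ι K.obj k - K.map (homOfLE (Nat.le_succ k)) ≫ Sigma.ι K.obj (k + 1) := fun k => by
    simp [sh, DerLim.shiftMap]
  have hgc : IsColimit (CokernelCofork.ofπ g w) := CokernelCofork.IsColimit.ofπ _ _
    (fun {Z} k hk => hc.desc
      { pt := Z
        ι := NatTrans.ofSequence (fun i => Sigma.ι K.obj i ≫ k) (fun i => by
          have h' : (Sigma.ι K.obj i - K.map (homOfLE (Nat.le_succ i)) ≫ Sigma.ι K.obj (i + 1)) ≫ k = 0 := by
            rw [← hι, Category.assoc, hk, comp_zero]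
          rw [Preadditive.sub_comp, Category.assoc, sub_eq_zero] at h'
          exact h'.symm.trans (Category.comp_id _).symm) })
    (fun {Z} k hk => Sigma.hom_ext _ _ fun i => by
      rw [← Category.assoc, colimit.ι_desc]
      exact hc.fac _ i)
    (fun {Z} k hk m hm => hc.hom_ext fun i => by
      rw [hc.fac]
      change c.ι.app i ≫ m = Sigma.ι K.obj i ≫ k
      conv_rhs => rw [← hm]
      simp [g])
  let σ : ∀ n, (S.map (HomologicalComplex.eval B (ComplexShape.up ℤ) n)).Splitting := fun n => by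
    let e := HomologicalComplex.eval B (ComplexShape.up ℤ) n
    let hl := isColimitOfHasCoproductOfPreservesColimit e K.obj
    let ρ : ∀ k, (K.obj (k + 1)).X n ⟶ (K.obj k).X n := fun k => (hs k n).exists_splitMono.some.retraction
    have hρ : ∀ k, (K.map (homOfLE (Nat.le_succ k))).f n ≫ ρ k = 𝟙 _ := fun k => (hs k n).exists_splitMono.some.id
    let r' : ∀ k, (K.obj k).X n ⟶ (∐ K.obj).X n := fun k =>
      Nat.rec (motive := fun k => (K.obj k).X n ⟶ (∐ K.obj).X n) 0
        (fun k x => ρ k ≫ (x - (Sigma.ι K.obj k).f n)) k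
    let r : (∐ K.obj).X n ⟶ (∐ K.obj).X n := Cofan.IsColimit.desc hl r'
    have hr : ∀ k, (Sigma.ι K.obj k).f n ≫ r = r' k := fun k => Cofan.IsColimit.fac hl _ k
    have hid : S.f.f n ≫ r = 𝟙 _ := Cofan.IsColimit.hom_ext hl _ _ fun k => by
      have h1 : (Sigma.ι K.obj k).f n ≫ S.f.f n = (Sigma.ι K.obj k).f n -
          (K.map (homOfLE (Nat.le_succ k))).f n ≫ (Sigma.ι K.obj (k + 1)).f n := by
        rw [← HomologicalComplex.comp_f, ← HomologicalComplex.comp_f, ← HomologicalComplex.sub_f_apply]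
        exact congrArg (fun t => HomologicalComplex.Hom.f t n) (hι k)
      refine ((Category.assoc _ _ _).symm.trans (congrArg (· ≫ r) h1)).trans ?_
      rw [Preadditive.sub_comp, hr, Category.assoc, hr]
      change r' k - (K.map (homOfLE (Nat.le_succ k))).f n ≫ ρ k ≫ (r' k - (Sigma.ι K.obj k).f n) = _
      rw [reassoc_of% (hρ k), sub_sub_cancel]
      exact (Category.comp_id _).symm
    haveI : IsSplitMono (S.f.f n) := IsSplitMono.mk' ⟨r, hid⟩
    haveI : Mono ((S.map e).f) := inferInstanceAs (Mono (S.f.f n))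
    haveI : Epi ((S.map e).g) := by
      haveI : Epi S.g := Cofork.IsColimit.epi hgc
      exact inferInstanceAs (Epi (e.map S.g))
    exact ShortComplex.Splitting.ofExactOfRetraction _
      ((ShortComplex.exact_of_g_is_cokernel S hgc).map e) r hid inferInstance
  have hT := (HomotopyCategory.distinguished_iff_iso_trianglehOfDegreewiseSplit _).2 ⟨S, σ, ⟨Iso.refl _⟩⟩
  exact good_obj₃ _ hT (good_coprod _ h) (good_coprod _ h)

section Compare

variable [EnoughInjectives A] {G : B ⥤ A} [G.Additive] (adj : G ⊣ F)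
  (hE : ∀ X : B, ∃ (Y : B) (p : Y ⟶ X), AcycObj.Acyc F Y ∧ Epi p)
  [HasDerivedCategory.{w} B]

local notation "Fh" => F.mapHomotopyCategory (ComplexShape.up ℤ)

include adj hE in
/-- Good complexes compute maps into images of K-injective complexes. -/
theorem qh_bijective [KInjDerived.EnoughKInjectives B] {P : HomotopyCategory B (ComplexShape.up ℤ)} (hP : Good F P)
    (I : CochainComplex A ℤ) [I.IsKInjective] :
    Function.Bijective (Qh.map : (P ⟶ (Fh).obj ((qA).obj I)) → _) := by
  let W₀ := (F.mapHomologicalComplex (ComplexShape.up ℤ)).obj I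
  obtain ⟨J, s, hJ, hs⟩ := KInjDerived.EnoughKInjectives.exists_res W₀
  let W : HomotopyCategory B (ComplexShape.up ℤ) := (qB).obj W₀
  let T := mappingCone.triangleh s
  have hT : T ∈ distTriang _ := HomotopyCategory.mappingCone_triangleh_distinguished s
  have hiso : IsIso (Qh.map T.mor₁) := Localization.inverts Qh (HomotopyCategory.quasiIso B (ComplexShape.up ℤ)) _
    ((HomotopyCategory.quotient_map_mem_quasiIso_iff _).2 ((HomologicalComplex.mem_quasiIso_iff _).2 hs))
  have hz : IsZero (Qh.obj T.obj₃) := (Triangle.isZero₃_iff_isIso₁ (Qh.mapTriangle.obj T)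
    (Qh.map_distinguished T hT)).2 hiso
  have hJb : ∀ X, Function.Bijective (Qh.map : (X ⟶ T.obj₂) → _) := fun X =>
    KInjDerived.qh_bijective X ⟨(qB).obj J, hJ⟩
  have hperp : Perp F T.obj₃ := fun Y hY m => subsingleton_of_forall_eq 0 fun g => by
    let eW : T.obj₁⟦(1 : ℤ)⟧ ≅ (Fh).obj ((qA).obj (I⟦(1 : ℤ)⟧)) :=
      ((Fh).commShiftIso (1 : ℤ)).symm.app ((qA).obj I) ≪≫
        (Fh).mapIso (((qA).commShiftIso (1 : ℤ)).symm.app I)
    have h1 : g ≫ T.mor₃ = 0 := by
      rw [← cancel_mono eW.hom, zero_comp]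
      refine (AcycObj.qh_bijective adj hE ((HomologicalComplex.single B (ComplexShape.up ℤ) m).obj Y) m
        (AcycObj.single_acyc Y hY m) (I⟦(1 : ℤ)⟧)).injective ?_
      rw [Functor.map_comp, Functor.map_comp, hz.eq_of_tgt (Qh.map g) 0, zero_comp, zero_comp]
      exact (Functor.map_zero _ _ _).symm
    obtain ⟨x, hx⟩ := T.coyoneda_exact₃ hT g h1
    obtain ⟨y, hy⟩ := (AcycObj.qh_bijective adj hE ((HomologicalComplex.single B (ComplexShape.up ℤ) m).obj Y) m
      (AcycObj.single_acyc Y hY m) I).surjective (Qh.map x ≫ inv (Qh.map T.mor₁))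
    have : x = y ≫ T.mor₁ := (hJb _).injective (by
      rw [Functor.map_comp]
      exact (((congrArg (· ≫ Qh.map T.mor₁) hy).trans (by simp))).symm)
    rw [hx, this, Category.assoc, comp_distTriang_mor_zero₁₂ _ hT, comp_zero]
  refine ⟨fun a b hab => ?_, fun y => ?_⟩
  · have h : (a - b) ≫ T.mor₁ = 0 := (hJb P).injective (by
      rw [Functor.map_comp, Functor.map_sub, hab, sub_self, zero_comp, Functor.map_zero])
    rw [← sub_eq_zero]
    obtain ⟨z, hz'⟩ := Triangle.coyoneda_exact₁ T hT ((a - b : P ⟶ T.obj₁)⟦(1 : ℤ)⟧') (by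
      rw [← Functor.map_comp, h, Functor.map_zero])
    refine (CategoryTheory.shiftFunctor (HomotopyCategory B (ComplexShape.up ℤ)) (1 : ℤ)).map_injective ?_
    haveI : Subsingleton (P⟦(1 : ℤ)⟧ ⟶ T.obj₃) := @Equiv.subsingleton _ _
      ((shiftEquiv (HomotopyCategory B (ComplexShape.up ℤ)) (1 : ℤ)).toAdjunction.homEquiv _ _)
      (hP _ (perp_shift hperp (-1)))
    refine hz'.trans ?_
    rw [Subsingleton.elim z 0, zero_comp, Functor.map_zero]
  · obtain ⟨x, hx⟩ := (hJb P).surjective (y ≫ Qh.map T.mor₁)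
    haveI := hP _ hperp
    obtain ⟨a, rfl⟩ := T.coyoneda_exact₂ hT x (Subsingleton.elim _ _)
    refine ⟨a, ?_⟩
    rw [← cancel_mono (Qh.map T.mor₁), ← Functor.map_comp]
    exact hx

variable [KInjDerived.EnoughKInjectives A] [KInjDerived.EnoughKInjectives B] [HasDerivedCategory.{w} A]
  {RF : DerivedCategory A ⥤ DerivedCategory B}
  (α : F.mapHomotopyCategory (ComplexShape.up ℤ) ⋙ Qh ⟶ Qh ⋙ RF)
  [RF.IsRightDerivedFunctor α (HomotopyCategory.quasiIso A (ComplexShape.up ℤ))]

include α adj hE in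
/-- The partial left adjoint is defined on every good complex. -/
theorem leftAdjointObjIsDefined_of_good {P : HomotopyCategory B (ComplexShape.up ℤ)} (hP : Good F P) :
    RF.leftAdjointObjIsDefined (Qh.obj P) := by
  let Gh := G.mapHomotopyCategory (ComplexShape.up ℤ)
  let ad := DerivedAdj.homotopyAdj adj
  let η : Qh.obj P ⟶ RF.obj (Qh.obj (Gh.obj P)) := Qh.map (ad.unit.app P) ≫ α.app (Gh.obj P)
  refine (Functor.leftAdjointObjIsDefined_iff _ _).2 ⟨⟨Qh.obj (Gh.obj P), ⟨?_⟩⟩⟩
  have hb : ∀ Y, Function.Bijective (fun g : Qh.obj (Gh.obj P) ⟶ Y => η ≫ RF.map g) := fun Y => by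
    obtain ⟨I, hI, ⟨e⟩⟩ := RDerTri.exists_rep Y
    haveI := KInjDerived.isIso_app_quotient α I
    have key : ∀ x : Gh.obj P ⟶ (qA).obj I, η ≫ RF.map (Qh.map x) =
        Qh.map (ad.homEquiv _ _ x) ≫ α.app ((qA).obj I) := fun x => by
      rw [ad.homEquiv_unit, Functor.map_comp]
      simp only [η, Category.assoc]
      congr 1
      exact (α.naturality x).symm
    have hbI : Function.Bijective (fun g : Qh.obj (Gh.obj P) ⟶ Qh.obj ((qA).obj I) => η ≫ RF.map g) := by
      rw [← Function.Bijective.of_comp_iff _ (KInjDerived.qh_bijective (Gh.obj P) ⟨(qA).obj I, hI⟩)]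
      refine (show (fun g => η ≫ RF.map g) ∘ Qh.map = (fun z => z ≫ α.app ((qA).obj I)) ∘ Qh.map ∘ ad.homEquiv _ _ from
        funext key) ▸ ?_
      exact ((asIso (α.app ((qA).obj I))).homToEquiv.bijective).comp
        ((qh_bijective adj hE hP I).comp (ad.homEquiv _ _).bijective)
    have : (fun g : Qh.obj (Gh.obj P) ⟶ Y => η ≫ RF.map g) =
        (RF.mapIso e).homToEquiv ∘ (fun g => η ≫ RF.map g) ∘ e.homToEquiv.symm := by
      funext g
      simp [← Functor.map_comp, Iso.homToEquiv]
    rw [this]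
    exact (RF.mapIso e).homToEquiv.bijective.comp (hbI.comp e.homToEquiv.symm.bijective)
  exact
    { homEquiv := fun {Y} => Equiv.ofBijective _ (hb Y)
      homEquiv_comp := fun {Y Y'} g f => by
        change η ≫ RF.map (f ≫ g) = (η ≫ RF.map f) ≫ RF.map g
        simp only [Functor.map_comp, Category.assoc, η] }

include α adj in
/-- The derived functor of a right adjoint is a right adjoint, given functorial covers by acyclic objects. -/
theorem isRightAdjoint_of_cover (cov : B ⥤ B) (π : cov ⟶ 𝟭 B) [∀ X, Epi (π.app X)]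
    (hcov : ∀ X, AcycObj.Acyc F (cov.obj X)) [HasCoproductsOfShape ℤ B] [HasColimitsOfShape ℕ B]
    [HasExactColimitsOfShape ℕ B] [HasCoproductsOfShape ℕ B] : RF.IsRightAdjoint := by
  have hE : ∀ X : B, ∃ (Y : B) (p : Y ⟶ X), AcycObj.Acyc F Y ∧ Epi p := fun X =>
    ⟨cov.obj X, π.app X, hcov X, inferInstance⟩
  refine Functor.isRightAdjoint_of_leftAdjointObjIsDefined_eq_top ?_
  ext X
  simp only [Pi.top_apply, Prop.top_eq_true, iff_true]
  let M := (Qh.objPreimage X).as
  let z : CochainComplex B ℤ := HomologicalComplex.zero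
  let e : Arrow (CochainComplex B ℤ) := Arrow.mk (0 : z ⟶ M)
  have hk : ∀ k : ℕ, Good F ((qB).obj ((Groth.L00.Cell.stage cov π k).left.obj e)) := fun k => by
    induction k with
    | zero => exact good_of_isZero ((qB).map_isZero HomologicalComplex.isZero_zero)
    | succ k ih => exact good_mappingCone _ (good_of_zeroDiff _ (fun _ _ => rfl) fun n => hcov _) ih
  have hP : Good F ((qB).obj ((Groth.L00.Cell.res cov π).obj e)) := by
    refine good_colimit _ (Groth.L00.Cell.resCocone cov π e) (Groth.L00.Cell.isColimitResCocone cov π e)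
      (fun k n => ?_) hk
    have h1 := congrArg (fun t => t.left.app e) (Groth.L00.Cell.tower_map_succ cov π k)
    change IsSplitMono ((((Groth.L00.Cell.tower cov π).map (homOfLE (Nat.le_add_right k 1))).left.app e).f n)
    rw [h1]
    exact IsSplitMono.mk' ⟨(mappingCone.snd _).v n n (add_zero n), mappingCone.inr_f_snd_v _ n⟩
  obtain ⟨⟨L, ⟨hL⟩⟩⟩ := (Functor.leftAdjointObjIsDefined_iff _ _).1 (leftAdjointObjIsDefined_of_good adj hE α hP)
  haveI : IsIso (Qh.map ((qB).map ((Groth.L00.Cell.resOut cov π).app e))) :=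
    Localization.inverts Qh (HomotopyCategory.quasiIso B (ComplexShape.up ℤ)) _
      ((HomotopyCategory.quotient_map_mem_quasiIso_iff _).2 ((HomologicalComplex.mem_quasiIso_iff _).2
        (Groth.L00.Cell.quasiIso_resOut cov π e)))
  let i : Qh.obj ((qB).obj ((Groth.L00.Cell.res cov π).obj e)) ≅ X :=
    asIso (Qh.map ((qB).map ((Groth.L00.Cell.resOut cov π).app e))) ≪≫ Qh.objObjPreimageIso X
  exact (Functor.leftAdjointObjIsDefined_iff _ _).2
    ⟨⟨L, ⟨hL.ofIso (NatIso.ofComponents (fun Y => (i.homFromEquiv).toIso) (fun f => by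
      ext g; exact (Category.assoc _ _ _).symm))⟩⟩⟩

end Compare

end Groth.L04.LeftDerived
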