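import Groth.Agent.L04.DerComp.Pull
import Groth.Agent.L04.DerComp.LeftDerived
import Groth.Agent.L15.KFlatSite.Res

/-!
# `Rf_*` on unbounded derived categories of modules on ringed sites has a left adjoint
-/

set_option autoImplicit false
set_option backward.defeqAttrib.useBackward true
set_option backward.isDefEq.respectTransparency false

universe u

open CategoryTheory CategoryTheory.Limits Opposite CategoryTheory.Abelian Groth.L10

noncomputable section

attribute [local instance] HasDerivedCategory.standard

namespace Groth.L04.DerComp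

variable {C : Type u} [SmallCategory C] {J : GrothendieckTopology C} {O_C : Sheaf J CommRingCat.{u}}
  {D : Type u} [SmallCategory D] {K : GrothendieckTopology D} {O_D : Sheaf K CommRingCat.{u}}
  (f : ModSite.RMor O_C O_D)

theorem isRightAdjoint_RpushD [SiteCmp.HasRpushD f] : (SiteCmp.RpushD f).IsRightAdjoint := by
  have hC := shMod_isGrothendieckAbelian (ModSite.ringSh O_C)
  have hD := shMod_isGrothendieckAbelian (ModSite.ringSh O_D)
  have : HasExt.{u + 1} (ModSite.Mod O_D) := HasExt.standard _
  have : EnoughInjectives (ModSite.Mod O_C) := IsGrothendieckAbelian.enoughInjectives.{u}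
  have : EnoughInjectives (ModSite.Mod O_D) := IsGrothendieckAbelian.enoughInjectives.{u}
  have : KInjDerived.EnoughKInjectives (ModSite.Mod O_C) := @KInjDerived.instEnoughKInjectivesOfIsGrothendieckAbelian _ _ _ hC
  have : KInjDerived.EnoughKInjectives (ModSite.Mod O_D) := @KInjDerived.instEnoughKInjectivesOfIsGrothendieckAbelian _ _ _ hD
  haveI : ∀ X, Epi ((Groth.L15.KFlatSite.coverπ O_D).app X) := Groth.L15.KFlatSite.epi_coverπ O_D
  exact Groth.L04.LeftDerived.isRightAdjoint_of_cover f.adj
    ((SiteCmp.pushKh f).totalRightDerivedUnit DerivedCategory.Qh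
      (HomotopyCategory.quasiIso (ModSite.Mod O_C) (ComplexShape.up ℤ)))
    (Groth.L15.KFlatSite.cover O_D) (Groth.L15.KFlatSite.coverπ O_D)
    fun X => AcycObj.Acyc.coprod f.push fun i => acyc_of_iso (FreeOn.iso O_D i.1).symm (ModAcyc.acyc_free O_D f _)

/-- `Rf_*` between the categories of derived complete objects has a left adjoint. -/
theorem isRightAdjoint_lift_RpushD [SiteCmp.HasRpushD f] (I : DerComp.IdealSh O_D) (I' : DerComp.IdealSh O_C)
    [DerComp.HasDerCompletion O_C I']
    (h : ∀ M : DerivedCategory (ModSite.Mod O_C), DerComp.IsDerComp O_C I' M →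
      DerComp.IsDerComp O_D I ((SiteCmp.RpushD f).obj M)) :
    ((DerComp.IsDerComp O_D I).lift ((DerComp.IsDerComp O_C I').ι ⋙ SiteCmp.RpushD f)
      (fun M => h M.obj M.property)).IsRightAdjoint := by
  haveI := isRightAdjoint_RpushD f
  let a₁ := Adjunction.ofIsRightAdjoint ((DerComp.IsDerComp O_C I').ι ⋙ SiteCmp.RpushD f)
  exact (a₁.restrictFullyFaithful (DerComp.IsDerComp O_D I).fullyFaithfulι (Functor.FullyFaithful.id _)
    (L := (DerComp.IsDerComp O_D I).ι ⋙ ((DerComp.IsDerComp O_C I').ι ⋙ SiteCmp.RpushD f).leftAdjoint)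
    (R := (DerComp.IsDerComp O_D I).lift ((DerComp.IsDerComp O_C I').ι ⋙ SiteCmp.RpushD f)
      (fun M => h M.obj M.property))
    (Functor.rightUnitor _).symm
    (Functor.leftUnitor _ ≪≫ ((DerComp.IsDerComp O_D I).liftCompιIso _ _).symm)).isRightAdjoint

end Groth.L04.DerComp
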