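import Groth.Agent.L04.DerComp.CandIdeal
import Groth.Agent.L04.DerComp.RpushAdj

/-!
# Derived completeness and direct images
-/

set_option autoImplicit false
set_option backward.defeqAttrib.useBackward true
set_option backward.isDefEq.respectTransparency false

universe u

open CategoryTheory CategoryTheory.Limits Opposite CategoryTheory.Abelian Groth.L10

noncomputable section

attribute [local instance] HasDerivedCategory.standard

namespace Groth.L04.DerComp

variable {C : Type u} [SmallCategory C] {J : GrothendieckTopology C} {O_C : Sheaf J CommRingCat.{u}}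
  {D : Type u} [SmallCategory D] {K : GrothendieckTopology D} {O_D : Sheaf K CommRingCat.{u}}
  (f : ModSite.RMor O_C O_D)
  {RF : DerivedCategory (ModSite.Mod O_C) ⥤ DerivedCategory (ModSite.Mod O_D)}
  (α : f.push.mapHomotopyCategory (ComplexShape.up ℤ) ⋙ DerivedCategory.Qh ⟶ DerivedCategory.Qh ⋙ RF)
  [RF.IsRightDerivedFunctor α (HomotopyCategory.quasiIso (ModSite.Mod O_C) (ComplexShape.up ℤ))]

include α in
theorem subsingleton_single_iff [HasExt.{u + 1} (ModSite.Mod O_D)] (X : ModSite.Mod O_D) (hX : AcycObj.Acyc.{u + 1} f.push X) (n : ℤ)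
    (Y : DerivedCategory (ModSite.Mod O_C)) :
    Subsingleton ((DerivedCategory.singleFunctor (ModSite.Mod O_D) n).obj X ⟶ RF.obj Y) ↔
      Subsingleton ((DerivedCategory.singleFunctor (ModSite.Mod O_C) n).obj (f.pull.obj X) ⟶ Y) := by
  have hC := shMod_isGrothendieckAbelian (ModSite.ringSh O_C)
  have hD := shMod_isGrothendieckAbelian (ModSite.ringSh O_D)
  have : EnoughInjectives (ModSite.Mod O_C) := IsGrothendieckAbelian.enoughInjectives.{u}
  have : EnoughInjectives (ModSite.Mod O_D) := IsGrothendieckAbelian.enoughInjectives.{u}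
  let P : HomotopyCategory (ModSite.Mod O_D) (ComplexShape.up ℤ) :=
    (HomotopyCategory.quotient _ _).obj ((HomologicalComplex.single _ (ComplexShape.up ℤ) n).obj X)
  have hP : Groth.L04.LeftDerived.Good f.push P := Groth.L04.LeftDerived.good_single hX n
  let Gh := f.pull.mapHomotopyCategory (ComplexShape.up ℤ)
  let ad := DerivedAdj.homotopyAdj f.adj
  let iD : DerivedCategory.Qh.obj P ≅ (DerivedCategory.singleFunctor (ModSite.Mod O_D) n).obj X :=
    (DerivedCategory.quotientCompQhIso _).app _ ≪≫ ((DerivedCategory.singleFunctorIsoCompQ _ n).app X).symm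
  let iC : DerivedCategory.Qh.obj (Gh.obj P) ≅ (DerivedCategory.singleFunctor (ModSite.Mod O_C) n).obj (f.pull.obj X) :=
    DerivedCategory.Qh.mapIso ((HomotopyCategory.quotient _ _).mapIso
      ((HomologicalComplex.singleMapHomologicalComplex f.pull (ComplexShape.up ℤ) n).app X)) ≪≫
    (DerivedCategory.quotientCompQhIso _).app _ ≪≫ ((DerivedCategory.singleFunctorIsoCompQ _ n).app _).symm
  obtain ⟨I, hI, ⟨e⟩⟩ := RDerTri.exists_rep Y
  haveI := KInjDerived.isIso_app_quotient α I
  let e1 : ((Gh.obj P) ⟶ (HomotopyCategory.quotient _ _).obj I) ≃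
      ((DerivedCategory.singleFunctor (ModSite.Mod O_C) n).obj (f.pull.obj X) ⟶ Y) :=
    (Equiv.ofBijective _ (KInjDerived.qh_bijective (Gh.obj P) ⟨(HomotopyCategory.quotient _ _).obj I, hI⟩)).trans
      (iC.homCongr e)
  let e2 : ((Gh.obj P) ⟶ (HomotopyCategory.quotient _ _).obj I) ≃
      ((DerivedCategory.singleFunctor (ModSite.Mod O_D) n).obj X ⟶ RF.obj Y) :=
    ((ad.homEquiv _ _).trans (Equiv.ofBijective _ (Groth.L04.LeftDerived.qh_bijective f.adj
      (fun M => ModAcyc.enough O_D f M) hP I))).trans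
      (iD.homCongr (asIso (α.app ((HomotopyCategory.quotient _ _).obj I)) ≪≫ RF.mapIso e))
  exact ⟨fun h => (e1.symm.trans e2).subsingleton, fun h => (e2.symm.trans e1).subsingleton⟩

include α in
/-- Completeness of a direct image at a section. -/
theorem tzAt_push_iff (V : D) (g : O_D.obj.obj (op V)) (Y : DerivedCategory (ModSite.Mod O_C)) :
    TzAt (RF.obj Y) V g ↔ TzAt Y (f.fn.obj V) (sharpAt f V g) := by
  rw [tzAt_iff, tzAt_iff]
  refine forall_congr' fun n => ?_
  rw [shift_hom_subsingleton_iff, shift_hom_subsingleton_iff]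
  have hC := shMod_isGrothendieckAbelian (ModSite.ringSh O_C)
  have hD := shMod_isGrothendieckAbelian (ModSite.ringSh O_D)
  letI : HasExt.{u + 1} (ModSite.Mod O_D) := HasExt.standard _
  have : EnoughInjectives (ModSite.Mod O_D) := IsGrothendieckAbelian.enoughInjectives.{u}
  exact (((DerivedCategory.singleFunctor _ n).mapIso (extZeroAwayIso V g)).homFromEquiv.subsingleton_congr).trans
    ((subsingleton_single_iff f α _ (acyc_locCok f V g) n Y).trans
      (((DerivedCategory.singleFunctor _ n).mapIso (pullLocCokIso f V g ≪≫ (extZeroAwayIso _ _).symm)).homFromEquiv.subsingleton_congr))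

variable {O O' : Sheaf J CommRingCat.{u}}

/-- A map of sheaves of rings as a morphism of ringed sites. -/
def ringMor (φ : O ⟶ O') : ModSite.RMor O' O :=
  haveI := SiteCmp.idContinuous (le_refl J)
  { fn := 𝟭 C
    isContinuous := SiteCmp.idContinuous (le_refl J)
    exact := ModSite.RMor.exact_of_flat (𝟭 C)
    sharp := ⟨φ.hom⟩ }

theorem isDerComp_restrictScalars_iff (φ : O ⟶ O') (I : DerComp.IdealSh O) (I' : DerComp.IdealSh O')
    (hI' : DerComp.IsIdealExt φ I I')
    [PreservesFiniteLimits (SheafOfModules.restrictScalars.{u} ((sheafCompose J (forget₂ CommRingCat.{u} RingCat.{u})).map φ))]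
    [PreservesFiniteColimits (SheafOfModules.restrictScalars.{u} ((sheafCompose J (forget₂ CommRingCat.{u} RingCat.{u})).map φ))]
    (K' : DerivedCategory (ModSite.Mod O')) :
    DerComp.IsDerComp O' I' K' ↔ DerComp.IsDerComp O I
      ((SheafOfModules.restrictScalars.{u} ((sheafCompose J (forget₂ CommRingCat.{u} RingCat.{u})).map φ)).mapDerivedCategory.obj K') := by
  let ρ := SheafOfModules.restrictScalars.{u} ((sheafCompose J (forget₂ CommRingCat.{u} RingCat.{u})).map φ)
  haveI : ρ.Additive := inferInstance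
  haveI : ρ.mapDerivedCategory.IsRightDerivedFunctor ρ.mapDerivedCategoryFactorsh.inv
      (HomotopyCategory.quasiIso (ModSite.Mod O') (ComplexShape.up ℤ)) :=
    Functor.isRightDerivedFunctor_of_inverts _ _ _
  have key : ∀ (V : C) (g : O.obj.obj (op V)),
      TzAt (ρ.mapDerivedCategory.obj K') V g ↔ TzAt K' V ((φ.hom.app (op V)).hom g) := fun V g =>
    tzAt_push_iff (ringMor φ) ρ.mapDerivedCategoryFactorsh.inv V g K'
  rw [isDerComp_iff, isDerComp_iff]
  refine ⟨fun h V g hg => (key V g).2 (h V _ (hI'.1 V g hg)), fun h V g hg => ?_⟩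
  have hle : I' ≤ candIdeal K' := hI'.2 _ fun U a ha W b => by
    have hn : (O'.obj.map b.op).hom ((φ.hom.app (op U)).hom a) = (φ.hom.app (op W)).hom ((O.obj.map b.op).hom a) :=
      (congr($(φ.hom.naturality b.op) a)).symm
    rw [hn]
    exact (key W _).1 (h W _ (I.map_mem b ha))
  have := hle V hg (𝟙 V)
  rw [op_id, CategoryTheory.Functor.map_id] at this
  exact this

end Groth.L04.DerComp
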