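import Groth.Agent.L15.PullFlat.Exact
import Groth.Agent.L15.FlatCrit.Relations
import Groth.Agent.L04.DerComp.Scalars

/-!
# Inverse image along a flat map of sheaves of rings on one site is exact
-/

set_option autoImplicit false
set_option backward.defeqAttrib.useBackward true
set_option backward.isDefEq.respectTransparency false

universe u

open CategoryTheory CategoryTheory.Limits Opposite Groth.L15.FlatCrit Groth.L15.PullFlat

noncomputable section

namespace Groth.L04.DerComp

variable {C : Type u} [SmallCategory C] {J : GrothendieckTopology C} {O O' : Sheaf J CommRingCat.{u}} (φ : O ⟶ O')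

theorem relFlat_ringMor
    (hflat : ModSite.IsFlat ((SheafOfModules.restrictScalars.{u}
      ((sheafCompose J (forget₂ CommRingCat.{u} RingCat.{u})).map φ)).obj (ModSite.unit O'))) :
    RelFlat (ringMor φ) (ModSite.unit O') := by
  let G := (SheafOfModules.restrictScalars.{u}
    ((sheafCompose J (forget₂ CommRingCat.{u} RingCat.{u})).map φ)).obj (ModSite.unit O')
  intro U a p n r y hy
  let g : U ⟶ a.1 := a.2
  let y' : Fin p → ModSite.sect G U := y
  have hrel : ∀ i : Fin n, ∑ l, rr O g (r l i) • y' l = 0 := fun i => by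
    refine Eq.trans (Finset.sum_congr rfl fun l _ => ?_) (hy i)
    exact congrArg (fun z : O'.obj.obj (op U) => z • y l) (congr($(φ.hom.naturality g.op) (r l i)))
  obtain ⟨S, hS, hd⟩ := trivial_relations G (hasTrivialRelations_of_flat G hflat) n U p
    (fun i l => rr O g (r l i)) y' hrel
  refine ⟨S, hS, fun U' q hq => ?_⟩
  obtain ⟨m, T, c, h1, h2⟩ := hd q hq
  refine ⟨U', 𝟙 U', q ≫ g, m, c, T, Category.id_comp _, fun l => ?_, fun i e => ?_⟩
  · refine (h1 l).trans (Finset.sum_congr rfl fun e _ => ?_)
    refine congrArg (fun z : O'.obj.obj (op U') => z • (show ModSite.sect (ModSite.unit O') U' from T e)) ?_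
    show (φ.hom.app (op U')).hom (c l e) = rr O' (𝟙 U') ((φ.hom.app (op U')).hom (c l e))
    rw [rr, op_id, CategoryTheory.Functor.map_id]
    rfl
  · rw [← h2 i e]
    refine Finset.sum_congr rfl fun l _ => ?_
    rw [mul_comm, rr_rr]

theorem preservesFiniteLimits_pull
    (hflat : ModSite.IsFlat ((SheafOfModules.restrictScalars.{u}
      ((sheafCompose J (forget₂ CommRingCat.{u} RingCat.{u})).map φ)).obj (ModSite.unit O'))) :
    PreservesFiniteLimits (ringMor φ).pull :=
  isFlat_of_relFlat (relFlat_ringMor φ hflat)

end Groth.L04.DerComp
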