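import Groth.Agent.L04.DerComp.UnitIso
import Groth.Agent.L04.DerComp.RingFlat
import Groth.Agent.L04.DerComp.Exists

/-!
# Restriction along a flat map with the same quotient is an equivalence on complete objects
-/

set_option autoImplicit false
set_option backward.defeqAttrib.useBackward true
set_option backward.isDefEq.respectTransparency false

universe u

open CategoryTheory CategoryTheory.Limits CategoryTheory.Pretriangulated Opposite Groth.L10

noncomputable section

attribute [local instance] HasDerivedCategory.standard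

namespace Groth.L04.DerComp

theorem isIso_of_mapDerivedCategory {A B : Type*} [Category A] [Abelian A] [Category B] [Abelian B]
    [HasDerivedCategory A] [HasDerivedCategory B] (F : A ⥤ B) [F.Additive] [PreservesFiniteLimits F]
    [PreservesFiniteColimits F] [F.ReflectsIsomorphisms] {X Y : DerivedCategory A} (ψ : X ⟶ Y)
    [IsIso (F.mapDerivedCategory.map ψ)] : IsIso ψ := by
  let eX := DerivedCategory.Q.objObjPreimageIso X
  let eY := DerivedCategory.Q.objObjPreimageIso Y
  obtain ⟨Z, g, s, hs, h⟩ := DerivedCategory.left_fac (eX.hom ≫ ψ ≫ eY.inv)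
  have e1 : ψ = eX.inv ≫ DerivedCategory.Q.map g ≫ inv (DerivedCategory.Q.map s) ≫ eY.hom := by
    rw [← Category.assoc (DerivedCategory.Q.map g), ← h]
    simp
  haveI h1 : IsIso (F.mapDerivedCategory.map (DerivedCategory.Q.map g)) := by
    have e2 : DerivedCategory.Q.map g = eX.hom ≫ ψ ≫ eY.inv ≫ DerivedCategory.Q.map s := by
      rw [e1]
      simp
    rw [e2]
    simp only [Functor.map_comp]
    infer_instance
  have h2 : IsIso (DerivedCategory.Q.map ((F.mapHomologicalComplex (ComplexShape.up ℤ)).map g)) :=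
    (NatIso.isIso_map_iff F.mapDerivedCategoryFactors g).1 h1
  rw [DerivedCategory.isIso_Q_map_iff_quasiIso, HomologicalComplex.quasiIso_map_iff_of_preservesHomology,
    ← DerivedCategory.isIso_Q_map_iff_quasiIso] at h2
  rw [e1]
  infer_instance

variable {C : Type u} [SmallCategory C] {J : GrothendieckTopology C} {O O' : Sheaf J CommRingCat.{u}}

/-- Flat maps with the same quotient give equivalences of complete objects. -/
theorem flat_equiv {φ : O ⟶ O'} {I : DerComp.IdealSh O} (hI : I.IsFiniteType) {I' : DerComp.IdealSh O'}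
    (hq : SameQuot φ I I')
    (hflat : ModSite.IsFlat ((SheafOfModules.restrictScalars.{u}
      ((sheafCompose J (forget₂ CommRingCat.{u} RingCat.{u})).map φ)).obj (ModSite.unit O')))
    [PreservesFiniteLimits (ringMor φ).push] [PreservesFiniteColimits (ringMor φ).push] :
    (∀ K' L' : DerivedCategory (ModSite.Mod O'), DerComp.IsDerComp O' I' K' → DerComp.IsDerComp O' I' L' →
      Function.Bijective (fun ψ : K' ⟶ L' => (ringMor φ).push.mapDerivedCategory.map ψ)) ∧
    (∀ E : DerivedCategory (ModSite.Mod O), DerComp.IsDerComp O I E → ∃ K' : DerivedCategory (ModSite.Mod O'),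
      DerComp.IsDerComp O' I' K' ∧ Nonempty ((ringMor φ).push.mapDerivedCategory.obj K' ≅ E)) := by
  let f := ringMor φ
  haveI hC := shMod_isGrothendieckAbelian (ModSite.ringSh O')
  haveI hD := shMod_isGrothendieckAbelian (ModSite.ringSh O)
  haveI : KInjDerived.EnoughKInjectives (ModSite.Mod O') :=
    @KInjDerived.instEnoughKInjectivesOfIsGrothendieckAbelian _ _ _ hC
  haveI : KInjDerived.EnoughKInjectives (ModSite.Mod O) :=
    @KInjDerived.instEnoughKInjectivesOfIsGrothendieckAbelian _ _ _ hD
  haveI : DerComp.HasDerCompletion O I := hasDerCompletion O I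
  haveI : f.pull.Additive := f.adj.left_adjoint_additive
  haveI : f.push.Additive := f.adj.right_adjoint_additive
  haveI : PreservesFiniteLimits f.pull := preservesFiniteLimits_pull φ hflat
  haveI : PreservesFiniteColimits f.pull := by
    haveI := f.adj.leftAdjoint_preservesColimits
    exact PreservesColimitsOfSize.preservesFiniteColimits.{0, 0} _
  obtain ⟨-, hcol, hrefl⟩ := Groth.L15.KFlatSite.restrictScalars_exact
    ((sheafCompose J (forget₂ CommRingCat.{u} RingCat.{u})).map φ)
  haveI : f.push.ReflectsIsomorphisms := hrefl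
  haveI : f.push.mapDerivedCategory.IsRightDerivedFunctor f.push.mapDerivedCategoryFactorsh.inv
      (HomotopyCategory.quasiIso (ModSite.Mod O') (ComplexShape.up ℤ)) :=
    Functor.isRightDerivedFunctor_of_inverts _ _ _
  let PD := f.pull.mapDerivedCategory
  let RD := f.push.mapDerivedCategory
  let ad₁ : PD ⊣ RD := DerivedAdj.derived f.adj RD f.push.mapDerivedCategoryFactorsh.inv
  haveI : RD.IsLeftAdjoint := by
    haveI : PreservesColimitsOfSize.{u, u} f.push := hcol
    haveI : WellPowered.{u} (ModSite.Mod O') := IsGrothendieckAbelian.wellPowered _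
    haveI : WellPowered.{u} (ModSite.Mod O')ᵒᵖ := CategoryTheory.Abelian.wellPowered_opposite
    haveI : f.push.IsLeftAdjoint :=
      isLeftAdjoint_of_preservesColimits_of_isSeparating (isSeparator_separator (ModSite.Mod O')) _
    let adj := Adjunction.ofIsLeftAdjoint f.push
    haveI : f.push.rightAdjoint.Additive := adj.right_adjoint_additive
    let F := f.push.rightAdjoint.mapHomotopyCategory (ComplexShape.up ℤ) ⋙ DerivedCategory.Qh
    haveI : F.HasRightDerivedFunctor (HomotopyCategory.quasiIso (ModSite.Mod O) (ComplexShape.up ℤ)) :=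
      KInjDerived.hasRightDerivedFunctor _
    exact (DerivedAdj.derived adj (F.totalRightDerived DerivedCategory.Qh
      (HomotopyCategory.quasiIso (ModSite.Mod O) (ComplexShape.up ℤ)))
      (F.totalRightDerivedUnit DerivedCategory.Qh
        (HomotopyCategory.quasiIso (ModSite.Mod O) (ComplexShape.up ℤ)))).isLeftAdjoint
  let ad₂ := Adjunction.ofIsLeftAdjoint RD
  let G := RD.rightAdjoint
  have hI' : DerComp.RIsIdealExt f I I' := hq.ext
  have hcomp : ∀ K' : DerivedCategory (ModSite.Mod O'),
      DerComp.IsDerComp O' I' K' ↔ DerComp.IsDerComp O I (RD.obj K') := fun K' =>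
    haveI : PreservesFiniteLimits (SheafOfModules.restrictScalars.{u}
        ((sheafCompose J (forget₂ CommRingCat.{u} RingCat.{u})).map φ)) := ‹PreservesFiniteLimits f.push›
    haveI : PreservesFiniteColimits (SheafOfModules.restrictScalars.{u}
        ((sheafCompose J (forget₂ CommRingCat.{u} RingCat.{u})).map φ)) := ‹PreservesFiniteColimits f.push›
    isDerComp_restrictScalars_iff φ I I' hq.ext K'
  have key : ∀ Z, DerComp.IsDerComp O I Z → IsIso (ad₂.counit.app Z) := by
    intro Z hZ
    let ε := ad₂.counit.app Z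
    have hb : DerComp.IsDerComp O I (RD.obj (G.obj Z)) := (isDerComp_iff_orth I _).2 fun U g hg => by
      rw [← orth_adj_iff ad₁, ← orth_adj_iff ad₂]
      let eN : SiteCmp.inD O' (locCok (f.fn.obj U) (sharpAt f U g)) ≅ PD.obj (SiteCmp.inD O (locCok U g)) :=
        ((DerivedCategory.singleFunctor _ 0).mapIso (pullLocCokIso f U g)).symm ≪≫
          ((f.pull.mapDerivedCategorySingleFunctor 0).app _).symm
      have hN : Killed I' (SiteCmp.inD O' (locCok (f.fn.obj U) (sharpAt f U g))) := fun K hK =>
        (isDerComp_iff_orth I' K).1 hK _ _ (hI'.1 U g hg)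
      exact (killed_push f f.push.mapDerivedCategoryFactorsh.inv hI hI' hN Z hZ).of_iso₁ (RD.mapIso eN)
    obtain ⟨W, g, δ, hT⟩ := distinguished_cocone_triangle ε
    have hW : DerComp.IsDerComp O I W := (isDerComp_iff_orth I _).2 fun U c hc =>
      orth_obj₃' _ hT ((isDerComp_iff_orth I _).1 hb U c hc) ((isDerComp_iff_orth I _).1 hZ U c hc)
    have hW0 : IsZero W := by
      let S₀ : Set C := {V | ∃ (r : ℕ) (a : Fin r → O.obj.obj (op V)),
        (I.over V).IsGenBy fun i => DerComp.GSec.ofSect O V (a i)}
      refine isZero_of_separating _ (FreeOn.isSeparating O S₀ fun X => ?_) W fun V => ?_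
      · obtain ⟨S, hS, hd⟩ := hI X
        exact ⟨Σ Z : C, {g : Z ⟶ X // S g}, fun p => p.1, fun p => p.2.1,
          J.superset_covering (fun Z g hg => ⟨Z, 𝟙 Z, g,
            Presieve.ofArrows.mk (⟨Z, g, hg⟩ : Σ Z : C, {g : Z ⟶ X // S g}), Category.id_comp g⟩) hS,
          fun p => hd p.2.1 p.2.2⟩
      obtain ⟨r, a, ha⟩ := V.2
      refine orth_free_of_complete hW V.1 a (mem_of_isGenBy ha) ?_
      rw [orth_unit_kos_iff]
      refine (forall_bijective₂_iff _ hT _).1 fun n => ?_
      let A := (DerivedCategory.Q.obj (kosFree O V.1 a))⟦n⟧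
      haveI := isIso_derived_unit_kosFree hq V.1 a ha n
      let e₁ : (PD.obj A ⟶ G.obj Z) ≃ (A ⟶ RD.obj (G.obj Z)) := ad₁.homEquiv _ _
      let e₂ : (RD.obj (PD.obj A) ⟶ Z) ≃ (PD.obj A ⟶ G.obj Z) := ad₂.homEquiv _ _
      let e₃ : (RD.obj (PD.obj A) ⟶ Z) ≃ (A ⟶ Z) := (asIso (ad₁.unit.app A)).symm.homFromEquiv
      have hfun : (fun x : A ⟶ RD.obj (G.obj Z) => x ≫ ε) = (e₁.symm.trans (e₂.symm.trans e₃)) := funext fun x => by
        obtain ⟨y, rfl⟩ := e₁.surjective x
        simp [e₁, e₂, e₃, ε, Adjunction.homEquiv_unit, Adjunction.homEquiv_counit]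
        exact congrArg (ad₁.unit.app A ≫ ·) (ad₂.homEquiv_counit (X := PD.obj A) (Y := Z) (g := y)).symm
      exact hfun ▸ Equiv.bijective _
    exact (Triangle.isZero₃_iff_isIso₁ _ hT).1 hW0
  refine ⟨fun K' L' _ hL' => ?_, fun E hE => ?_⟩
  · haveI := key _ ((hcomp L').1 hL')
    haveI : IsIso (RD.map (ad₂.unit.app L')) := by
      have h := (IsIso.eq_comp_inv (ad₂.counit.app (RD.obj L'))).2 (ad₂.left_triangle_components L')
      rw [h]
      exact IsIso.comp_isIso' (IsIso.id _) inferInstance
    haveI : IsIso (ad₂.unit.app L') := isIso_of_mapDerivedCategory f.push _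
    let e := (asIso (ad₂.unit.app L')).homToEquiv.trans (ad₂.homEquiv K' (RD.obj L')).symm
    have hfun : (fun ψ : K' ⟶ L' => RD.map ψ) = e := funext fun ψ => by
      simp [e, Adjunction.homEquiv_counit]
    exact hfun ▸ e.bijective
  · haveI := key E hE
    let e : RD.obj (G.obj E) ≅ E := asIso (ad₂.counit.app E)
    exact ⟨G.obj E, (hcomp _).2 ((isDerComp_iff_orth I _).2 fun U c hc =>
      ((isDerComp_iff_orth I _).1 hE U c hc).of_iso₂ e.symm), ⟨e⟩⟩

end Groth.L04.DerComp
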