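import Groth.Agent.L04.DerComp.KosTransfer
import Groth.Agent.L04.RGamma.Complete

/-!
# Killed objects and globally generated ideals
-/

set_option autoImplicit false
set_option backward.defeqAttrib.useBackward true
set_option backward.isDefEq.respectTransparency false

universe u

open CategoryTheory CategoryTheory.Limits CategoryTheory.Pretriangulated Opposite

noncomputable section

attribute [local instance] HasDerivedCategory.standard

namespace Groth.L04.DerComp

theorem tz_of_pow_eq_zero {H : Type*} [AddCommGroup H] (e : AddMonoid.End H) (k : ℕ) (hk : ∀ x, e^[k] x = 0) :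
    Tz e := by
  have key : ∀ (x : ℕ → H) (m i : ℕ),
      x i = (∑ j ∈ Finset.range m, e^[j] (theta e x (i + j))) + e^[m] (x (i + m)) := fun x m i => by
    induction m with
    | zero => simp
    | succ m ih =>
      rw [ih, Finset.sum_range_succ, add_assoc, theta_apply, iterate_map_sub,
        show e^[m] (e (x (i + m + 1))) = e^[m + 1] (x (i + (m + 1))) from (Function.iterate_succ_apply _ _ _).symm,
        sub_add_cancel]
  refine ⟨fun x y h => funext fun i => ?_, fun y => ⟨fun i => ∑ j ∈ Finset.range k, e^[j] (y (i + j)), funext fun i => ?_⟩⟩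
  · rw [key x k i, key y k i, hk, hk, h]
  · simp only [theta_apply, map_sum]
    have h1 : (∑ j ∈ Finset.range k, e (e^[j] (y (i + 1 + j)))) = ∑ j ∈ Finset.range k, e^[j + 1] (y (i + (j + 1))) :=
      Finset.sum_congr rfl fun j _ => by rw [Function.iterate_succ_apply', Nat.add_assoc, Nat.add_comm 1 j]
    have h2 := Finset.sum_range_succ' (fun j => e^[j] (y (i + j))) k
    rw [Finset.sum_range_succ, hk, add_zero] at h2
    rw [h1, h2, add_sub_cancel_left]
    rfl

variable {C : Type u} [SmallCategory C] {J : GrothendieckTopology C} {O : Sheaf J CommRingCat.{u}}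

theorem mulEnd_gsec (V : C) (s : DerComp.GSec O) : mulEnd V (s.1 V) = DerComp.smulEnd s (ModSite.freeOn O V) := by
  apply (secM O V _).injective
  rw [mulEnd, Equiv.apply_symm_apply]
  conv_rhs => rw [← Category.id_comp (DerComp.smulEnd s _), secM_comp]
  rfl

theorem freeMul_gsec (V : C) (s : DerComp.GSec O) (n : ℤ) :
    freeMul V (s.1 V) n = s • 𝟙 ((SiteCmp.inD O (ModSite.freeOn O V))⟦n⟧) := by
  have h1 : DerComp.smulEnd s (ModSite.freeOn O V) = s • 𝟙 (ModSite.freeOn O V) := (Category.comp_id _).symm
  rw [freeMul, mulEnd_gsec, h1, Functor.map_smul, Functor.map_smul, CategoryTheory.Functor.map_id,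
    CategoryTheory.Functor.map_id]

/-- An object on which generators are nilpotent is derived complete. -/
theorem isDerComp_of_nil {ι : Type*} {I : DerComp.IdealSh O} {s : ι → DerComp.GSec O} (hI : I.IsGenBy s)
    (K : DerivedCategory (ModSite.Mod O)) (h : ∀ i, Nil (s i) K) : DerComp.IsDerComp O I K := by
  rw [isDerComp_iff_le]
  refine hI.2 _ fun i U W g n => ?_
  have e : (O.obj.map g.op).hom ((s i).1 U) = (s i).1 W := (s i).2 g
  rw [e, freeMul_gsec]
  obtain ⟨k, hk⟩ := h i
  refine tz_of_pow_eq_zero _ k fun x => ?_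
  have h2 : ∀ m, (preEnd (s i • 𝟙 ((SiteCmp.inD O (ModSite.freeOn O W))⟦n⟧)) K)^[m] x = (s i ^ m) • x := fun m => by
    induction m with
    | zero => simp
    | succ m ih =>
      rw [Function.iterate_succ_apply', ih, preEnd_apply, Linear.smul_comp, Category.id_comp, smul_smul, ← pow_succ']
  rw [h2, ← Category.comp_id x, ← Linear.comp_smul, hk, comp_zero]

theorem killed_coneS {I : DerComp.IdealSh O} {N : DerivedCategory (ModSite.Mod O)} (hN : Killed I N)
    (s : DerComp.GSec O) : Killed I (coneS s N) := fun K hK => by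
  obtain ⟨g, δ, hd⟩ := coneS_spec s N
  exact orth_obj₃ _ hd (hN K hK) (hN K hK)

theorem killed_kos {I : DerComp.IdealSh O} (l : List (DerComp.GSec O)) {N : DerivedCategory (ModSite.Mod O)}
    (hN : Killed I N) : Killed I (kos l N) := by
  induction l generalizing N with
  | nil => exact hN
  | cons s l ih => exact ih (killed_coneS hN s)

/-- Iterated cones on global generators of killed objects vanish. -/
theorem isZero_kos_gens {r : ℕ} {I : DerComp.IdealSh O} {s : Fin r → DerComp.GSec O} (hI : I.IsGenBy s)
    {N : DerivedCategory (ModSite.Mod O)} (hN : Killed I N) : IsZero (kos (List.ofFn s) N) :=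
  isZero_of_orth_self ((killed_kos _ hN) _
    (isDerComp_of_nil hI _ fun i => nil_kos _ _ (List.mem_ofFn.2 ⟨i, rfl⟩)))

/-- In `D(A)`, objects with vanishing iterated cones map trivially to complete objects. -/
theorem orth_of_isZero_kos {A : Type u} [CommRing A] {I : Ideal A} {L : Dual.D A} (hL : DRing.IsDerivedComplete I L)
    (l : List A) (hl : ∀ f ∈ l, f ∈ I) {W : Dual.D A} (h : IsZero (kos l W)) : Orth W L := by
  induction l generalizing W with
  | nil => exact fun n => ⟨fun x y => ((shiftFunctor _ n).map_isZero h).eq_of_src x y⟩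
  | cons f l ih =>
    intro n
    have hb := (orth_coneS₁ f W L).1 (ih (fun g hg => hl g (List.mem_cons_of_mem _ hg)) h) n
    exact subsingleton_of_forall_eq 0 fun a =>
      Groth.L04.RGamma.eq_zero_of_complete (hL f (hl f (List.mem_cons_self ..))) hb.2 a

theorem Q_kos_linear {A : Type*} [Category A] [Abelian A] [HasDerivedCategory A] {R : Type*} [CommRing R]
    [Linear R A] {ι : Type} {F : Fam ι A} {s : ι → R} (h : F.Scalar s) (L : List ι) :
    Nonempty (DerivedCategory.Q.obj (Fam.kos L F).K ≅ kos (L.map s) (DerivedCategory.Q.obj F.K)) := by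
  induction L generalizing F with
  | nil => exact ⟨Iso.refl _⟩
  | cons i L ih =>
    obtain ⟨g, δ, hd⟩ := coneS_spec (s i) (DerivedCategory.Q.obj F.K)
    obtain ⟨e⟩ := ih (h.cone i)
    have hc : DerivedCategory.Q.map (F.μ i) = s i • 𝟙 _ := by
      rw [h i, Functor.map_smul, CategoryTheory.Functor.map_id]
    obtain ⟨e'⟩ := kos_congr (L.map s) ⟨Triangle.π₃.mapIso (isoTriangleOfIso₁₂ _ _
      (DerivedCategory.mappingCone_triangle_distinguished (F.μ i)) hd (Iso.refl _) (Iso.refl _) (by
        change DerivedCategory.Q.map (F.μ i) ≫ 𝟙 _ = 𝟙 _ ≫ (s i • 𝟙 _)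
        rw [Category.comp_id, Category.id_comp, hc]))⟩
    exact ⟨e ≪≫ e'⟩

end Groth.L04.DerComp
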