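import Groth.Agent.L04.DerComp.GlobalHom
import Groth.Agent.L04.DerComp.GlobalGens
import Groth.Agent.L10.DRing.CompletionFinite
import Groth.Agent.L29.Dual.HomD
import Mathlib.RingTheory.AdicCompletion.Completeness

/-!
# Derived completion of global sections
-/

set_option autoImplicit false
set_option backward.defeqAttrib.useBackward true
set_option backward.isDefEq.respectTransparency false

universe u v

open CategoryTheory CategoryTheory.Limits CategoryTheory.Pretriangulated Opposite Groth.L10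

noncomputable section

attribute [local instance] HasDerivedCategory.standard

namespace Groth.L04.DerComp

theorem adic_of_completion {A : Type*} [CommRing A] [IsNoetherianRing A] (I : Ideal A) {M N : Type*} [AddCommGroup M]
    [Module A M] [AddCommGroup N] [Module A N] [Module.Finite A M] (f : M →ₗ[A] N) (e : N ≃ₗ[A] AdicCompletion I M)
    (he : ∀ x, e (f x) = AdicCompletion.of I M x) :
    IsAdicComplete I N ∧ ∀ n : ℕ, (∀ y : N, ∃ x : M, f x - y ∈ (I ^ n • ⊤ : Submodule A N)) ∧
      ∀ x : M, f x ∈ (I ^ n • ⊤ : Submodule A N) → x ∈ (I ^ n • ⊤ : Submodule A M) := by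
  have hfg : I.FG := IsNoetherian.noetherian I
  have hm : ∀ (n : ℕ) (y : N), y ∈ (I ^ n • ⊤ : Submodule A N) ↔ AdicCompletion.eval I M n (e y) = 0 := fun n y => by
    rw [← LinearMap.mem_ker, ← AdicCompletion.pow_smul_top_eq_ker_eval hfg]
    refine ⟨fun h => ?_, fun h => ?_⟩
    · have := Submodule.mem_map_of_mem (f := e.toLinearMap) h
      rw [Submodule.map_smul''] at this
      exact Submodule.smul_mono le_rfl le_top this
    · have := Submodule.mem_map_of_mem (f := e.symm.toLinearMap) h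
      rw [Submodule.map_smul'', LinearEquiv.coe_coe, e.symm_apply_apply] at this
      exact Submodule.smul_mono le_rfl le_top this
  haveI := AdicCompletion.isAdicComplete (M := M) hfg
  refine ⟨{ haus' := fun x hx => ?_, prec' := fun x hx => ?_ }, fun n => ⟨fun y => ?_, fun x hx => ?_⟩⟩
  · refine e.injective ((IsHausdorff.haus' (I := I) (e x) fun n => ?_).trans (map_zero e).symm)
    have := hx n
    rw [SModEq.sub_mem, sub_zero] at this ⊢
    rw [hm] at this
    rwa [AdicCompletion.pow_smul_top_eq_ker_eval hfg, LinearMap.mem_ker]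
  · obtain ⟨L, hL⟩ := IsPrecomplete.prec' (I := I) (fun n => e (x n)) fun {m n} hmn => by
      have := hx hmn
      rw [SModEq.sub_mem, hm, map_sub] at this
      rwa [SModEq.sub_mem, AdicCompletion.pow_smul_top_eq_ker_eval hfg, LinearMap.mem_ker]
    refine ⟨e.symm L, fun n => ?_⟩
    have := hL n
    rw [SModEq.sub_mem, AdicCompletion.pow_smul_top_eq_ker_eval hfg, LinearMap.mem_ker] at this
    rw [SModEq.sub_mem, hm, map_sub, e.apply_symm_apply]
    exact this
  · obtain ⟨x, hx⟩ := Submodule.mkQ_surjective _ (AdicCompletion.eval I M n (e y))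
    refine ⟨x, (hm n _).2 ?_⟩
    rw [map_sub, he, map_sub, AdicCompletion.eval_of, hx, sub_self]
  · rw [hm, he, AdicCompletion.eval_of] at hx
    exact (Submodule.Quotient.mk_eq_zero _).1 hx

section Shift

variable {T : Type*} [Category T] [Preadditive T] [HasShift T ℤ] [∀ n : ℤ, (shiftFunctor T n).Additive]
  (R : Type*) [CommRing R] [Linear R T] [∀ n : ℤ, (shiftFunctor T n).Linear R]

/-- Linear adjunction between opposite shifts. -/
def shiftLin (X M : T) (n : ℤ) : (X⟦n⟧ ⟶ M) ≃ₗ[R] (X ⟶ M⟦-n⟧) where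
  toEquiv := (shiftEquiv T n).toAdjunction.homEquiv X M
  map_add' a b := by
    haveI : (shiftEquiv T n).functor.Additive := inferInstanceAs ((shiftFunctor T n).Additive)
    exact map_add ((shiftEquiv T n).toAdjunction.homAddEquiv X M) a b
  map_smul' r a := by
    have h1 : r • a = (r • 𝟙 X)⟦n⟧' ≫ a := by
      rw [Functor.map_smul, CategoryTheory.Functor.map_id, Linear.smul_comp, Category.id_comp]
    simp only [Equiv.toFun_as_coe, RingHom.id_apply]
    rw [h1]
    refine ((shiftEquiv T n).toAdjunction.homEquiv_naturality_left (r • 𝟙 X) a).trans ?_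
    rw [Linear.smul_comp, Category.id_comp]
    rfl

end Shift

variable {A : Type u} [CommRing A]

theorem evalShiftEquiv_nat (i : ℤ) {W W' : Dual.D A} (f : W ⟶ W') (x : Dual.inD A A ⟶ W⟦i⟧) :
    Groth.L29.HomD.evalShiftEquiv _ i (x ≫ f⟦i⟧') =
      ((DerivedCategory.homologyFunctor (ModuleCat.{u} A) i).map f).hom (Groth.L29.HomD.evalShiftEquiv _ i x) := by
  change (hShiftIso (A := ModuleCat.{u} A) W' i 0 i (by lia)).hom (Groth.L29.HomD.evalOne _ (x ≫ f⟦i⟧')) = _
  have h1 : Groth.L29.HomD.evalOne _ (x ≫ f⟦i⟧') =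
      ((DerivedCategory.homologyFunctor (ModuleCat.{u} A) 0).map (f⟦i⟧')) (Groth.L29.HomD.evalOne _ x) := by
    simp [Groth.L29.HomD.evalOne, Functor.map_comp]
  rw [h1]
  exact congr(($(hShiftIso_nat (A := ModuleCat.{u} A) f i 0 i (by lia))) (Groth.L29.HomD.evalOne _ x))

theorem exists_completion_iso (I : Ideal A) [DRing.HasDerivedCompletion I] {X Y W : Dual.D A} (u : X ⟶ Y)
    (hY : DRing.IsDerivedComplete I Y) (g : Y ⟶ W) (δ : W ⟶ X⟦(1 : ℤ)⟧) (hT : Triangle.mk u g δ ∈ distTriang _)
    (hW : ∀ L, DRing.IsDerivedComplete I L → Orth W L) :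
    ∃ e : ((DRing.derivedCompletion I).obj X).obj ≅ Y, DRing.toDerivedCompletion I X ≫ e.hom = u := by
  let t := ((DRing.derivedCompletionAdj I).homEquiv X ⟨Y, hY⟩).symm u
  have : IsIso t := by
    refine (isIso_iff_coyoneda_map_bijective _).2 fun Z => ?_
    have hb : Function.Bijective (fun x : Y ⟶ Z.obj => u ≫ x) :=
      bijective_of_arrowIso (u⟦(0 : ℤ)⟧') u ((shiftFunctorZero _ ℤ).app X) ((shiftFunctorZero _ ℤ).app Y)
        ((shiftFunctorZero _ ℤ).hom.naturality u) Z.obj
        ((forall_bijective_iff _ hT Z.obj).2 (hW Z.obj Z.property) 0)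
    let e := ((DRing.IsDerivedComplete I).fullyFaithfulι.homEquiv (X := ⟨Y, hY⟩) (Y := Z)).trans
      ((Equiv.ofBijective _ hb).trans ((DRing.derivedCompletionAdj I).homEquiv X Z).symm)
    have key : (fun φ => t ≫ φ) = e := funext fun φ =>
      ((DRing.derivedCompletionAdj I).homEquiv_naturality_right_symm u φ).symm
    exact key ▸ e.bijective
  refine ⟨(ObjectProperty.ι _).mapIso (asIso t), ?_⟩
  exact ((DRing.derivedCompletionAdj I).homEquiv_unit ..).symm.trans (Equiv.apply_symm_apply _ _)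

theorem homCongr_comp {R : Type*} [CommRing R] {T : Type*} [Category T] [Preadditive T] [Linear R T] {X Y W W' Z Z' : T}
    (f₁ : X ≅ Y) {f : W ≅ Z} {f' : W' ≅ Z'} (a : X ⟶ W) (b : W ⟶ W') (c : Z ⟶ Z') (h : b ≫ f'.hom = f.hom ≫ c) :
    Linear.homCongr R f₁ f' (a ≫ b) = Linear.homCongr R f₁ f a ≫ c := by
  simp [Linear.homCongr_apply, h]

section RG

variable {R : Type u} [CommRing R] {C : Type v} [Category.{u} C] [Abelian C] [Linear R C] (P : C)

set_option quotPrecheck false in
local notation "𝔾" => (GlobalHom.G (R := R) P).mapHomologicalComplex (ComplexShape.up ℤ)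

/-- A K-injective representative. -/
structure KRep (K : DerivedCategory C) where
  /-- the complex -/
  I : CochainComplex C ℤ
  [inj : I.IsKInjective]
  /-- the identification -/
  e : DerivedCategory.Q.obj I ≅ K

attribute [instance] KRep.inj

variable {P}

/-- `Hom(P[0], K[p]) ≅ H^p(Hom(P, I))`. -/
def KRep.psi {K : DerivedCategory C} (r : KRep K) (p : ℤ) :
    ((DerivedCategory.singleFunctor C 0).obj P ⟶ K⟦p⟧) ≃ₗ[R] Dual.HD R (DerivedCategory.Q.obj ((𝔾).obj r.I)) p :=
  (Linear.homCongr R ((DerivedCategory.singleFunctorIsoCompQ C 0).app P)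
      (((shiftFunctor _ p).mapIso r.e.symm) ≪≫ (DerivedCategory.Q.commShiftIso p).symm.app r.I)).trans
    ((GlobalHom.exists_equiv P (r.I⟦p⟧)).choose.trans
      ((Linear.homCongr R ((DerivedCategory.singleFunctorIsoCompQ (ModuleCat.{u} R) 0).app (ModuleCat.of R R)).symm
          (DerivedCategory.Q.mapIso (((𝔾).commShiftIso p).app r.I) ≪≫
            (DerivedCategory.Q.commShiftIso p).app _)).trans
        (Groth.L29.HomD.evalShiftEquiv _ p)))

theorem KRep.psi_nat {K K' : DerivedCategory C} (r : KRep K) (r' : KRep K') (φ : r.I ⟶ r'.I) (ψ : K ⟶ K')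
    (h : DerivedCategory.Q.map φ ≫ r'.e.hom = r.e.hom ≫ ψ) (p : ℤ)
    (x : (DerivedCategory.singleFunctor C 0).obj P ⟶ K⟦p⟧) :
    r'.psi (R := R) p (x ≫ ψ⟦p⟧') =
      ((DerivedCategory.homologyFunctor (ModuleCat.{u} R) p).map (DerivedCategory.Q.map ((𝔾).map φ))).hom
        (r.psi (R := R) p x) := by
  obtain ⟨y, rfl⟩ : ∃ y, x = y ≫ (DerivedCategory.Q.commShiftIso p).hom.app r.I ≫ r.e.hom⟦p⟧' :=
    ⟨x ≫ r.e.inv⟦p⟧' ≫ (DerivedCategory.Q.commShiftIso p).inv.app r.I, by
      simp [← Functor.map_comp]⟩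
  simp only [KRep.psi, LinearEquiv.trans_apply]
  refine Eq.trans (congrArg _ ?_) (evalShiftEquiv_nat p _ _)
  have hx : ∀ z : (DerivedCategory.singleFunctor C 0).obj P ⟶ DerivedCategory.Q.obj (r.I⟦p⟧),
      (z ≫ (DerivedCategory.Q.commShiftIso p).hom.app r.I ≫ r.e.hom⟦p⟧') ≫ ψ⟦p⟧' =
        (z ≫ DerivedCategory.Q.map (φ⟦p⟧')) ≫ (DerivedCategory.Q.commShiftIso p).hom.app r'.I ≫ r'.e.hom⟦p⟧' :=
    fun z => by
      have n1 := (DerivedCategory.Q.commShiftIso p).hom.naturality φ
      simp only [Functor.comp_map] at n1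
      simp only [Category.assoc]
      rw [reassoc_of% n1, ← Functor.map_comp, ← Functor.map_comp, h]
  erw [hx]
  obtain ⟨g, hg⟩ := GlobalHom.Q_map_surjective (CochainComplex.IsKInjective.Qh_map_bijective _ _)
    (((DerivedCategory.singleFunctorIsoCompQ C 0).app P).inv ≫ y)
  obtain rfl : y = ((DerivedCategory.singleFunctorIsoCompQ C 0).app P).hom ≫ DerivedCategory.Q.map g := by
    rw [hg, Iso.hom_inv_id_assoc]
  simp only [Linear.homCongr_apply, Iso.trans_hom, Functor.mapIso_hom, Iso.symm_hom, Iso.app_hom, Iso.app_inv,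
    Category.assoc, ← Functor.map_comp_assoc, Iso.hom_inv_id, Iso.hom_inv_id_app, CategoryTheory.Functor.map_id,
    Category.id_comp, Iso.inv_hom_id_app_assoc, Category.comp_id]
  erw [Category.comp_id]
  erw [(GlobalHom.exists_equiv (R := R) P (r'.I⟦p⟧)).choose_spec, (GlobalHom.exists_equiv (R := R) P (r.I⟦p⟧)).choose_spec]
  rw [GlobalHom.τ_comp]
  refine (congrArg _ (DerivedCategory.Q.map_comp _ _)).trans ?_
  refine homCongr_comp (R := R) (T := DerivedCategory (ModuleCat.{u} R)) _ _ _ _ ?_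
  have n2 := ((𝔾).commShiftIso p).hom.naturality φ
  have n3 := (DerivedCategory.Q.commShiftIso p).hom.naturality ((𝔾).map φ)
  simp only [Functor.comp_map] at n2 n3
  simp only [Iso.trans_hom, Functor.mapIso_hom, Iso.app_hom]
  rw [← Category.assoc, ← Functor.map_comp]
  erw [n2]
  rw [Functor.map_comp, Category.assoc, Category.assoc]
  exact congrArg (_ ≫ ·) n3

end RG

end Groth.L04.DerComp
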