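import Mathlib.Algebra.Homology.DerivedCategory.Linear
import Mathlib.Algebra.Homology.DerivedCategory.KInjective
import Mathlib.Algebra.Homology.DerivedCategory.KProjective
import Mathlib.CategoryTheory.Linear.Yoneda
import Mathlib.Algebra.Category.ModuleCat.Projective
import Mathlib.CategoryTheory.Abelian.Projective.Extend
import Mathlib.Algebra.Homology.Linear

/-!
# `Hom(P, -)` on K-injective complexes computes morphisms out of `P` in the derived category, linearly
-/

set_option autoImplicit false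
set_option backward.defeqAttrib.useBackward true
set_option backward.isDefEq.respectTransparency false

universe w w' v u

open CategoryTheory CategoryTheory.Limits HomologicalComplex

noncomputable section

namespace Groth.L04.DerComp.GlobalHom

variable {R : Type v} [CommRing R] {C : Type u} [Category.{v} C] [Abelian C] [Linear R C] (P : C)

/-- `M ↦ Hom(P, M)` as modules. -/
abbrev G : C ⥤ ModuleCat.{v} R := (linearCoyoneda R C).obj (Opposite.op P)

instance linear_G : (G (R := R) P).Linear R where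
  map_smul f r := ModuleCat.hom_ext (LinearMap.ext fun x => Linear.comp_smul _ _ _ _ r f)

local notation "𝕔" => ComplexShape.up ℤ
local notation "Sg" => HomologicalComplex.single

/-- The unit `R → Hom(P, P)`. -/
def unitMap : ModuleCat.of R R ⟶ (G (R := R) P).obj P :=
  ModuleCat.ofHom (LinearMap.toSpanSingleton R (P ⟶ P) (𝟙 P))

/-- Applying `Hom(P, -)` to a map out of `P` in degree `0`. -/
def τ (K : CochainComplex C ℤ) : ((Sg C 𝕔 0).obj P ⟶ K) →ₗ[R]
    ((Sg (ModuleCat.{v} R) 𝕔 0).obj (ModuleCat.of R R) ⟶ ((G P).mapHomologicalComplex 𝕔).obj K) where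
  toFun g := (Sg (ModuleCat.{v} R) 𝕔 0).map (unitMap (R := R) P) ≫ (singleMapHomologicalComplex (G (R := R) P) 𝕔 0).inv.app P ≫
    ((G (R := R) P).mapHomologicalComplex 𝕔).map g
  map_add' g h := by rw [Functor.map_add, Preadditive.comp_add, Preadditive.comp_add]
  map_smul' r g := by rw [Functor.map_smul, Linear.comp_smul, Linear.comp_smul, RingHom.id_apply]

theorem τ_comp {K L : CochainComplex C ℤ} (g : (Sg C 𝕔 0).obj P ⟶ K) (φ : K ⟶ L) :
    τ (R := R) P L (g ≫ φ) = τ P K g ≫ ((G P).mapHomologicalComplex 𝕔).map φ := by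
  simp only [τ, LinearMap.coe_mk, AddHom.coe_mk, Functor.map_comp, Category.assoc]

/-- The underlying map in degree `0`. -/
def deg (K : CochainComplex C ℤ) (g : (Sg C 𝕔 0).obj P ⟶ K) : P ⟶ K.X 0 :=
  (singleObjXSelf 𝕔 0 P).inv ≫ g.f 0

/-- The element of degree `0`. -/
def deg' (K : CochainComplex C ℤ)
    (g : (Sg (ModuleCat.{v} R) 𝕔 0).obj (ModuleCat.of R R) ⟶ ((G P).mapHomologicalComplex 𝕔).obj K) :
    P ⟶ K.X 0 :=
  ((singleObjXSelf 𝕔 0 (ModuleCat.of R R)).inv ≫ g.f 0) (1 : R)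

theorem deg'_τ (K : CochainComplex C ℤ) (g : (Sg C 𝕔 0).obj P ⟶ K) :
    deg' P K (τ (R := R) P K g) = deg P K g := by
  simp [deg', deg, τ, unitMap, single_map_f_self, singleMapHomologicalComplex_inv_app_self]

theorem deg'_inj (K : CochainComplex C ℤ)
    {g h : (Sg (ModuleCat.{v} R) 𝕔 0).obj (ModuleCat.of R R) ⟶ ((G P).mapHomologicalComplex 𝕔).obj K}
    (e : deg' P K g = deg' P K h) : g = h :=
  from_single_hom_ext ((cancel_epi (singleObjXSelf 𝕔 0 (ModuleCat.of R R)).inv).1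
    (ModuleCat.hom_ext (LinearMap.ext_ring e)))

theorem deg_inj (K : CochainComplex C ℤ) {g h : (Sg C 𝕔 0).obj P ⟶ K} (e : deg P K g = deg P K h) : g = h :=
  from_single_hom_ext ((cancel_epi (singleObjXSelf 𝕔 0 P).inv).1 e)

theorem τ_bijective (K : CochainComplex C ℤ) : Function.Bijective (τ (R := R) P K) := by
  refine ⟨fun g h e => deg_inj P K (by rw [← deg'_τ (R := R), e, deg'_τ]), fun g => ?_⟩
  have hd : deg' P K g ≫ K.d 0 1 = 0 := by
    have h1 : ((singleObjXSelf 𝕔 0 (ModuleCat.of R R)).inv ≫ g.f 0) ≫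
        (((G P).mapHomologicalComplex 𝕔).obj K).d 0 1 = 0 := by
      rw [Category.assoc, g.comm 0 1, ← Category.assoc]
      simp
    exact congr(($h1) (1 : R))
  refine ⟨mkHomFromSingle (deg' P K g) (fun k hk => ?_), deg'_inj P K ?_⟩
  · obtain rfl : k = 1 := by simpa using hk.symm
    exact hd
  · rw [deg'_τ, deg, mkHomFromSingle_f, Iso.inv_hom_id_assoc]

theorem homotopic_zero_of_eq {C' : Type*} [Category C'] [Preadditive C'] [HasZeroObject C'] {X : C'}
    {K : CochainComplex C' ℤ} (g : (Sg C' 𝕔 0).obj X ⟶ K) (k : X ⟶ K.X (-1))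
    (hk : (singleObjXSelf 𝕔 0 X).inv ≫ g.f 0 = k ≫ K.d (-1) 0) : Nonempty (Homotopy g 0) := by
  let h : ∀ i j, ((Sg C' 𝕔 0).obj X).X i ⟶ K.X j := fun i j =>
    if hij : i = 0 ∧ j = -1 then
      (singleObjXIsoOfEq 𝕔 0 X i hij.1).hom ≫ k ≫ (K.XIsoOfEq hij.2).inv
    else 0
  refine ⟨{ hom := h
            zero := fun i j hij => dif_neg fun h' => hij (by obtain ⟨rfl, rfl⟩ := h'; simp)
            comm := fun i => ?_ }⟩
  by_cases hi : i = 0
  · subst hi
    rw [dNext_eq h (show (ComplexShape.up ℤ).Rel 0 1 by simp), prevD_eq h (show (ComplexShape.up ℤ).Rel (-1) 0 by simp)]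
    simp only [h, zero_f, add_zero]
    rw [dif_neg (by simp), dif_pos (by simp), comp_zero, zero_add]
    simp only [XIsoOfEq_rfl, Iso.refl_inv, Category.comp_id, Category.assoc]
    rw [← hk]
    exact (Iso.hom_inv_id_assoc (singleObjXSelf 𝕔 0 X) (g.f 0)).symm
  · exact (isZero_single_obj_X 𝕔 0 X i hi).eq_of_src _ _

theorem exists_of_homotopic_zero {C' : Type*} [Category C'] [Preadditive C'] [HasZeroObject C'] {X : C'}
    {K : CochainComplex C' ℤ} {g : (Sg C' 𝕔 0).obj X ⟶ K} (h : Homotopy g 0) :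
    ∃ k : X ⟶ K.X (-1), (singleObjXSelf 𝕔 0 X).inv ≫ g.f 0 = k ≫ K.d (-1) 0 := by
  refine ⟨(singleObjXSelf 𝕔 0 X).inv ≫ h.hom 0 (-1), ?_⟩
  rw [h.comm 0, dNext_eq h.hom (show (ComplexShape.up ℤ).Rel 0 1 by simp), prevD_eq h.hom (show (ComplexShape.up ℤ).Rel (-1) 0 by simp)]
  simp

theorem homotopic_iff (K : CochainComplex C ℤ) (g : (Sg C 𝕔 0).obj P ⟶ K) :
    Nonempty (Homotopy (τ (R := R) P K g) 0) ↔ Nonempty (Homotopy g 0) := by
  refine ⟨fun ⟨h⟩ => ?_, fun ⟨h⟩ => ?_⟩
  · obtain ⟨k, hk⟩ := exists_of_homotopic_zero h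
    refine homotopic_zero_of_eq g (k (1 : R)) ((deg'_τ (R := R) P K g).symm.trans ?_)
    exact congr(($hk) (1 : R))
  · exact ⟨(((((G P).mapHomotopy h).trans (Homotopy.ofEq (Functor.map_zero _ _ _))).compLeft
      ((singleMapHomologicalComplex (G P) 𝕔 0).inv.app P)).trans (Homotopy.ofEq comp_zero)).compLeft
      ((Sg _ 𝕔 0).map (unitMap P)) |>.trans (Homotopy.ofEq comp_zero)⟩

instance isKProjective_single : CochainComplex.IsKProjective ((Sg (ModuleCat.{v} R) 𝕔 0).obj (ModuleCat.of R R)) := by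
  haveI : ∀ i, Projective (((Sg (ModuleCat.{v} R) 𝕔 0).obj (ModuleCat.of R R)).X i) := fun i => by
    by_cases hi : i = 0
    · subst hi
      exact Projective.of_iso (singleObjXSelf 𝕔 0 (ModuleCat.of R R)).symm inferInstance
    · exact (isZero_single_obj_X 𝕔 0 (ModuleCat.of R R) i hi).projective
  haveI : CochainComplex.IsStrictlyLE ((Sg (ModuleCat.{v} R) 𝕔 0).obj (ModuleCat.of R R)) 0 :=
    (CochainComplex.isStrictlyLE_iff _ _).2 fun i hi => isZero_single_obj_X 𝕔 0 _ i (by lia)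
  exact CochainComplex.isKProjective_of_projective _ 0

variable [HasDerivedCategory.{w} C] [HasDerivedCategory.{w'} (ModuleCat.{v} R)]

open DerivedCategory

theorem Q_map_eq_zero_iff_homotopic {C' : Type*} [Category C'] [Abelian C'] [HasDerivedCategory C']
    {K L : CochainComplex C' ℤ}
    (hb : Function.Bijective (Qh.map : ((HomotopyCategory.quotient C' 𝕔).obj K ⟶
      (HomotopyCategory.quotient C' 𝕔).obj L) → _)) (g : K ⟶ L) :
    Q.map g = 0 ↔ Nonempty (Homotopy g 0) := by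
  have e := quotientCompQhIso_hom_naturality g
  refine ⟨fun h => ⟨HomotopyCategory.homotopyOfEq g 0 (hb.1 ?_)⟩, fun ⟨h⟩ => ?_⟩
  · rw [Functor.map_zero, Functor.map_zero, ← cancel_mono ((quotientCompQhIso C').hom.app L), e, h, comp_zero,
      zero_comp]
  · rw [← cancel_epi ((quotientCompQhIso C').hom.app K), comp_zero, ← e,
      HomotopyCategory.eq_of_homotopy g 0 h, Functor.map_zero, Functor.map_zero, zero_comp]

theorem Q_map_surjective {C' : Type*} [Category C'] [Abelian C'] [HasDerivedCategory C']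
    {K L : CochainComplex C' ℤ}
    (hb : Function.Bijective (Qh.map : ((HomotopyCategory.quotient C' 𝕔).obj K ⟶
      (HomotopyCategory.quotient C' 𝕔).obj L) → _)) :
    Function.Surjective (Q.map : (K ⟶ L) → _) := fun x => by
  obtain ⟨y, hy⟩ := hb.2 ((quotientCompQhIso C').hom.app K ≫ x ≫ (quotientCompQhIso C').inv.app L)
  obtain ⟨g, rfl⟩ := (HomotopyCategory.quotient C' 𝕔).map_surjective y
  refine ⟨g, (cancel_epi ((quotientCompQhIso C').hom.app K)).1 ?_⟩
  rw [← quotientCompQhIso_hom_naturality g, hy, Category.assoc, Category.assoc, Iso.inv_hom_id_app]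
  exact congrArg (fun t => _ ≫ t) (Category.comp_id x)

/-- Morphisms `P[0] ⟶ I` in the derived category are morphisms `R[0] ⟶ Hom(P, I)`, for `I` K-injective. -/
theorem exists_equiv (I : CochainComplex C ℤ) [I.IsKInjective] :
    ∃ e : (Q.obj ((Sg C 𝕔 0).obj P) ⟶ Q.obj I) ≃ₗ[R]
        (Q.obj ((Sg (ModuleCat.{v} R) 𝕔 0).obj (ModuleCat.of R R)) ⟶
          Q.obj (((G P).mapHomologicalComplex 𝕔).obj I)),
      ∀ g, e (Q.map g) = Q.map (τ P I g) := by
  let S := (Sg C 𝕔 0).obj P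
  let S' := (Sg (ModuleCat.{v} R) 𝕔 0).obj (ModuleCat.of R R)
  let GI := ((G (R := R) P).mapHomologicalComplex 𝕔).obj I
  let m₁ : (S ⟶ I) →ₗ[R] (Q.obj S ⟶ Q.obj I) := Q.mapLinearMap R
  let m₂ : (S' ⟶ GI) →ₗ[R] (Q.obj S' ⟶ Q.obj GI) := Q.mapLinearMap R
  have hb₁ := CochainComplex.IsKInjective.Qh_map_bijective ((HomotopyCategory.quotient C 𝕔).obj S) I
  have hb₂ := CochainComplex.IsKProjective.Qh_map_bijective S' ((HomotopyCategory.quotient (ModuleCat.{v} R) 𝕔).obj GI)
  have hk : LinearMap.ker (m₂.comp (τ P I)) = LinearMap.ker m₁ := by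
    ext g
    change Q.map (τ P I g) = 0 ↔ Q.map g = 0
    rw [Q_map_eq_zero_iff_homotopic hb₁, Q_map_eq_zero_iff_homotopic hb₂]
    exact homotopic_iff P I g
  refine ⟨(m₁.quotKerEquivOfSurjective (Q_map_surjective hb₁)).symm.trans ((Submodule.quotEquivOfEq _ _ hk.symm).trans
    ((m₂.comp (τ P I)).quotKerEquivOfSurjective ((Q_map_surjective hb₂).comp (τ_bijective P I).2))), fun g => ?_⟩
  change _ = m₂ (τ P I g)
  rw [LinearEquiv.trans_apply, LinearEquiv.trans_apply,
    show (m₁.quotKerEquivOfSurjective (Q_map_surjective hb₁)).symm (Q.map g) = Submodule.Quotient.mk g from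
      (LinearEquiv.symm_apply_eq _).2 rfl, Submodule.quotEquivOfEq_mk]
  rfl

end Groth.L04.DerComp.GlobalHom
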