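import Groth.Agent.L04.DerComp.KosLoc
import Groth.Agent.L04.DerComp.RestrAdj
import Groth.Agent.L04.DerComp.Detect
import Groth.Agent.L10.FreeOn

/-!
# Objects with trivial derived completion, through iterated cones of local generators
-/

set_option autoImplicit false
set_option backward.defeqAttrib.useBackward true
set_option backward.isDefEq.respectTransparency false

universe u

open CategoryTheory CategoryTheory.Limits CategoryTheory.Pretriangulated Opposite Groth.L10

noncomputable section

attribute [local instance] HasDerivedCategory.standard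

namespace Groth.L04.DerComp

variable {C : Type u} [SmallCategory C] {J : GrothendieckTopology C} {O : Sheaf J CommRingCat.{u}}

/-- Only zero maps to derived complete objects. -/
def Killed (I : DerComp.IdealSh O) (N : DerivedCategory (ModSite.Mod O)) : Prop :=
  ∀ K, DerComp.IsDerComp O I K → Orth N K

theorem isDerComp_iff_orth (I : DerComp.IdealSh O) (K : DerivedCategory (ModSite.Mod O)) :
    DerComp.IsDerComp O I K ↔ ∀ (U : C) (f : O.obj.obj (op U)), f ∈ I.ideal U →
      Orth (SiteCmp.inD O (locCok U f)) K := by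
  refine forall_congr' fun U => forall_congr' fun f => forall_congr' fun _ => ?_
  rw [← orth_iff]
  exact ⟨fun h => h.of_iso₁ ((DerivedCategory.singleFunctor _ 0).mapIso (extZeroAwayIso U f)),
    fun h => h.of_iso₁ ((DerivedCategory.singleFunctor _ 0).mapIso (extZeroAwayIso U f)).symm⟩

theorem isDerComp_shift (I : DerComp.IdealSh O) {K : DerivedCategory (ModSite.Mod O)}
    (h : DerComp.IsDerComp O I K) (m : ℤ) : DerComp.IsDerComp O I (K⟦m⟧) :=
  (isDerComp_iff_orth I _).2 fun U f hf => ((isDerComp_iff_orth I K).1 h U f hf).shift₂ m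

/-- `O_V` in degree `0` on the slice. -/
abbrev unitD (O : Sheaf J CommRingCat.{u}) (V : C) : DerivedCategory (ModSite.Mod (O.over V)) :=
  SiteCmp.inD (O.over V) (ModSite.unit (O.over V))

/-- The scalars on the slice given by sections. -/
def secList (O : Sheaf J CommRingCat.{u}) (V : C) {r : ℕ} (a : Fin r → O.obj.obj (op V)) :
    List (DerComp.GSec (O.over V)) :=
  List.ofFn fun i => DerComp.GSec.ofSect O V (a i)

theorem mem_secList (V : C) {r : ℕ} (a : Fin r → O.obj.obj (op V)) (i : Fin r) :
    DerComp.GSec.ofSect O V (a i) ∈ secList O V a := (List.mem_ofFn' _ _).2 ⟨i, rfl⟩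

theorem mem_of_isGenBy {I : DerComp.IdealSh O} {V : C} {r : ℕ} {a : Fin r → O.obj.obj (op V)}
    (h : (I.over V).IsGenBy fun i => DerComp.GSec.ofSect O V (a i)) (i : Fin r) : a i ∈ I.ideal V := by
  have h1 : (O.obj.map (𝟙 V).op).hom (a i) ∈ I.ideal V := h.1 i (Over.mk (𝟙 V))
  rwa [op_id, CategoryTheory.Functor.map_id] at h1

/-- Killed objects vanish after iterated cones on generators. -/
theorem isZero_kos_of_killed {I : DerComp.IdealSh O} {N : DerivedCategory (ModSite.Mod O)} (hN : Killed I N)
    (V : C) {r : ℕ} (a : Fin r → O.obj.obj (op V))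
    (ha : (I.over V).IsGenBy fun i => DerComp.GSec.ofSect O V (a i)) :
    IsZero (kos (secList O V a) ((restrD O V).obj N)) := by
  haveI := isLeftAdjoint_restrD O V
  let ad := Adjunction.ofIsLeftAdjoint (restrD O V)
  let l := secList O V a
  refine isZero_of_orth_self ?_
  have key : ∀ Z, Orth (kos l ((restrD O V).obj N)) Z := fun Z => by
    rw [← List.reverse_reverse l, ← orth_kos_iff]
    refine (orth_adj_iff ad N _).2 (hN _ ((isDerComp_iff_orth I _).2 fun U f hf => ?_))
    rw [← orth_adj_iff ad, orth_kos_iff, List.reverse_reverse]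
    intro n
    have hz := isZero_kos_restr_locCok V _ ha l (mem_secList V a) U f hf
    exact ⟨fun x y => ((CategoryTheory.shiftFunctor _ n).map_isZero hz).eq_of_src x y⟩
  exact key _

/-- If `s` is bijective on sections of a complete object they vanish. -/
theorem orth_unit_of_bijective (s : DerComp.GSec O) (X : DerivedCategory (ModSite.Mod O))
    (h : Orth (SiteCmp.inD O (DerComp.locAway s (ModSite.unit O))) X)
    (hb : ∀ n : ℤ, Function.Bijective fun a : (SiteCmp.inD O (ModSite.unit O))⟦n⟧ ⟶ X => s • a) :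
    Orth (SiteCmp.inD O (ModSite.unit O)) X := fun n => by
  haveI := shMod_isGrothendieckAbelian (ModSite.ringSh O)
  haveI : Mono (𝟙 _ - DerLim.shiftMap (fun _ : ℕ => ModSite.unit O)
      (fun _ => DerComp.smulEnd s (ModSite.unit O))) :=
    Groth.L10.SeqColim.mono_one_sub_shift (fun _ : ℕ => ModSite.unit O) _
  have e : DerComp.awayMap s (ModSite.unit O) =
      𝟙 _ - DerLim.shiftMap (fun _ : ℕ => ModSite.unit O) (fun _ => DerComp.smulEnd s (ModSite.unit O)) := by
    refine Sigma.hom_ext _ _ fun k => ?_
    simp [DerComp.awayMap, DerLim.shiftMap]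
  have hz := (forall_tz_iff (ModSite.unit O) (DerComp.smulEnd s (ModSite.unit O)) X).2 (fun m =>
    @Equiv.subsingleton _ _ ((CategoryTheory.shiftFunctor _ m).mapIso
      ((DerivedCategory.singleFunctor _ 0).mapIso (cokernelIsoOfEq e).symm)).homFromEquiv (h m)) n
  have hs : ∀ a : (SiteCmp.inD O (ModSite.unit O))⟦n⟧ ⟶ X,
      preEnd (((DerivedCategory.singleFunctor (ModSite.Mod O) 0).map (DerComp.smulEnd s (ModSite.unit O)))⟦n⟧') X a =
        s • a := fun a => by
    have h1 : DerComp.smulEnd s (ModSite.unit O) = s • 𝟙 (ModSite.unit O) := (Category.comp_id _).symm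
    rw [preEnd_apply, h1, Functor.map_smul, Functor.map_smul, CategoryTheory.Functor.map_id,
      CategoryTheory.Functor.map_id, Linear.smul_comp]
    congr 1
    exact Category.id_comp a
  refine subsingleton_of_forall_eq 0 fun a => hz.eq_zero_of_iterate (Function.invFun fun b => s • b) (fun y => ?_) a
  rw [hs]
  exact Function.rightInverse_invFun (hb n).2 y

theorem orth_extD_inD (V : C) (M : ModSite.Mod (O.over V)) (K : DerivedCategory (ModSite.Mod O)) :
    Orth (SiteCmp.inD O ((ModSite.extZero O V).obj M)) K ↔ Orth (SiteCmp.inD (O.over V) M) ((restrD O V).obj K) := by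
  rw [← orth_adj_iff (extRestrAdjD O V)]
  exact ⟨fun h => h.of_iso₁ (((ModSite.extZero O V).mapDerivedCategorySingleFunctor 0).app M).symm,
    fun h => h.of_iso₁ (((ModSite.extZero O V).mapDerivedCategorySingleFunctor 0).app M)⟩

/-- A complete object with trivial iterated cones has no sections. -/
theorem orth_free_of_complete {I : DerComp.IdealSh O} {K : DerivedCategory (ModSite.Mod O)}
    (hK : DerComp.IsDerComp O I K) (V : C) {r : ℕ} (a : Fin r → O.obj.obj (op V)) (ha : ∀ i, a i ∈ I.ideal V)
    (h : Orth (unitD O V) (kos (secList O V a) ((restrD O V).obj K))) :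
    Orth (SiteCmp.inD O (ModSite.freeOn O V)) K := by
  refine (orth_extD_inD V _ K).2 ?_
  have hc : ∀ i, Orth (SiteCmp.inD (O.over V)
      (DerComp.locAway (DerComp.GSec.ofSect O V (a i)) (ModSite.unit (O.over V)))) ((restrD O V).obj K) := fun i =>
    (orth_extD_inD V _ K).1 ((orth_iff _ _).2 (hK V (a i) (ha i)))
  have hl : ∀ s ∈ secList O V a, ∃ i, DerComp.GSec.ofSect O V (a i) = s := fun s hs => (List.mem_ofFn' _ _).1 hs
  revert h
  generalize (restrD O V).obj K = X at hc ⊢
  generalize secList O V a = l at hl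
  induction l generalizing X with
  | nil => exact fun h => h
  | cons s l ih =>
    intro h
    obtain ⟨i, rfl⟩ := hl s (List.mem_cons_self ..)
    obtain ⟨g, δ, hd⟩ := coneS_spec (DerComp.GSec.ofSect O V (a i)) X
    have h' := ih (coneS (DerComp.GSec.ofSect O V (a i)) X) (fun j => orth_obj₃' _ hd (hc j) (hc j))
      (fun t ht => hl t (List.mem_cons_of_mem _ ht)) h
    exact orth_unit_of_bijective _ X (hc i) ((orth_coneS₂ _ _ X).1 h')

theorem kos_triangle (V : C) (l : List (DerComp.GSec (O.over V))) (t : Triangle (DerivedCategory (ModSite.Mod O)))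
    (ht : t ∈ distTriang _) (h₁ : Orth (unitD O V) (kos l ((restrD O V).obj t.obj₁)))
    (h₃ : Orth (unitD O V) (kos l ((restrD O V).obj t.obj₃))) :
    Orth (unitD O V) (kos l ((restrD O V).obj t.obj₂)) := by
  rw [orth_kos_iff] at h₁ h₃ ⊢
  exact orth_obj₂' _ ((restrD O V).map_distinguished t ht) h₁ h₃

/-- A cone of a completion is killed. -/
theorem killed_cone_toDerCompletion (I : DerComp.IdealSh O) [DerComp.HasDerCompletion O I]
    (N : DerivedCategory (ModSite.Mod O)) {W : DerivedCategory (ModSite.Mod O)}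
    (g : ((DerComp.derCompletion O I).obj N).obj ⟶ W) (δ : W ⟶ N⟦(1 : ℤ)⟧)
    (h : Triangle.mk (DerComp.toDerCompletion I N) g δ ∈ distTriang _) : Killed I W := fun K hK => by
  refine (forall_bijective_iff _ h K).1 fun n => ?_
  let sh := (shiftEquiv (DerivedCategory (ModSite.Mod O)) n).toAdjunction
  let K' : DerComp.DComp O I := ⟨K⟦-n⟧, isDerComp_shift I hK (-n)⟩
  let η := DerComp.toDerCompletion I N
  have hb : Function.Bijective (fun x : ((DerComp.derCompletion O I).obj N).obj ⟶ K⟦-n⟧ => η ≫ x) := by
    have h1 : (fun x : ((DerComp.derCompletion O I).obj N).obj ⟶ K⟦-n⟧ => η ≫ x) =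
        ((DerComp.IsDerComp O I).fullyFaithfulι.homEquiv (X := (DerComp.derCompletion O I).obj N) (Y := K')).symm.trans
          ((DerComp.derCompletionAdj O I).homEquiv N K') := funext fun x => by
      simp [Adjunction.homEquiv_unit, η, DerComp.toDerCompletion]
      rfl
    rw [h1]
    exact Equiv.bijective _
  have h2 : (fun x : ((DerComp.derCompletion O I).obj N).obj⟦n⟧ ⟶ K => η⟦n⟧' ≫ x) =
      (sh.homEquiv N K).symm ∘ (fun x => η ≫ x) ∘ sh.homEquiv ((DerComp.derCompletion O I).obj N).obj K := by
    funext x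
    refine ((congrArg _ ((sh.homEquiv _ K).symm_apply_apply x).symm).trans ?_)
    exact (sh.homEquiv_naturality_left_symm _ _).symm
  change Function.Bijective (fun x : ((DerComp.derCompletion O I).obj N).obj⟦n⟧ ⟶ K => η⟦n⟧' ≫ x)
  rw [h2]
  exact (Equiv.bijective _).comp (hb.comp (Equiv.bijective _))

/-- Objects whose iterated cones on local generators have no sections are killed. -/
theorem killed_of_orth_kos {I : DerComp.IdealSh O} (hI : I.IsFiniteType) [DerComp.HasDerCompletion O I]
    (N : DerivedCategory (ModSite.Mod O))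
    (h : ∀ (V : C) (r : ℕ) (a : Fin r → O.obj.obj (op V)),
      ((I.over V).IsGenBy fun i => DerComp.GSec.ofSect O V (a i)) →
      Orth (unitD O V) (kos (secList O V a) ((restrD O V).obj N))) : Killed I N := by
  haveI := shMod_isGrothendieckAbelian (ModSite.ringSh O)
  haveI : KInjDerived.EnoughKInjectives (ModSite.Mod O) :=
    @KInjDerived.instEnoughKInjectivesOfIsGrothendieckAbelian _ _ _ (shMod_isGrothendieckAbelian _)
  obtain ⟨W, g, δ, hT⟩ := distinguished_cocone_triangle (DerComp.toDerCompletion I N)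
  have hW : Killed I W := killed_cone_toDerCompletion I N g δ hT
  let L := ((DerComp.derCompletion O I).obj N).obj
  have hL : IsZero L := by
    let G : Set C := {V | ∃ (r : ℕ) (a : Fin r → O.obj.obj (op V)),
      (I.over V).IsGenBy fun i => DerComp.GSec.ofSect O V (a i)}
    refine isZero_of_separating _ (FreeOn.isSeparating O G fun X => ?_) L fun V => ?_
    · obtain ⟨S, hS, hd⟩ := hI X
      exact ⟨Σ Z : C, {g : Z ⟶ X // S g}, fun p => p.1, fun p => p.2.1,
        J.superset_covering (fun Z g hg => ⟨Z, 𝟙 Z, g,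
          Presieve.ofArrows.mk (⟨Z, g, hg⟩ : Σ Z : C, {g : Z ⟶ X // S g}), Category.id_comp g⟩) hS,
        fun p => hd p.2.1 p.2.2⟩
    obtain ⟨r, a, ha⟩ := V.2
    refine orth_free_of_complete ((DerComp.derCompletion O I).obj N).property V.1 a (mem_of_isGenBy ha) ?_
    refine kos_triangle V.1 _ _ hT (h V.1 r a ha) ?_
    intro n
    exact ⟨fun x y => (isZero_kos_of_killed hW V.1 a ha).eq_of_tgt x y⟩
  intro K hK n
  have hb := (forall_bijective_iff _ hT K).2 (hW K hK) n
  refine subsingleton_of_forall_eq 0 fun x => ?_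
  obtain ⟨y, rfl⟩ := hb.2 x
  have hy : y = 0 := ((CategoryTheory.shiftFunctor _ n).map_isZero hL).eq_of_src y 0
  subst hy
  exact comp_zero

/-- A map to a complete object with killed cone induces an isomorphism from the completion. -/
theorem isIso_of_killed_cone {I : DerComp.IdealSh O} [DerComp.HasDerCompletion O I]
    {K L W : DerivedCategory (ModSite.Mod O)} (u : K ⟶ L) (hL : DerComp.IsDerComp O I L) (g : L ⟶ W)
    (δ : W ⟶ K⟦(1 : ℤ)⟧) (hT : Triangle.mk u g δ ∈ distTriang _) (hW : Killed I W) :
    IsIso (((DerComp.derCompletionAdj O I).homEquiv K ⟨L, hL⟩).symm u) := by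
  refine (isIso_iff_coyoneda_map_bijective _).2 fun Z => ?_
  have hb : Function.Bijective (fun x : L ⟶ Z.obj => u ≫ x) :=
    bijective_of_arrowIso (u⟦(0 : ℤ)⟧') u ((shiftFunctorZero _ ℤ).app K) ((shiftFunctorZero _ ℤ).app L)
      ((shiftFunctorZero _ ℤ).hom.naturality u) Z.obj
      ((forall_bijective_iff _ hT Z.obj).2 (hW Z.obj Z.property) 0)
  let e := ((DerComp.IsDerComp O I).fullyFaithfulι.homEquiv (X := ⟨L, hL⟩) (Y := Z)).trans
    ((Equiv.ofBijective _ hb).trans ((DerComp.derCompletionAdj O I).homEquiv K Z).symm)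
  have key : (fun φ => ((DerComp.derCompletionAdj O I).homEquiv K ⟨L, hL⟩).symm u ≫ φ) = e := funext fun φ =>
    ((DerComp.derCompletionAdj O I).homEquiv_naturality_right_symm u φ).symm
  exact key ▸ e.bijective

end Groth.L04.DerComp
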