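import Groth.Agent.L15.KFlatSite.Res
import Groth.Agent.L00.LeftDeriv
import Groth.Prelude.Def_KFlatSite

/-!
# The derived tensor product on a ringed site at K-flat complexes
-/

set_option autoImplicit false
set_option backward.isDefEq.respectTransparency false
set_option backward.isDefEq.respectTransparency.types false

universe u

open CategoryTheory CategoryTheory.Limits HomologicalComplex

attribute [local instance] HasDerivedCategory.standard

noncomputable section

namespace Groth.L04.SiteLTensor

open Groth.L00 Groth.L15.KFlatSite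

variable {C : Type u} [SmallCategory C] {J : GrothendieckTopology C} (O : Sheaf J CommRingCat.{u})

/-- The zero complex mapping to a complex. -/
def zeroArrow : CochainComplex (ModSite.Mod O) ℤ ⥤ Arrow (CochainComplex (ModSite.Mod O) ℤ) where
  obj G := Arrow.mk (0 : (HomologicalComplex.zero : CochainComplex (ModSite.Mod O) ℤ) ⟶ G)
  map a := Arrow.homMk (𝟙 _) a (by simp)
  map_id G := by ext <;> rfl
  map_comp a b := by ext <;> simp

/-- Functorial K-flat resolution. -/
def RF : CochainComplex (ModSite.Mod O) ℤ ⥤ CochainComplex (ModSite.Mod O) ℤ := zeroArrow O ⋙ Res O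

/-- Its augmentation. -/
def rF : RF O ⟶ 𝟭 _ where
  app G := (Cell.resOut (cover O) (coverπ O)).app ((zeroArrow O).obj G)
  naturality G G' a := (Cell.resOut (cover O) (coverπ O)).naturality ((zeroArrow O).map a)

theorem quasiIso_rF (G : CochainComplex (ModSite.Mod O) ℤ) : QuasiIso ((rF O).app G) :=
  Cell.quasiIso_resOut (cover O) (coverπ O) _

theorem isKFlat_RF (G : CochainComplex (ModSite.Mod O) ℤ) : ModSite.IsKFlat ((RF O).obj G) :=
  isKFlat_res _ (zero _ HomologicalComplex.isZero_zero)

variable {O}

theorem isIso_map (P : CochainComplex (ModSite.Mod O) ℤ) {E E' : CochainComplex (ModSite.Mod O) ℤ} (a : E ⟶ E')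
    [QuasiIso a] (hE : ModSite.IsKFlat E) (hE' : ModSite.IsKFlat E') : IsIso ((ModSite.tensorCxQ P).map a) := by
  haveI : QuasiIso (((ModSite.tensorCx O).flip.obj P).map a) := quasiIso_tensor_left a hE hE' P
  exact Localization.inverts DerivedCategory.Q (quasiIso (ModSite.Mod O) (ComplexShape.up ℤ)) _
    ((HomologicalComplex.mem_quasiIso_iff _).2 inferInstance)

theorem inverts (P : CochainComplex (ModSite.Mod O) ℤ) :
    (quasiIso (ModSite.Mod O) (ComplexShape.up ℤ)).IsInvertedBy (RF O ⋙ ModSite.tensorCxQ P) := fun E E' a ha => by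
  haveI := (HomologicalComplex.mem_quasiIso_iff a).1 ha
  haveI := quasiIso_rF O E
  haveI := quasiIso_rF O E'
  haveI : QuasiIso ((RF O).map a ≫ (rF O).app E') := by
    rw [(rF O).naturality a]
    change QuasiIso ((rF O).app E ≫ a)
    infer_instance
  haveI : QuasiIso ((RF O).map a) := quasiIso_of_comp_right ((RF O).map a) ((rF O).app E')
  exact isIso_map P _ (isKFlat_RF O E) (isKFlat_RF O E')

/-- The derived tensor product at a K-flat complex is the tensor product. -/
theorem isIso_counit (P : CochainComplex (ModSite.Mod O) ℤ) [ModSite.HasLTensorCx P]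
    (E : CochainComplex (ModSite.Mod O) ℤ) (hE : ModSite.IsKFlat E) :
    IsIso (((ModSite.tensorCxQ P).totalLeftDerivedCounit DerivedCategory.Q
      (quasiIso (ModSite.Mod O) (ComplexShape.up ℤ))).app E) := by
  let F := ModSite.tensorCxQ P
  let W := quasiIso (ModSite.Mod O) (ComplexShape.up ℤ)
  have hrr : ∀ X, IsIso (F.map ((rF O).app ((RF O).obj X))) := fun X =>
    haveI := quasiIso_rF O ((RF O).obj X)
    isIso_map P _ (isKFlat_RF O _) (isKFlat_RF O _)
  haveI := LeftDeriv.isLeftDerivedFunctor F W DerivedCategory.Q (RF O) (rF O)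
    (fun X => (HomologicalComplex.mem_quasiIso_iff _).2 (quasiIso_rF O X)) (inverts P) hrr
  refine LeftDeriv.isIso_totalCounit F W DerivedCategory.Q _
    (LeftDeriv.α F W DerivedCategory.Q (RF O) (rF O) (inverts P)) E ?_
  rw [LeftDeriv.α_app]
  haveI := quasiIso_rF O E
  haveI : IsIso (F.map ((rF O).app E)) := isIso_map P _ (isKFlat_RF O E) hE
  infer_instance

/-- The value of the derived tensor product at a K-flat complex. -/
def objIso (P : CochainComplex (ModSite.Mod O) ℤ) [ModSite.HasLTensorCx P]
    (E : CochainComplex (ModSite.Mod O) ℤ) (hE : ModSite.IsKFlat E) :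
    (ModSite.LTensorCx P).obj (DerivedCategory.Q.obj E) ≅
      DerivedCategory.Q.obj (((ModSite.tensorCx O).obj E).obj P) :=
  haveI := isIso_counit P E hE
  asIso (((ModSite.tensorCxQ P).totalLeftDerivedCounit DerivedCategory.Q
    (quasiIso (ModSite.Mod O) (ComplexShape.up ℤ))).app E)

end Groth.L04.SiteLTensor
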