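import Groth.Agent.L04.DerComp.KosTransfer
import Groth.Agent.L04.DerComp.AwayTensor
import Groth.Agent.L04.DerComp.SiteLTensor
import Groth.Agent.L15.KFlatSite.Restr
import Mathlib.Algebra.Homology.HomotopyCategory.Pretriangulated

/-!
# `RHom(P, -)` sends completion cones to killed objects
-/

set_option autoImplicit false
set_option backward.defeqAttrib.useBackward true
set_option backward.isDefEq.respectTransparency false

universe u

open CategoryTheory CategoryTheory.Limits CategoryTheory.Pretriangulated Opposite Groth.L10 Groth.L15.ModTensor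
  Groth.L00

noncomputable section

attribute [local instance] HasDerivedCategory.standard

namespace Groth.L04.DerComp

section Generic

variable {T : Type*} [Category T] [Preadditive T] [HasZeroObject T] [HasShift T ℤ]
  [∀ n : ℤ, (shiftFunctor T n).Additive] [Pretriangulated T] {R : Type*} [CommRing R] [Linear R T]
  [∀ n : ℤ, (shiftFunctor T n).Linear R]

/-- Iterated cones detect maps out of objects killed by powers of all the scalars. -/
theorem orth_of_nil {Y : T} (l : List R) {X : T} (h : Orth Y (kos l X)) (hY : ∀ s ∈ l, Nil s Y) : Orth Y X := by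
  induction l generalizing X with
  | nil => exact h
  | cons s l ih =>
    intro n
    have hb := (orth_coneS₂ s Y X).1 (ih h fun t ht => hY t (List.mem_cons_of_mem _ ht)) n
    obtain ⟨k, hk⟩ := hY s (List.mem_cons_self ..)
    have hi : ∀ (m : ℕ) (a : Y⟦n⟧ ⟶ X), (fun b => s • b)^[m] a = (s ^ m) • a := fun m a => by
      induction m with
      | zero => simp
      | succ m im => rw [Function.iterate_succ_apply', im, smul_smul, ← pow_succ']
    refine subsingleton_of_forall_eq 0 fun a => hb.1.iterate k ?_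
    rw [hi, hi, smul_zero]
    have h1 : (s ^ k) • a = ((s ^ k) • 𝟙 Y)⟦n⟧' ≫ a := by
      rw [Functor.map_smul, CategoryTheory.Functor.map_id, Linear.smul_comp, Category.id_comp]
    rw [h1, hk, Functor.map_zero, zero_comp]

end Generic

variable {C : Type u} [SmallCategory C] {J : GrothendieckTopology C} {O : Sheaf J CommRingCat.{u}}

theorem quotient_kos {ι : Type} {F : Fam ι (ModSite.Mod O)} {s : ι → DerComp.GSec O} (h : F.Scalar s) (L : List ι) :
    Nonempty ((HomotopyCategory.quotient _ _).obj (Fam.kos L F).K ≅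
      kos (L.map s) ((HomotopyCategory.quotient (ModSite.Mod O) (ComplexShape.up ℤ)).obj F.K)) := by
  induction L generalizing F with
  | nil => exact ⟨Iso.refl _⟩
  | cons i L ih =>
    obtain ⟨g, δ, hd⟩ := coneS_spec (s i) ((HomotopyCategory.quotient _ _).obj F.K)
    obtain ⟨e⟩ := ih (h.cone i)
    have hc : (HomotopyCategory.quotient _ _).map (F.μ i) =
        s i • 𝟙 ((HomotopyCategory.quotient _ _).obj F.K) := by
      rw [h i, Functor.map_smul, CategoryTheory.Functor.map_id]
    obtain ⟨e'⟩ := kos_congr (L.map s) ⟨Triangle.π₃.mapIso (isoTriangleOfIso₁₂ _ _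
      (HomotopyCategory.mappingCone_triangleh_distinguished (F.μ i)) hd (Iso.refl _) (Iso.refl _) (by
        change (HomotopyCategory.quotient _ _).map (F.μ i) ≫ 𝟙 _ = 𝟙 _ ≫ (s i • 𝟙 _)
        rw [Category.comp_id, Category.id_comp, hc]))⟩
    exact ⟨e ≪≫ e'⟩

theorem exists_homotopy_kosU (V : C) {r : ℕ} (a : Fin r → O.obj.obj (op V)) (i : Fin r) :
    ∃ k : ℕ, Nonempty (Homotopy ((DerComp.GSec.ofSect O V (a i) ^ k) •
      𝟙 (Fam.kos (List.finRange r).reverse (famU O V a)).K) 0) := by
  let q := HomotopyCategory.quotient (ModSite.Mod (O.over V)) (ComplexShape.up ℤ)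
  obtain ⟨e⟩ := quotient_kos (scalar_famU O V a) (List.finRange r).reverse
  obtain ⟨k, hk⟩ := nil_kos ((List.finRange r).reverse.map fun j => DerComp.GSec.ofSect O V (a j))
    (q.obj (famU O V a).K) (s := DerComp.GSec.ofSect O V (a i))
    (List.mem_map.2 ⟨i, List.mem_reverse.2 (List.mem_finRange i), rfl⟩)
  refine ⟨k, ⟨HomotopyCategory.homotopyOfEq _ _ ?_⟩⟩
  rw [Functor.map_smul, CategoryTheory.Functor.map_id, Functor.map_zero, ← cancel_mono e.hom, zero_comp,
    Linear.smul_comp, Category.id_comp, ← Category.comp_id e.hom, ← Linear.comp_smul, hk, comp_zero]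

theorem tR_map_smulEnd (s : DerComp.GSec O) (A N : ModSite.Mod O) :
    (tR N).map (DerComp.smulEnd s A) = DerComp.smulEnd s (ten A N) := by
  have h1 := (braidIso N).hom.naturality (DerComp.smulEnd s A)
  have h2 := Groth.L04.AwayTensor.tL_map_smulEnd s N A
  have h3 : DerComp.smulEnd s ((tL N).obj A) ≫ (braidIso N).hom.app A =
      (braidIso N).hom.app A ≫ DerComp.smulEnd s ((tR N).obj A) := DerComp.smulEnd_comm s _
  change (tL N).map (DerComp.smulEnd s A) = DerComp.smulEnd s ((tL N).obj A) at h2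
  rw [h2, h3] at h1
  exact ((cancel_epi _).1 h1).symm

theorem resBi_map_smul (V : C) (s : DerComp.GSec (O.over V)) (A : ModSite.Mod (O.over V)) (N : ModSite.Mod O) :
    ((Groth.L15.KFlatSite.resBi O V).map (s • 𝟙 A)).app N = s • 𝟙 _ := by
  rw [DerComp.smul_def, DerComp.smul_def, Category.comp_id, Category.comp_id]
  exact tR_map_smulEnd s A ((ModSite.restr O V).obj N)

theorem mapBifunctorMap_smul (V : C) (s : DerComp.GSec (O.over V)) (L : CochainComplex (ModSite.Mod (O.over V)) ℤ)
    (P : CochainComplex (ModSite.Mod O) ℤ) :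
    HomologicalComplex.mapBifunctorMap (s • 𝟙 L) (𝟙 P) (Groth.L15.KFlatSite.resBi O V) (ComplexShape.up ℤ) =
      s • 𝟙 _ := by
  refine HomologicalComplex.hom_ext _ _ fun n => HomologicalComplex.mapBifunctor.hom_ext fun p q h => ?_
  rw [HomologicalComplex.ι_mapBifunctorMap]
  simp only [HomologicalComplex.smul_f_apply, HomologicalComplex.id_f, CategoryTheory.Functor.map_id,
    Linear.comp_smul, Category.comp_id]
  rw [resBi_map_smul]
  simp

/-- Killed objects receive only zero maps from `kosFree ⊗ P`. -/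
theorem orth_tensor_kosFree {I : DerComp.IdealSh O} {N : DerivedCategory (ModSite.Mod O)} (hN : Killed I N)
    (V : C) {r : ℕ} (a : Fin r → O.obj.obj (op V))
    (ha : (I.over V).IsGenBy fun i => DerComp.GSec.ofSect O V (a i)) (P : CochainComplex (ModSite.Mod O) ℤ) :
    Orth (DerivedCategory.Q.obj (((ModSite.tensorCx O).obj (kosFree O V a)).obj P)) N := by
  let Pu := (Fam.kos (List.finRange r).reverse (famU O V a)).K
  let ext := (ModSite.extZero O V).mapHomologicalComplex (ComplexShape.up ℤ)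
  let Y := HomologicalComplex.mapBifunctor Pu P (Groth.L15.KFlatSite.resBi O V) (ComplexShape.up ℤ)
  obtain ⟨e₃⟩ := Fam.map_kos (ModSite.extZero O V) (famU O V a) (List.finRange r).reverse
  let base : Fam.Iso' ((famU O V a).map (ModSite.extZero O V)) (famFree O V a) :=
    Fam.mapSingle (ModSite.extZero O V) _ _ _ (Iso.refl _) _ _ fun i => by
      rw [Iso.refl_hom, Category.comp_id, Category.id_comp]
      exact extZero_map_smulEnd V (a i)
  obtain ⟨e₄⟩ := Fam.Iso'.kos ⟨base⟩ (List.finRange r).reverse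
  haveI : PreservesColimitsOfSize.{0, 0} (ModSite.extZero O V) :=
    haveI := (ModSite.extZeroAdj O V).leftAdjoint_preservesColimits
    preservesColimitsOfSize_shrink.{0, u, 0, u} _
  let b := FunctorTotal.totalIso (Groth.L15.KFlatSite.resBi O V) (ModSite.tensorBi O) (ModSite.extZero O V) (𝟭 _)
    (ModSite.extZero O V) (Groth.L15.KFlatSite.projβ O V) (fun f N => Groth.L15.KFlatSite.projβ_hβ₁ O V f N)
    (fun P _ _ g => Groth.L15.KFlatSite.projβ_hβ₂ O V P g) (c := ComplexShape.up ℤ) Pu P
  let ec : ((ModSite.tensorCx O).obj (kosFree O V a)).obj P ≅ ext.obj Y :=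
    ((ModSite.tensorCx O).mapIso (e₃.trans e₄).iso.symm).app P ≪≫ b
  let e : DerivedCategory.Q.obj (((ModSite.tensorCx O).obj (kosFree O V a)).obj P) ≅
      (extD O V).obj (DerivedCategory.Q.obj Y) :=
    DerivedCategory.Q.mapIso ec ≪≫ ((ModSite.extZero O V).mapDerivedCategoryFactors.app Y).symm
  refine Orth.of_iso₁ e.symm ((orth_adj_iff (extRestrAdjD O V) _ _).2 ?_)
  refine orth_of_nil (secList O V a) (fun n => ⟨fun x y => (isZero_kos_of_killed hN V a ha).eq_of_tgt x y⟩) ?_
  intro s hs
  obtain ⟨i, rfl⟩ := (List.mem_ofFn' _ _).1 hs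
  obtain ⟨k, ⟨h⟩⟩ := exists_homotopy_kosU V a i
  refine ⟨k, ?_⟩
  let H := HomologicalComplex.mapBifunctorMapHomotopy₁ h (𝟙 P) (Groth.L15.KFlatSite.resBi O V) (ComplexShape.up ℤ)
  have h0 : HomologicalComplex.mapBifunctorMap (0 : Pu ⟶ Pu) (𝟙 P) (Groth.L15.KFlatSite.resBi O V)
      (ComplexShape.up ℤ) = 0 := by
    rw [← zero_smul (DerComp.GSec (O.over V)) (𝟙 Pu), mapBifunctorMap_smul, zero_smul]
  have h1 : (DerivedCategory.Q.map ((DerComp.GSec.ofSect O V (a i) ^ k) • 𝟙 Y)) = 0 := by
    rw [← cancel_epi ((DerivedCategory.quotientCompQhIso _).hom.app Y), comp_zero]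
    refine ((DerivedCategory.quotientCompQhIso _).hom.naturality _).symm.trans ?_
    rw [Functor.comp_map, HomotopyCategory.eq_of_homotopy _ (0 : Y ⟶ Y)
      ((Homotopy.ofEq (mapBifunctorMap_smul V _ Pu P).symm).trans (H.trans (Homotopy.ofEq h0)))]
    simp
  rwa [Functor.map_smul, CategoryTheory.Functor.map_id] at h1

theorem isKFlat_kosFree (V : C) {r : ℕ} (a : Fin r → O.obj.obj (op V)) : ModSite.IsKFlat (kosFree O V a) := by
  unfold kosFree
  have h0 : ModSite.IsKFlat (famFree O V a).K :=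
    Groth.L15.KFlatSite.single₀ _ (Groth.L15.ModTensor.isFlat_extZero O V _ Groth.L15.ModTensor.isFlat_unit)
  revert h0
  generalize famFree O V a = F
  generalize (List.finRange r).reverse = L
  intro h0
  induction L generalizing F with
  | nil => exact h0
  | cons i L ih => exact ih _ (Groth.L15.KFlatSite.isKFlat_cone _ h0 h0)

/-- The cone of `RHom(P, η)` is killed when the cone of `η` is. -/
theorem killed_RHom {I : DerComp.IdealSh O} (hI : I.IsFiniteType) [DerComp.HasDerCompletion O I]
    (P : CochainComplex (ModSite.Mod O) ℤ) [ModSite.HasLTensorCx P] [DerComp.HasRHom P]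
    {M M' W : DerivedCategory (ModSite.Mod O)} (η : M ⟶ M') (g : M' ⟶ W) (δ : W ⟶ M⟦(1 : ℤ)⟧)
    (hT : Triangle.mk η g δ ∈ distTriang _) (hW : Killed I W)
    {W' : DerivedCategory (ModSite.Mod O)} (g' : (DerComp.RHom P).obj M' ⟶ W')
    (δ' : W' ⟶ ((DerComp.RHom P).obj M)⟦(1 : ℤ)⟧)
    (hT' : Triangle.mk ((DerComp.RHom P).map η) g' δ' ∈ distTriang _) : Killed I W' :=
  killed_of_orth_kos hI _ fun V r a ha => by
    rw [orth_unit_kos_iff]
    refine (forall_bijective₂_iff _ hT' _).1 fun n => ?_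
    let S := kosFree O V a
    let T' := DerivedCategory.Q.obj (((ModSite.tensorCx O).obj S).obj P)
    let ι : (ModSite.LTensorCx P).obj ((DerivedCategory.Q.obj S)⟦n⟧) ≅ T'⟦n⟧ :=
      (ModSite.LTensorCx P).mapIso ((DerivedCategory.Q.commShiftIso n).app S).symm ≪≫
        Groth.L04.SiteLTensor.objIso P _ (Groth.L15.KFlatSite.shift S n (isKFlat_kosFree V a)) ≪≫
        DerivedCategory.Q.mapIso (CochainComplex.mapBifunctorShift₁Iso S P (ModSite.tensorBi O) n) ≪≫
        (DerivedCategory.Q.commShiftIso n).app _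
    have hb := (forall_bijective₂_iff _ hT T').2 (orth_tensor_kosFree hW V a ha P) n
    let φ : ∀ Z, (T'⟦n⟧ ⟶ Z) ≃ ((DerivedCategory.Q.obj S)⟦n⟧ ⟶ (DerComp.RHom P).obj Z) := fun Z =>
      ι.symm.homFromEquiv.trans ((DerComp.RHomAdj P).homEquiv _ _)
    have key : (fun x : (DerivedCategory.Q.obj S)⟦n⟧ ⟶ (DerComp.RHom P).obj M => x ≫ (DerComp.RHom P).map η) ∘ φ M =
        φ M' ∘ fun x : T'⟦n⟧ ⟶ M => x ≫ η := funext fun x => by
      change (DerComp.RHomAdj P).homEquiv _ _ (ι.hom ≫ x) ≫ (DerComp.RHom P).map η =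
        (DerComp.RHomAdj P).homEquiv _ _ (ι.hom ≫ x ≫ η)
      rw [← Adjunction.homEquiv_naturality_right, Category.assoc]
    exact (Function.Bijective.of_comp_iff _ (φ M).bijective).1 (key ▸ (φ M').bijective.comp hb)

end Groth.L04.DerComp
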