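import Groth.Agent.L04.DerComp.Criterion
import Mathlib.CategoryTheory.Linear.LinearFunctor

/-!
# Orthogonality and iterated cones of scalars in a linear triangulated category
-/

set_option autoImplicit false
set_option backward.defeqAttrib.useBackward true
set_option backward.isDefEq.respectTransparency false

universe t v u

open CategoryTheory CategoryTheory.Limits CategoryTheory.Pretriangulated

noncomputable section

namespace Groth.L04.DerComp

variable {T : Type u} [Category.{v} T] [Preadditive T] [HasZeroObject T] [HasShift T ℤ]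
  [∀ n : ℤ, (shiftFunctor T n).Additive] [Pretriangulated T]

/-- All morphisms from shifts of `A` to `Z` vanish. -/
def Orth (A Z : T) : Prop := ∀ n : ℤ, Subsingleton (A⟦n⟧ ⟶ Z)

section Basic

omit [HasZeroObject T] [∀ n : ℤ, (shiftFunctor T n).Additive] [Pretriangulated T] [Preadditive T]

theorem Orth.of_iso₁ {A A' Z : T} (e : A ≅ A') (h : Orth A Z) : Orth A' Z := fun n =>
  @Equiv.subsingleton _ _ ((shiftFunctor T n).mapIso e.symm).homFromEquiv (h n)

theorem Orth.of_iso₂ {A Z Z' : T} (e : Z ≅ Z') (h : Orth A Z) : Orth A Z' := fun n =>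
  @Equiv.subsingleton _ _ e.symm.homToEquiv (h n)

theorem orth_iff (A Z : T) : Orth A Z ↔ ∀ n : ℤ, Subsingleton (A ⟶ Z⟦n⟧) := by
  constructor
  · intro h n
    exact @Equiv.subsingleton _ _ ((shiftEquiv T n).symm.toAdjunction.homEquiv A Z).symm (h (-n))
  · intro h n
    exact @Equiv.subsingleton _ _ ((shiftEquiv T n).toAdjunction.homEquiv A Z) (h (-n))

theorem Orth.shift₁ {A Z : T} (h : Orth A Z) (m : ℤ) : Orth (A⟦m⟧) Z := fun n =>
  @Equiv.subsingleton _ _ ((shiftFunctorAdd T m n).app A).symm.homFromEquiv (h (m + n))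

theorem Orth.shift₂ {A Z : T} (h : Orth A Z) (m : ℤ) : Orth A (Z⟦m⟧) :=
  (orth_iff _ _).2 fun n => @Equiv.subsingleton _ _ ((shiftFunctorAdd T m n).app Z).symm.homToEquiv
    ((orth_iff _ _).1 h (m + n))

theorem Orth.hom_eq {A Z : T} (h : Orth A Z) (a b : A ⟶ Z) : a = b := by
  haveI := h 0
  exact (@Equiv.subsingleton _ _ ((shiftFunctorZero T ℤ).app A).symm.homFromEquiv (h 0)).elim a b

end Basic

omit [HasZeroObject T] [Pretriangulated T] [∀ n : ℤ, (shiftFunctor T n).Additive] in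
theorem isZero_of_orth_self {A : T} (h : Orth A A) : IsZero A :=
  (IsZero.iff_id_eq_zero A).2 (h.hom_eq _ _)

/-- The third object of a triangle receives no map iff the first map induces bijections. -/
theorem forall_bijective₂_iff (t : Triangle T) (ht : t ∈ distTriang T) (X : T) :
    (∀ n : ℤ, Function.Bijective (fun g : X⟦n⟧ ⟶ t.obj₁ => g ≫ t.mor₁)) ↔ Orth X t.obj₃ := by
  constructor
  · intro h n
    refine subsingleton_of_forall_eq 0 fun a => ?_
    have h1 : a ≫ t.mor₃ = 0 := by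
      let ad := (shiftEquiv T (1 : ℤ)).symm.toAdjunction
      obtain ⟨z, hz⟩ : ∃ z, (ad.homEquiv (X⟦n⟧) t.obj₁).symm (a ≫ t.mor₃) = z := ⟨_, rfl⟩
      have hzψ : z ≫ t.mor₁ = 0 := by
        rw [← hz, ← ad.homEquiv_naturality_right_symm, Category.assoc]
        change (ad.homEquiv (X⟦n⟧) t.obj₂).symm (a ≫ t.mor₃ ≫ t.mor₁⟦(1 : ℤ)⟧') = 0
        rw [comp_distTriang_mor_zero₃₁ t ht, comp_zero, ad.homEquiv_counit]
        simp
      let sh := (shiftFunctorAdd T n (-1)).app X
      have hz0 : sh.hom ≫ z = 0 := (h (n + -1)).1 (show (sh.hom ≫ z) ≫ t.mor₁ = 0 ≫ t.mor₁ by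
        rw [Category.assoc, hzψ, comp_zero, zero_comp])
      have hz1 : z = 0 := by rw [← cancel_epi sh.hom, hz0, comp_zero]
      apply (ad.homEquiv _ _).symm.injective
      rw [hz, hz1, ad.homEquiv_counit]
      simp
    obtain ⟨b, rfl⟩ := Triangle.coyoneda_exact₃ t ht a h1
    obtain ⟨c, rfl⟩ := (h n).2 b
    change (c ≫ t.mor₁) ≫ t.mor₂ = 0
    rw [Category.assoc, comp_distTriang_mor_zero₁₂ t ht, comp_zero]
  · intro h n
    refine ⟨fun a b hab => ?_, fun y => ?_⟩
    · haveI : Subsingleton (X⟦n⟧ ⟶ t.obj₃⟦(-1 : ℤ)⟧) := h.shift₂ (-1) n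
      obtain ⟨c, hc⟩ := Triangle.coyoneda_exact₂ t.invRotate (inv_rot_of_distTriang _ ht) (a - b) (by
        change (a - b) ≫ t.mor₁ = 0
        rw [Preadditive.sub_comp, sub_eq_zero]
        exact hab)
      rw [← sub_eq_zero, hc, Subsingleton.elim (α := X⟦n⟧ ⟶ t.obj₃⟦(-1 : ℤ)⟧) c 0]
      exact zero_comp
    · haveI := h n
      obtain ⟨c, rfl⟩ := Triangle.coyoneda_exact₂ t ht y (Subsingleton.elim _ _)
      exact ⟨c, rfl⟩

theorem orth_obj₃ (t : Triangle T) (ht : t ∈ distTriang T) {Z : T} (h₁ : Orth t.obj₁ Z) (h₂ : Orth t.obj₂ Z) :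
    Orth t.obj₃ Z :=
  (forall_bijective_iff t ht Z).1 fun n => by
    haveI := h₁ n; haveI := h₂ n
    exact ⟨fun a b _ => Subsingleton.elim a b, fun y => ⟨0, Subsingleton.elim _ _⟩⟩

theorem orth_obj₃' (t : Triangle T) (ht : t ∈ distTriang T) {X : T} (h₁ : Orth X t.obj₁) (h₂ : Orth X t.obj₂) :
    Orth X t.obj₃ :=
  (forall_bijective₂_iff t ht X).1 fun n => by
    haveI := h₁ n; haveI := h₂ n
    exact ⟨fun a b _ => Subsingleton.elim a b, fun y => ⟨0, Subsingleton.elim _ _⟩⟩

theorem orth_obj₂' (t : Triangle T) (ht : t ∈ distTriang T) {X : T} (h₁ : Orth X t.obj₁) (h₃ : Orth X t.obj₃) :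
    Orth X t.obj₂ :=
  orth_obj₃' t.invRotate (inv_rot_of_distTriang _ ht) (h₃.shift₂ (-1)) h₁

theorem orth_obj₁' (t : Triangle T) (ht : t ∈ distTriang T) {X : T} (h₂ : Orth X t.obj₂) (h₃ : Orth X t.obj₃) :
    Orth X t.obj₁ :=
  orth_obj₂' t.invRotate (inv_rot_of_distTriang _ ht) (h₃.shift₂ (-1)) h₂

section Linear

variable {R : Type t} [CommRing R] [Linear R T] [∀ n : ℤ, (shiftFunctor T n).Linear R]

/-- A cone of multiplication by `s`. -/
def coneS (s : R) (X : T) : T := (distinguished_cocone_triangle (s • 𝟙 X)).choose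

omit [∀ n : ℤ, (shiftFunctor T n).Linear R] in
theorem coneS_spec (s : R) (X : T) :
    ∃ (g : X ⟶ coneS s X) (δ : coneS s X ⟶ X⟦(1 : ℤ)⟧), Triangle.mk (s • 𝟙 X) g δ ∈ distTriang T :=
  (distinguished_cocone_triangle (s • 𝟙 X)).choose_spec

/-- Iterated cones. -/
def kos : List R → T → T
  | [], X => X
  | s :: l, X => kos l (coneS s X)

omit [∀ n : ℤ, (shiftFunctor T n).Linear R] in
theorem kos_append (l l' : List R) (X : T) : kos (l ++ l') X = kos l' (kos l X) := by
  induction l generalizing X with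
  | nil => rfl
  | cons s l ih => exact ih _

theorem orth_coneS₁ (s : R) (A Z : T) :
    Orth (coneS s A) Z ↔ ∀ n : ℤ, Function.Bijective (fun a : A⟦n⟧ ⟶ Z => s • a) := by
  obtain ⟨g, δ, h⟩ := coneS_spec s A
  refine (forall_bijective_iff _ h Z).symm.trans (forall_congr' fun n => ?_)
  have : (fun a : A⟦n⟧ ⟶ Z => (s • 𝟙 A)⟦n⟧' ≫ a) = fun a => s • a := funext fun a => by
    rw [Functor.map_smul, CategoryTheory.Functor.map_id, Linear.smul_comp, Category.id_comp]
  exact iff_of_eq (congrArg Function.Bijective this)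

theorem orth_coneS₂ (s : R) (A Z : T) :
    Orth A (coneS s Z) ↔ ∀ n : ℤ, Function.Bijective (fun a : A⟦n⟧ ⟶ Z => s • a) := by
  obtain ⟨g, δ, h⟩ := coneS_spec s Z
  refine (forall_bijective₂_iff _ h A).symm.trans (forall_congr' fun n => ?_)
  have : (fun a : A⟦n⟧ ⟶ Z => a ≫ (s • 𝟙 Z)) = fun a => s • a := funext fun a => by
    rw [Linear.comp_smul, Category.comp_id]
  exact iff_of_eq (congrArg Function.Bijective this)

/-- Iterated cones of scalars move from one argument to the other. -/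
theorem orth_kos_iff (l : List R) (A Z : T) : Orth A (kos l Z) ↔ Orth (kos l.reverse A) Z := by
  induction l generalizing Z with
  | nil => rfl
  | cons s l ih =>
    rw [List.reverse_cons, kos_append]
    exact (ih _).trans ((orth_coneS₂ s _ Z).trans (orth_coneS₁ s _ Z).symm)

theorem Orth.kos {A X : T} (h : Orth A X) (l : List R) : Orth A (DerComp.kos l X) := by
  induction l generalizing X with
  | nil => exact h
  | cons s l ih =>
    refine ih ?_
    obtain ⟨g, δ, hd⟩ := coneS_spec s X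
    exact orth_obj₃' _ hd h h

/-- A power of `s` kills `X`. -/
def Nil (s : R) (X : T) : Prop := ∃ k : ℕ, (s ^ k) • 𝟙 X = 0

theorem sq_smul_id_eq_zero {X X' Y : T} (c : R) (f : X ⟶ X') (g : X' ⟶ Y) (δ : Y ⟶ X⟦(1 : ℤ)⟧)
    (h : Triangle.mk f g δ ∈ distTriang T) (hg : c • g = 0) (hδ : c • δ = 0) : (c * c) • 𝟙 Y = 0 := by
  obtain ⟨z, hz⟩ := Triangle.coyoneda_exact₃ _ h (c • 𝟙 Y) (by
    change (c • 𝟙 Y) ≫ δ = 0
    rw [Linear.smul_comp, Category.id_comp, hδ])
  change c • 𝟙 Y = z ≫ g at hz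
  rw [mul_smul, hz, ← Linear.comp_smul, hg, comp_zero]

theorem nil_coneS_self (s : R) (X : T) : Nil s (coneS s X) := by
  obtain ⟨g, δ, h⟩ := coneS_spec s X
  refine ⟨2, ?_⟩
  rw [pow_two]
  refine sq_smul_id_eq_zero s _ g δ h ?_ ?_
  · have h1 := comp_distTriang_mor_zero₁₂ _ h
    change (s • 𝟙 X) ≫ g = 0 at h1
    rw [Linear.smul_comp, Category.id_comp] at h1
    exact h1
  · have h1 := comp_distTriang_mor_zero₃₁ _ h
    change δ ≫ (s • 𝟙 X)⟦(1 : ℤ)⟧' = 0 at h1
    rw [Functor.map_smul, CategoryTheory.Functor.map_id, Linear.comp_smul, Category.comp_id] at h1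
    exact h1

theorem Nil.coneS {t : R} {X : T} (s : R) (hX : Nil t X) : Nil t (DerComp.coneS s X) := by
  obtain ⟨k, hk⟩ := hX
  obtain ⟨g, δ, h⟩ := coneS_spec s X
  refine ⟨k + k, ?_⟩
  rw [pow_add]
  refine sq_smul_id_eq_zero (t ^ k) _ g δ h ?_ ?_
  · rw [← Category.id_comp g, ← Linear.smul_comp, hk, zero_comp]
  · have h1 : (t ^ k) • δ = δ ≫ ((t ^ k) • 𝟙 X)⟦(1 : ℤ)⟧' := by
      rw [Functor.map_smul, CategoryTheory.Functor.map_id, Linear.comp_smul, Category.comp_id]
    rw [h1, hk, Functor.map_zero, comp_zero]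

theorem nil_kos_of_nil {t : R} {X : T} (l : List R) (h : Nil t X) : Nil t (kos l X) := by
  induction l generalizing X with
  | nil => exact h
  | cons s l ih => exact ih (h.coneS s)

theorem nil_kos (l : List R) (X : T) {s : R} (hs : s ∈ l) : Nil s (kos l X) := by
  induction l generalizing X with
  | nil => simp at hs
  | cons t l ih =>
    rcases List.mem_cons.1 hs with rfl | hs
    · exact nil_kos_of_nil l (nil_coneS_self s X)
    · exact ih _ hs

end Linear

end Groth.L04.DerComp
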