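import Groth.Agent.L04.DerComp.Red
import Groth.Agent.L04.DerComp.Orth
import Groth.Agent.L04.DerComp.Criterion
import Groth.Agent.L15.ExtZero.Exact
import Groth.Agent.L10.SheafModGroth
import Mathlib.Algebra.Homology.DerivedCategory.FullyFaithful
import Mathlib.Algebra.Homology.DerivedCategory.ExactFunctor
import Mathlib.Algebra.Homology.ShortComplex.Linear

/-!
# Iterated cones of generators of an ideal kill localised modules
-/

set_option autoImplicit false
set_option backward.defeqAttrib.useBackward true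
set_option backward.isDefEq.respectTransparency false

universe u

open CategoryTheory CategoryTheory.Limits CategoryTheory.Pretriangulated Opposite Groth.L15.FlatCrit Groth.L15.LocPres ZeroObject

noncomputable section

attribute [local instance] HasDerivedCategory.standard

namespace Groth.L04.DerComp

variable {C : Type u} [SmallCategory C] {J : GrothendieckTopology C} {O : Sheaf J CommRingCat.{u}}

local notation "H" => DerivedCategory.homologyFunctor (ModSite.Mod O)

theorem homology_gsec_smul (r : DerComp.GSec O) (W : DerivedCategory (ModSite.Mod O)) (n : ℤ) :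
    (H n).map (r • 𝟙 W) = DerComp.smulEnd r _ := by
  let K := DerivedCategory.Q.objPreimage W
  let e : DerivedCategory.Q.obj K ≅ W := DerivedCategory.Q.objObjPreimageIso W
  have h : r • 𝟙 W = e.inv ≫ DerivedCategory.Q.map (r • 𝟙 K) ≫ e.hom := by
    rw [Functor.map_smul, CategoryTheory.Functor.map_id, Linear.smul_comp, Category.id_comp, Linear.comp_smul, e.inv_hom_id]
  have h1 : HomologicalComplex.homologyMap (r • 𝟙 K) n = r • 𝟙 (K.homology n) := by
    refine Eq.trans ?_ ((ShortComplex.homologyMap_smul (𝟙 (K.sc n)) r).trans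
      (congrArg (r • ·) (ShortComplex.homologyMap_id _)))
    exact congrArg (fun φ => ShortComplex.homologyMap φ) (ShortComplex.hom_ext
      ((HomologicalComplex.shortComplexFunctor _ _ n).map (r • 𝟙 K)) (r • 𝟙 (K.sc n)) rfl rfl rfl)
  have h2 : (H n).map (DerivedCategory.Q.map (r • 𝟙 K)) = r • 𝟙 _ := by
    rw [← cancel_mono ((DerivedCategory.homologyFunctorFactors (ModSite.Mod O) n).hom.app K),
      DerivedCategory.homologyFunctorFactors_hom_naturality, h1, Linear.smul_comp, Category.id_comp]
    exact (Linear.comp_smul _ _ _ _ _ _).trans (congrArg (r • ·) (Category.comp_id _))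
  refine Eq.trans ?_ (Category.comp_id (DerComp.smulEnd r ((H n).obj W)))
  change (H n).map (r • 𝟙 W) = r • 𝟙 ((H n).obj W)
  rw [h, Functor.map_comp, Functor.map_comp, h2, Linear.smul_comp, Category.id_comp, Linear.comp_smul,
    ← Functor.map_comp, e.inv_hom_id, CategoryTheory.Functor.map_id]

/-- Reduction on all cohomology sheaves. -/
def HRed (I : DerComp.IdealSh O) {X : DerivedCategory (ModSite.Mod O)} (e : X ⟶ X) : Prop :=
  ∀ n : ℤ, RedAll I ((H n).map e)

theorem HRed.coneS {I : DerComp.IdealSh O} {X : DerivedCategory (ModSite.Mod O)} {e : X ⟶ X} [IsIso e]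
    (he : HRed I e) (s : DerComp.GSec O) :
    ∃ e' : DerComp.coneS s X ⟶ DerComp.coneS s X, IsIso e' ∧ HRed I e' := by
  obtain ⟨g, δ, h⟩ := coneS_spec s X
  let T := Triangle.mk (s • 𝟙 X) g δ
  obtain ⟨e', h₂, h₃⟩ := complete_distinguished_triangle_morphism _ _ h h e e (by
    change (s • 𝟙 X) ≫ e = e ≫ (s • 𝟙 X)
    rw [Linear.smul_comp, Category.id_comp, Linear.comp_smul, Category.comp_id])
  change g ≫ e' = e ≫ g at h₂
  change δ ≫ e⟦(1 : ℤ)⟧' = e' ≫ δ at h₃
  have hsq : T.mor₁ ≫ e = e ≫ T.mor₁ := by
    change (s • 𝟙 X) ≫ e = e ≫ (s • 𝟙 X)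
    rw [Linear.smul_comp, Category.id_comp, Linear.comp_smul, Category.comp_id]
  refine ⟨e', isIso₃_of_isIso₁₂ (Triangle.homMk T T e e e' hsq h₂ h₃) h h ‹IsIso e› ‹IsIso e›, fun n => ?_⟩
  have hX1 : RedAll I ((H n).map (e⟦(1 : ℤ)⟧')) := by
    refine redAll_iso (e := (H (n + 1)).map e)
      ((((DerivedCategory.homologyFunctor (ModSite.Mod O) 0).shiftIso (1 : ℤ) n (n + 1) (by omega)).app X).symm) ?_ (he _)
    exact (((DerivedCategory.homologyFunctor (ModSite.Mod O) 0).shiftIso (1 : ℤ) n (n + 1) (by omega)).inv.naturality e)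
  exact redAll_of_exact _ ((H n).map_distinguished_exact T.rotate (rot_of_distTriang _ h))
    ((H n).map e) ((H n).map e') ((H n).map (e⟦(1 : ℤ)⟧'))
    (by
      change (H n).map e ≫ (H n).map g = (H n).map g ≫ (H n).map e'
      rw [← Functor.map_comp, ← Functor.map_comp, h₂])
    (by
      change (H n).map e' ≫ (H n).map δ = (H n).map δ ≫ (H n).map (e⟦(1 : ℤ)⟧')
      rw [← Functor.map_comp, ← Functor.map_comp, h₃])
    (he n) hX1

theorem HRed.kos {I : DerComp.IdealSh O} {X : DerivedCategory (ModSite.Mod O)} {e : X ⟶ X} [IsIso e]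
    (he : HRed I e) (l : List (DerComp.GSec O)) :
    ∃ e' : DerComp.kos l X ⟶ DerComp.kos l X, IsIso e' ∧ HRed I e' := by
  induction l generalizing X with
  | nil => exact ⟨e, inferInstance, he⟩
  | cons s l ih =>
    obtain ⟨e', h', he'⟩ := he.coneS s
    exact ih he'

theorem isZero_of_homology {X : DerivedCategory (ModSite.Mod O)} (h : ∀ n, IsZero ((H n).obj X)) : IsZero X := by
  haveI : IsIso (0 : X ⟶ 0) := (DerivedCategory.isIso_iff (ModSite.Mod O) _).2 fun n =>
    ⟨⟨0, (h n).eq_of_src _ _, ((H n).map_isZero (isZero_zero _)).eq_of_src _ _⟩⟩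
  exact (isZero_zero _).of_iso (asIso (0 : X ⟶ 0))

/-- Iterated cones on generators kill objects with a reducing automorphism. -/
theorem isZero_kos_of_hRed {I : DerComp.IdealSh O} {r : ℕ} (a : Fin r → DerComp.GSec O) (hI : I.IsGenBy a)
    (l : List (DerComp.GSec O)) (hl : ∀ i, a i ∈ l)
    {X : DerivedCategory (ModSite.Mod O)} {e : X ⟶ X} [IsIso e] (he : HRed I e) : IsZero (kos l X) := by
  obtain ⟨e', h', he'⟩ := he.kos l
  refine isZero_of_homology fun n => isZero_of_redAll (hI.2 _ fun i U => ?_) (he' n)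
  obtain ⟨k, hk⟩ := nil_kos l X (hl i)
  intro W g y
  refine J.superset_covering (fun Z h _ => ⟨k, ?_⟩) (J.top_mem W)
  have hz : DerComp.smulEnd (a i ^ k) ((H n).obj (kos l X)) = 0 := by
    rw [← homology_gsec_smul, hk, Functor.map_zero]
  have h1 := congr(($hz).val.app (op Z) (rs ((H n).obj (kos l X)) h y))
  have h2 : rr O h (rr O g ((a i).1 U)) ^ k = (a i ^ k).1 Z := by
    have e1 : rr O h (rr O g ((a i).1 U)) = (a i).1 Z :=
      (congrArg (rr O h) ((a i).2 g)).trans ((a i).2 h)
    rw [e1]
    rfl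
  rw [h2]
  exact h1

/-- The localised module on a slice dies under iterated cones. -/
theorem isZero_kos_restr_locCok (V : C) {r : ℕ} (a : Fin r → DerComp.GSec (O.over V)) {I : DerComp.IdealSh O}
    (hI : (I.over V).IsGenBy a) (l : List (DerComp.GSec (O.over V))) (hl : ∀ i, a i ∈ l)
    (U : C) (g : O.obj.obj (op U)) (hg : g ∈ I.ideal U) :
    IsZero (kos l ((ModSite.restr O V).mapDerivedCategory.obj (SiteCmp.inD O (locCok U g)))) := by
  let iso := ((ModSite.restr O V).mapDerivedCategorySingleFunctor 0).app (locCok U g)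
  let s₀ := DerivedCategory.singleFunctor (ModSite.Mod (O.over V)) 0
  let H' := DerivedCategory.homologyFunctor (ModSite.Mod (O.over V))
  let e₁ := s₀.map ((ModSite.restr O V).map (locMul U g))
  have he : HRed (I.over V) e₁ := fun n => by
    by_cases hn : n = 0
    · subst hn
      refine redAll_iso (e := (ModSite.restr O V).map (locMul U g))
        (((DerivedCategory.singleFunctorCompHomologyFunctorIso (ModSite.Mod (O.over V)) 0).app _).symm) ?_
        (redAll_restr V (redAll_locMul U g I hg))
      exact (DerivedCategory.singleFunctorCompHomologyFunctorIso (ModSite.Mod (O.over V)) 0).inv.naturality _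
    · refine redAll_of_isZero ?_
      exact (HomologicalComplex.isZero_single_obj_homology (ComplexShape.up ℤ) 0
        ((ModSite.restr O V).obj (locCok U g)) n hn).of_iso
        (((DerivedCategory.homologyFunctor _ n).mapIso
          ((DerivedCategory.singleFunctorIsoCompQ _ 0).app _)) ≪≫
          (DerivedCategory.homologyFunctorFactors _ n).app _)
  let X' : DerivedCategory (ModSite.Mod (O.over V)) :=
    (ModSite.restr O V).mapDerivedCategory.obj (SiteCmp.inD O (locCok U g))
  let e₂ : X' ⟶ X' := iso.hom ≫ e₁ ≫ iso.inv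
  have he₂ : HRed (I.over V) e₂ := fun n => by
    refine redAll_iso (e := (H' n).map e₁) ((H' n).mapIso iso.symm) ?_ (he n)
    change (H' n).map e₁ ≫ (H' n).map iso.inv = (H' n).map iso.inv ≫ (H' n).map e₂
    rw [← Functor.map_comp, ← Functor.map_comp]
    exact congrArg _ (Iso.inv_hom_id_assoc iso (e₁ ≫ iso.inv)).symm
  haveI : IsIso e₂ := by dsimp only [e₂, e₁]; infer_instance
  exact isZero_kos_of_hRed a hI l hl he₂

end Groth.L04.DerComp
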