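import Groth.Agent.L04.DerComp.Fam
import Groth.Agent.L04.DerComp.Killed
import Groth.Agent.L04.DerComp.ExtGen
import Groth.Agent.L04.DerComp.CandIdeal
import Groth.Agent.L04.DerComp.RpushAdj

/-!
# Direct images of killed objects are killed
-/

set_option autoImplicit false
set_option backward.defeqAttrib.useBackward true
set_option backward.isDefEq.respectTransparency false

universe u

open CategoryTheory CategoryTheory.Limits CategoryTheory.Pretriangulated Opposite CategoryTheory.Abelian Groth.L10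

noncomputable section

attribute [local instance] HasDerivedCategory.standard

namespace Groth.L04.DerComp

section Generic

variable {T : Type*} [Category T] [Preadditive T] [HasZeroObject T] [HasShift T ℤ]
  [∀ n : ℤ, (shiftFunctor T n).Additive] [Pretriangulated T] {R : Type*} [CommRing R] [Linear R T]

theorem kos_congr (l : List R) {X X' : T} (h : Nonempty (X ≅ X')) : Nonempty (kos l X ≅ kos l X') := by
  induction l generalizing X X' with
  | nil => exact h
  | cons s l ih =>
    obtain ⟨e⟩ := h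
    obtain ⟨g, δ, hd⟩ := coneS_spec s X
    obtain ⟨g', δ', hd'⟩ := coneS_spec s X'
    exact ih ⟨Triangle.π₃.mapIso (isoTriangleOfIso₁₂ _ _ hd hd' e e (by
      change (s • 𝟙 X) ≫ e.hom = e.hom ≫ (s • 𝟙 X')
      rw [Linear.smul_comp, Category.id_comp, Linear.comp_smul, Category.comp_id]))⟩

end Generic

section Slice

variable {C : Type u} [SmallCategory C] {J : GrothendieckTopology C} (O : Sheaf J CommRingCat.{u})

theorem Q_kos {ι : Type} {F : Fam ι (ModSite.Mod O)} {s : ι → DerComp.GSec O} (h : F.Scalar s) (L : List ι) :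
    Nonempty (DerivedCategory.Q.obj (Fam.kos L F).K ≅ kos (L.map s) (DerivedCategory.Q.obj F.K)) := by
  induction L generalizing F with
  | nil => exact ⟨Iso.refl _⟩
  | cons i L ih =>
    obtain ⟨g, δ, hd⟩ := coneS_spec (s i) (DerivedCategory.Q.obj F.K)
    obtain ⟨e⟩ := ih (h.cone i)
    have hc : DerivedCategory.Q.map (F.μ i) = s i • 𝟙 _ := by
      rw [h i, Functor.map_smul, CategoryTheory.Functor.map_id]
    obtain ⟨e'⟩ := kos_congr (L.map s) ⟨Triangle.π₃.mapIso (isoTriangleOfIso₁₂ _ _
      (DerivedCategory.mappingCone_triangle_distinguished (F.μ i)) hd (Iso.refl _) (Iso.refl _) (by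
        change DerivedCategory.Q.map (F.μ i) ≫ 𝟙 _ = 𝟙 _ ≫ (s i • 𝟙 _)
        rw [Category.comp_id, Category.id_comp, hc]))⟩
    exact ⟨e ≪≫ e'⟩

/-- `O_V` with its endomorphisms by sections. -/
def famU (V : C) {r : ℕ} (a : Fin r → O.obj.obj (op V)) : Fam (Fin r) (ModSite.Mod (O.over V)) :=
  Fam.single (ModSite.unit (O.over V)) (fun i => DerComp.smulEnd (DerComp.GSec.ofSect O V (a i)) _)
    fun i j => by rw [DerComp.smulEnd_comp, DerComp.smulEnd_comp, mul_comm]

theorem scalar_famU (V : C) {r : ℕ} (a : Fin r → O.obj.obj (op V)) :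
    (famU O V a).Scalar fun i => DerComp.GSec.ofSect O V (a i) := fun i => by
  refine Eq.trans ?_ (Fam.smul_single (ModSite.unit (O.over V)) (DerComp.GSec.ofSect O V (a i)))
  exact congrArg (HomologicalComplex.single _ (ComplexShape.up ℤ) 0).map (Category.comp_id _).symm

/-- `j_! O_V` with its endomorphisms by sections. -/
def famFree (V : C) {r : ℕ} (a : Fin r → O.obj.obj (op V)) : Fam (Fin r) (ModSite.Mod O) :=
  Fam.single (ModSite.freeOn O V) (fun i => mulEnd V (a i))
    fun i j => by rw [← mulEnd_mul, ← mulEnd_mul, mul_comm]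

/-- The Koszul complex on a free module. -/
abbrev kosFree (V : C) {r : ℕ} (a : Fin r → O.obj.obj (op V)) : CochainComplex (ModSite.Mod O) ℤ :=
  (Fam.kos (List.finRange r).reverse (famFree O V a)).K

theorem orth_unit_kos_iff (V : C) {r : ℕ} (a : Fin r → O.obj.obj (op V)) (N : DerivedCategory (ModSite.Mod O)) :
    Orth (unitD O V) (kos (secList O V a) ((restrD O V).obj N)) ↔
      Orth (DerivedCategory.Q.obj (kosFree O V a)) N := by
  have hl : (secList O V a).reverse = (List.finRange r).reverse.map fun i => DerComp.GSec.ofSect O V (a i) := by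
    rw [secList, List.ofFn_eq_map, List.map_reverse]
  rw [orth_kos_iff, hl]
  obtain ⟨e₁⟩ := Q_kos (O.over V) (scalar_famU O V a) (List.finRange r).reverse
  obtain ⟨e₂⟩ := kos_congr ((List.finRange r).reverse.map fun i => DerComp.GSec.ofSect O V (a i))
    ⟨((DerivedCategory.singleFunctorIsoCompQ (ModSite.Mod (O.over V)) 0).app (ModSite.unit (O.over V))).symm⟩
  obtain ⟨e₃⟩ := Fam.map_kos (ModSite.extZero O V) (famU O V a) (List.finRange r).reverse
  let base : Fam.Iso' ((famU O V a).map (ModSite.extZero O V)) (famFree O V a) :=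
    Fam.mapSingle (ModSite.extZero O V) _ _ _ (Iso.refl _) _ _ fun i => by
      rw [Iso.refl_hom, Category.comp_id, Category.id_comp]
      exact extZero_map_smulEnd V (a i)
  obtain ⟨e₄⟩ := Fam.Iso'.kos ⟨base⟩ (List.finRange r).reverse
  let e : (extD O V).obj (kos ((List.finRange r).reverse.map fun i => DerComp.GSec.ofSect O V (a i)) (unitD O V)) ≅
      DerivedCategory.Q.obj (kosFree O V a) :=
    (extD O V).mapIso (e₁ ≪≫ e₂).symm ≪≫ (ModSite.extZero O V).mapDerivedCategoryFactors.app _ ≪≫
      DerivedCategory.Q.mapIso (e₃.trans e₄).iso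
  rw [← orth_adj_iff (extRestrAdjD O V)]
  exact ⟨fun h => h.of_iso₁ e, fun h => h.of_iso₁ e.symm⟩

end Slice

variable {C : Type u} [SmallCategory C] {J : GrothendieckTopology C} {O_C : Sheaf J CommRingCat.{u}}
  {D : Type u} [SmallCategory D] {K : GrothendieckTopology D} {O_D : Sheaf K CommRingCat.{u}}
  (f : ModSite.RMor O_C O_D)

theorem pull_kosFree (V : D) {r : ℕ} (a : Fin r → O_D.obj.obj (op V)) :
    Nonempty ((f.pull.mapHomologicalComplex (ComplexShape.up ℤ)).obj (kosFree O_D V a) ≅
      kosFree O_C (f.fn.obj V) fun i => sharpAt f V (a i)) := by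
  haveI : f.pull.Additive := f.adj.left_adjoint_additive
  obtain ⟨e₁⟩ := Fam.map_kos f.pull (famFree O_D V a) (List.finRange r).reverse
  let base : Fam.Iso' ((famFree O_D V a).map f.pull) (famFree O_C (f.fn.obj V) fun i => sharpAt f V (a i)) :=
    Fam.mapSingle f.pull _ _ _ (pullFreeIso f V) _ _ fun i => pull_map_mulEnd f V (a i)
  obtain ⟨e₂⟩ := Fam.Iso'.kos ⟨base⟩ (List.finRange r).reverse
  exact ⟨(e₁.trans e₂).iso⟩

theorem good_kosFree [HasExt.{u + 1} (ModSite.Mod O_D)] [EnoughInjectives (ModSite.Mod O_D)] (V : D) {r : ℕ}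
    (a : Fin r → O_D.obj.obj (op V)) :
    Groth.L04.LeftDerived.Good f.push ((HomotopyCategory.quotient _ _).obj (kosFree O_D V a)) := by
  unfold kosFree
  have h0 : Groth.L04.LeftDerived.Good f.push ((HomotopyCategory.quotient _ _).obj (famFree O_D V a).K) :=
    Groth.L04.LeftDerived.good_single (acyc_of_iso (FreeOn.iso O_D V).symm (ModAcyc.acyc_free O_D f _)) 0
  revert h0
  generalize famFree O_D V a = F
  generalize (List.finRange r).reverse = L
  intro h0
  induction L generalizing F with
  | nil => exact h0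
  | cons i L ih => exact ih _ (Groth.L04.LeftDerived.good_mappingCone _ h0 h0)

variable {RF : DerivedCategory (ModSite.Mod O_C) ⥤ DerivedCategory (ModSite.Mod O_D)}
  (α : f.push.mapHomotopyCategory (ComplexShape.up ℤ) ⋙ DerivedCategory.Qh ⟶ DerivedCategory.Qh ⋙ RF)
  [RF.IsRightDerivedFunctor α (HomotopyCategory.quasiIso (ModSite.Mod O_C) (ComplexShape.up ℤ))]

include α in
theorem subsingleton_good_iff [HasExt.{u + 1} (ModSite.Mod O_D)] (P : CochainComplex (ModSite.Mod O_D) ℤ)
    (hP : Groth.L04.LeftDerived.Good f.push ((HomotopyCategory.quotient _ _).obj P))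
    (Y : DerivedCategory (ModSite.Mod O_C)) :
    Subsingleton (DerivedCategory.Q.obj P ⟶ RF.obj Y) ↔
      Subsingleton (DerivedCategory.Q.obj ((f.pull.mapHomologicalComplex (ComplexShape.up ℤ)).obj P) ⟶ Y) := by
  have hC := shMod_isGrothendieckAbelian (ModSite.ringSh O_C)
  have hD := shMod_isGrothendieckAbelian (ModSite.ringSh O_D)
  have : EnoughInjectives (ModSite.Mod O_C) := IsGrothendieckAbelian.enoughInjectives.{u}
  have : EnoughInjectives (ModSite.Mod O_D) := IsGrothendieckAbelian.enoughInjectives.{u}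
  haveI : f.pull.Additive := f.adj.left_adjoint_additive
  let Ph : HomotopyCategory (ModSite.Mod O_D) (ComplexShape.up ℤ) := (HomotopyCategory.quotient _ _).obj P
  let Gh := f.pull.mapHomotopyCategory (ComplexShape.up ℤ)
  let ad := DerivedAdj.homotopyAdj f.adj
  let iD : DerivedCategory.Qh.obj Ph ≅ DerivedCategory.Q.obj P := (DerivedCategory.quotientCompQhIso _).app P
  let iC : DerivedCategory.Qh.obj (Gh.obj Ph) ≅
      DerivedCategory.Q.obj ((f.pull.mapHomologicalComplex (ComplexShape.up ℤ)).obj P) :=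
    (DerivedCategory.quotientCompQhIso _).app _
  obtain ⟨I, hI, ⟨e⟩⟩ := RDerTri.exists_rep Y
  haveI := KInjDerived.isIso_app_quotient α I
  let e1 : ((Gh.obj Ph) ⟶ (HomotopyCategory.quotient _ _).obj I) ≃
      (DerivedCategory.Q.obj ((f.pull.mapHomologicalComplex (ComplexShape.up ℤ)).obj P) ⟶ Y) :=
    (Equiv.ofBijective _ (KInjDerived.qh_bijective (Gh.obj Ph) ⟨(HomotopyCategory.quotient _ _).obj I, hI⟩)).trans
      (iC.homCongr e)
  let e2 : ((Gh.obj Ph) ⟶ (HomotopyCategory.quotient _ _).obj I) ≃ (DerivedCategory.Q.obj P ⟶ RF.obj Y) :=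
    ((ad.homEquiv _ _).trans (Equiv.ofBijective _ (Groth.L04.LeftDerived.qh_bijective f.adj
      (fun M => ModAcyc.enough O_D f M) hP I))).trans
      (iD.homCongr (asIso (α.app ((HomotopyCategory.quotient _ _).obj I)) ≪≫ RF.mapIso e))
  exact ⟨fun h => (e1.symm.trans e2).subsingleton, fun h => (e2.symm.trans e1).subsingleton⟩

include α in
/-- Direct images of killed objects are killed. -/
theorem killed_push {I : DerComp.IdealSh O_D} (hI : I.IsFiniteType) [DerComp.HasDerCompletion O_D I]
    {I' : DerComp.IdealSh O_C} (hI' : DerComp.RIsIdealExt f I I') {N : DerivedCategory (ModSite.Mod O_C)}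
    (hN : Killed I' N) : Killed I (RF.obj N) := by
  have hC := shMod_isGrothendieckAbelian (ModSite.ringSh O_C)
  have hD := shMod_isGrothendieckAbelian (ModSite.ringSh O_D)
  letI : HasExt.{u + 1} (ModSite.Mod O_D) := HasExt.standard _
  have : EnoughInjectives (ModSite.Mod O_C) := IsGrothendieckAbelian.enoughInjectives.{u}
  have : EnoughInjectives (ModSite.Mod O_D) := IsGrothendieckAbelian.enoughInjectives.{u}
  refine killed_of_orth_kos hI _ fun W r a ha => ?_
  rw [orth_unit_kos_iff, orth_iff]
  intro n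
  obtain ⟨es⟩ := RDerTri.nonempty_obj_shift α N n
  refine @Equiv.subsingleton _ _ es.symm.homToEquiv ((subsingleton_good_iff f α _ (good_kosFree f W a) _).2 ?_)
  have hz := isZero_kos_of_killed hN (f.fn.obj W) (fun i => sharpAt f W (a i)) (isGenBy_over_fn hI' W a ha)
  have h0 : Orth (unitD O_C (f.fn.obj W))
      (kos (secList O_C (f.fn.obj W) fun i => sharpAt f W (a i)) ((restrD O_C (f.fn.obj W)).obj N)) :=
    fun m => ⟨fun x y => hz.eq_of_tgt x y⟩
  have h1 := (orth_iff _ _).1 ((orth_unit_kos_iff O_C _ _ N).1 h0) n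
  obtain ⟨ep⟩ := pull_kosFree f W a
  exact @Equiv.subsingleton _ _ (DerivedCategory.Q.mapIso ep).homFromEquiv h1

end Groth.L04.DerComp
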