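import Groth.Agent.L04.DerComp.Red
import Groth.Agent.L04.DerComp.Scalars
import Mathlib.Algebra.Module.MinimalAxioms

/-!
# Modules killed by `I` are modules over `O'` when `O/I = O'/IO'`
-/

set_option autoImplicit false
set_option backward.defeqAttrib.useBackward true
set_option backward.isDefEq.respectTransparency false

universe u

open CategoryTheory CategoryTheory.Limits Opposite Groth.L15.FlatCrit Groth.L15.LocPres

noncomputable section

namespace Groth.L04.DerComp

variable {C : Type u} [SmallCategory C] {J : GrothendieckTopology C} {O O' : Sheaf J CommRingCat.{u}}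

/-- The map of rings on sections. -/
abbrev shV (φ : O ⟶ O') (U : C) : O.obj.obj (op U) →+* O'.obj.obj (op U) := (φ.hom.app (op U)).hom

theorem rr_shV (φ : O ⟶ O') {U W : C} (k : W ⟶ U) (a : O.obj.obj (op U)) :
    rr O' k (shV φ U a) = shV φ W (rr O k a) :=
  (congr($(φ.hom.naturality k.op) a)).symm

/-- The hypothesis that `O/I → O'/I'` is bijective. -/
structure SameQuot (φ : O ⟶ O') (I : DerComp.IdealSh O) (I' : DerComp.IdealSh O') : Prop where
  ext : DerComp.IsIdealExt φ I I'
  inj : ∀ (U : C) (f : O.obj.obj (op U)), shV φ U f ∈ I'.ideal U → f ∈ I.ideal U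
  surj : ∀ (U : C) (f' : O'.obj.obj (op U)), ∃ S ∈ J U, ∀ ⦃V : C⦄ (g : V ⟶ U), S g →
    ∃ a : O.obj.obj (op V), rr O' g f' - shV φ V a ∈ I'.ideal V

variable {φ : O ⟶ O'} {I : DerComp.IdealSh O} {I' : DerComp.IdealSh O'}

/-- Where `b` is congruent to an image. -/
def approxSieve (φ : O ⟶ O') (I' : DerComp.IdealSh O') {U : C} (b : O'.obj.obj (op U)) : Sieve U where
  arrows W k := ∃ a : O.obj.obj (op W), shV φ W a - rr O' k b ∈ I'.ideal W
  downward_closed {W W' k} h g := by
    obtain ⟨a, ha⟩ := h
    refine ⟨rr O g a, ?_⟩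
    have := I'.map_mem g ha
    change rr O' g (shV φ W a - rr O' k b) ∈ _ at this
    rwa [map_sub, rr_shV, rr_rr] at this

theorem SameQuot.approx_mem (hq : SameQuot φ I I') {U : C} (b : O'.obj.obj (op U)) : approxSieve φ I' b ∈ J U := by
  obtain ⟨S, hS, hd⟩ := hq.surj U b
  refine J.superset_covering (fun W k hk => ?_) hS
  obtain ⟨a, ha⟩ := hd k hk
  exact ⟨a, by simpa only [neg_sub] using (I'.ideal W).neg_mem ha⟩

variable (hq : SameQuot φ I I') (H : ModSite.Mod O)
  (hH : ∀ (U : C) (a : O.obj.obj (op U)), a ∈ I.ideal U → ∀ h : ModSite.sect H U, a • h = 0)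

include hq hH in
theorem smul_congr {U : C} {a a' : O.obj.obj (op U)} {b : O'.obj.obj (op U)}
    (ha : shV φ U a - b ∈ I'.ideal U) (ha' : shV φ U a' - b ∈ I'.ideal U) (h : ModSite.sect H U) :
    a • h = a' • h := by
  refine sub_eq_zero.1 ?_
  rw [← sub_smul]
  refine hH U _ (hq.inj U _ ?_) h
  rw [map_sub]
  simpa only [sub_sub_sub_cancel_right] using (I'.ideal U).sub_mem ha ha'

include hq hH in
theorem exists_act {U : C} (b : O'.obj.obj (op U)) (h : ModSite.sect H U) :
    ∃ y : ModSite.sect H U, ∀ (W : C) (k : W ⟶ U) (a : O.obj.obj (op W)),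
      shV φ W a - rr O' k b ∈ I'.ideal W → rs H k y = a • rs H k h := by
  let S := approxSieve φ I' b
  let x : Presieve.FamilyOfElements (H.val.presheaf ⋙ forget AddCommGrpCat.{u}) S.arrows :=
    fun W k hk => (hk.choose • rs H k h : ModSite.sect H W)
  have hx : x.SieveCompatible := fun W W' k g hk => by
    have h1 := (S.downward_closed hk g).choose_spec
    have h2 : shV φ W' (rr O g hk.choose) - rr O' (g ≫ k) b ∈ I'.ideal W' := by
      have := I'.map_mem g hk.choose_spec
      change rr O' g (shV φ W hk.choose - rr O' k b) ∈ _ at this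
      rwa [map_sub, rr_shV, rr_rr] at this
    change (S.downward_closed hk g).choose • rs H (g ≫ k) h = rs H g (hk.choose • rs H k h)
    rw [rs_smul, rs_rs]
    exact smul_congr hq H hH h1 h2 _
  have hF := (isSheaf_iff_isSheaf_of_type _ _).1
    ((Presheaf.isSheaf_iff_isSheaf_forget J _ (forget AddCommGrpCat.{u})).1 H.isSheaf) S (hq.approx_mem b)
  obtain ⟨y, hy, -⟩ := hF x ((Presieve.compatible_iff_sieveCompatible x).2 hx)
  refine ⟨y, fun W k a ha => ?_⟩
  have h1 : rs H k y = (show S k from ⟨a, ha⟩).choose • rs H k h := hy k ⟨a, ha⟩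
  rw [h1]
  exact smul_congr hq H hH (show S k from ⟨a, ha⟩).choose_spec ha _

/-- The action of `O'`. -/
def act {U : C} (b : O'.obj.obj (op U)) (h : ModSite.sect H U) : ModSite.sect H U :=
  (exists_act hq H hH b h).choose

theorem act_spec {U W : C} (b : O'.obj.obj (op U)) (h : ModSite.sect H U) (k : W ⟶ U) (a : O.obj.obj (op W))
    (ha : shV φ W a - rr O' k b ∈ I'.ideal W) : rs H k (act hq H hH b h) = a • rs H k h :=
  (exists_act hq H hH b h).choose_spec W k a ha

theorem act_ext {U : C} (b : O'.obj.obj (op U)) (h y : ModSite.sect H U)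
    (hy : ∀ ⦃W : C⦄ (k : W ⟶ U) (a : O.obj.obj (op W)), shV φ W a - rr O' k b ∈ I'.ideal W →
      rs H k y = a • rs H k h) : act hq H hH b h = y :=
  Groth.L15.ExtSupp.sect_ext H _ (hq.approx_mem b) _ _ fun W k ⟨a, ha⟩ =>
    (act_spec hq H hH b h k a ha).trans (hy k a ha).symm

theorem act_sh {U : C} (a : O.obj.obj (op U)) (h : ModSite.sect H U) : act hq H hH (shV φ U a) h = a • h :=
  act_ext hq H hH _ _ _ fun W k c hc => by
    rw [rs_smul]
    refine smul_congr hq H hH (b := rr O' k (shV φ U a)) ?_ hc _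
    rw [← rr_shV, sub_self]
    exact (I'.ideal W).zero_mem

theorem rs_act {U V : C} (g : V ⟶ U) (b : O'.obj.obj (op U)) (h : ModSite.sect H U) :
    rs H g (act hq H hH b h) = act hq H hH (rr O' g b) (rs H g h) :=
  (act_ext hq H hH _ _ _ fun W k a ha => by
    rw [rr_rr] at ha
    rw [rs_rs, rs_rs]
    exact act_spec hq H hH b h (k ≫ g) a ha).symm

/-- The `O'`-module structure on sections. -/
@[reducible]
def actModule (U : C) : Module (O'.obj.obj (op U)) (ModSite.sect H U) :=
  letI : SMul (O'.obj.obj (op U)) (ModSite.sect H U) := ⟨act hq H hH⟩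
  Module.ofMinimalAxioms (R := O'.obj.obj (op U)) (M := ModSite.sect H U)
    (fun b h h' => act_ext hq H hH _ _ _ fun W k a ha => by
      change rs H k (act hq H hH b h + act hq H hH b h') = _
      rw [map_add, map_add, act_spec hq H hH b h k a ha, act_spec hq H hH b h' k a ha, smul_add])
    (fun b b' h => Groth.L15.ExtSupp.sect_ext H _
      (J.intersection_covering (hq.approx_mem b) (hq.approx_mem b')) _ _ fun W k hk => by
        obtain ⟨⟨a, ha⟩, ⟨a', ha'⟩⟩ := hk
        change rs H k (act hq H hH (b + b') h) = rs H k (act hq H hH b h + act hq H hH b' h)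
        rw [map_add (rs H k), act_spec hq H hH b h k a ha, act_spec hq H hH b' h k a' ha', ← add_smul]
        refine act_spec hq H hH (b + b') h k (a + a') ?_
        rw [map_add, map_add, add_sub_add_comm]
        exact (I'.ideal W).add_mem ha ha')
    (fun b b' h => Groth.L15.ExtSupp.sect_ext H _
      (J.intersection_covering (hq.approx_mem b) (hq.approx_mem b')) _ _ fun W k hk => by
        obtain ⟨⟨a, ha⟩, ⟨a', ha'⟩⟩ := hk
        change rs H k (act hq H hH (b * b') h) = rs H k (act hq H hH b (act hq H hH b' h))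
        rw [act_spec hq H hH b _ k a ha, act_spec hq H hH b' h k a' ha', smul_smul]
        refine act_spec hq H hH (b * b') h k (a * a') ?_
        rw [map_mul, map_mul]
        have e : shV φ W a * shV φ W a' - rr O' k b * rr O' k b' =
            shV φ W a * (shV φ W a' - rr O' k b') + (shV φ W a - rr O' k b) * rr O' k b' := by ring
        rw [e]
        exact (I'.ideal W).add_mem ((I'.ideal W).mul_mem_left _ ha') ((I'.ideal W).mul_mem_right _ ha))
    (fun h => (congrArg (fun t => act hq H hH t h) (map_one (shV φ U)).symm).trans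
      ((act_sh hq H hH 1 h).trans (one_smul _ h)))

/-- `H` as an `O'`-module. -/
def liftMod : ModSite.Mod O' :=
  letI : ∀ X : Cᵒᵖ, Module ((ModSite.ringSh O').obj.obj X) (H.val.presheaf.obj X) := fun X => actModule hq H hH X.unop
  { val := PresheafOfModules.ofPresheaf (R := (ModSite.ringSh O').obj) H.val.presheaf
      fun X Y g r m => rs_act hq H hH g.unop r m
    isSheaf := H.isSheaf }

theorem liftMod_smul {U : C} (b : O'.obj.obj (op U)) (h : ModSite.sect H U) :
    b • (show ModSite.sect (liftMod hq H hH) U from h) = (show ModSite.sect (liftMod hq H hH) U from act hq H hH b h) :=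
  rfl

/-- The identification with the restriction. -/
def liftIso : H ≅ (ringMor φ).push.obj (liftMod hq H hH) where
  hom := ⟨PresheafOfModules.homMk (M₁ := H.val) (M₂ := ((ringMor φ).push.obj (liftMod hq H hH)).val)
    { app := fun X => AddCommGrpCat.ofHom
        (AddMonoidHom.mk' (fun h => (show ((ringMor φ).push.obj (liftMod hq H hH)).val.presheaf.obj X from h))
          fun _ _ => rfl) }
    fun X r m => (act_sh hq H hH (U := X.unop) r m).symm⟩
  inv := ⟨PresheafOfModules.homMk (M₁ := ((ringMor φ).push.obj (liftMod hq H hH)).val) (M₂ := H.val)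
    { app := fun X => AddCommGrpCat.ofHom
        (AddMonoidHom.mk' (fun h => (show H.val.presheaf.obj X from h)) fun _ _ => rfl) }
    fun X r m => act_sh hq H hH (U := X.unop) r m⟩

include hq hH in
theorem exists_liftHom {M : ModSite.Mod O'} (f : H ⟶ (ringMor φ).push.obj M) :
    ∃ g : liftMod hq H hH ⟶ M, (liftIso hq H hH).hom ≫ (ringMor φ).push.map g = f := by
  let fs : ∀ {W : C}, ModSite.sect H W →+ ModSite.sect M W := fun {W} => ap f (U := W)
  have hrs : ∀ {U W : C} (k : W ⟶ U) (h : ModSite.sect H U), rs M k (fs h) = fs (rs H k h) :=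
    fun k h => rs_ap f k h
  have hsm : ∀ {W : C} (a : O.obj.obj (op W)) (h : ModSite.sect H W), fs (a • h) = shV φ W a • fs h :=
    fun a h => ap_smul f a h
  let B : DerComp.IdealSh O' :=
    { ideal := fun U =>
        { carrier := {b | ∀ (W : C) (k : W ⟶ U) (h : ModSite.sect H W), rr O' k b • fs h = 0}
          zero_mem' := fun W k h => by rw [map_zero, zero_smul]
          add_mem' := fun hb hc W k h => by rw [map_add, add_smul, hb W k h, hc W k h, add_zero]
          smul_mem' := fun c b hb W k h => by rw [smul_eq_mul, map_mul, mul_smul, hb W k h, smul_zero] }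
      map_mem := fun {U V} g b hb W k h => by
        show rr O' k (rr O' g b) • fs h = 0
        rw [rr_rr]
        exact hb W (k ≫ g) h
      glue := fun {U b} S hS hb W k h => by
        refine Groth.L15.ExtSupp.sect_ext M _ (J.pullback_stable k hS) _ _ fun Z l hl => ?_
        have h1 := hb (l ≫ k) hl Z (𝟙 Z) (rs H l h)
        change rr O' (𝟙 Z) (rr O' (l ≫ k) b) • fs (rs H l h) = 0 at h1
        rw [rr_id, ← rr_rr O' k l, ← hrs, ← rs_smul] at h1
        exact h1.trans (map_zero (rs M l)).symm }
  have hB : I' ≤ B := hq.ext.2 B fun U g hg W k h => by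
    show rr O' k (shV φ U g) • fs h = 0
    rw [rr_shV, ← hsm]
    exact (congrArg fs (hH W _ (I.map_mem k hg) h)).trans (map_zero fs)
  have hlin : ∀ {U : C} (b : O'.obj.obj (op U)) (h : ModSite.sect H U), fs (act hq H hH b h) = b • fs h := by
    intro U b h
    refine Groth.L15.ExtSupp.sect_ext M _ (hq.approx_mem b) _ _ fun W k hk => ?_
    obtain ⟨a, ha⟩ := hk
    change rs M k (fs (act hq H hH b h)) = rs M k (b • fs h)
    rw [hrs, act_spec hq H hH b h k a ha, hsm, rs_smul, hrs, ← sub_eq_zero, ← sub_smul]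
    have h1 := hB W ha W (𝟙 W) (rs H k h)
    rwa [rr_id] at h1
  refine ⟨⟨PresheafOfModules.homMk (M₁ := (liftMod hq H hH).val) (M₂ := M.val)
    ((SheafOfModules.toSheaf (ModSite.ringSh O)).map f).hom fun X r m => hlin r m⟩, ?_⟩
  ext X h
  rfl

include hq hH in
/-- The unit is an isomorphism on modules killed by `I`. -/
theorem isIso_unit_of_killed : IsIso ((ringMor φ).adj.unit.app H) := by
  let θ := liftIso hq H hH
  let a := (ringMor φ).adj
  obtain ⟨g₀, hg₀⟩ := exists_liftHom hq H hH (a.unit.app H)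
  let h := (a.homEquiv H (liftMod hq H hH)).symm θ.hom
  have e1 : a.unit.app H ≫ (ringMor φ).push.map h = θ.hom :=
    (a.homEquiv_unit _ _ _).symm.trans (Equiv.apply_symm_apply _ _)
  have e2 : h ≫ g₀ = 𝟙 _ := by
    apply (a.homEquiv H _).injective
    rw [a.homEquiv_naturality_right, Equiv.apply_symm_apply, hg₀, a.homEquiv_id]
  refine ⟨(ringMor φ).push.map h ≫ θ.inv, (Category.assoc _ _ _).symm.trans ((congrArg (· ≫ θ.inv) e1).trans θ.hom_inv_id), ?_⟩
  calc ((ringMor φ).push.map h ≫ θ.inv) ≫ a.unit.app H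
      = ((ringMor φ).push.map h ≫ θ.inv) ≫ θ.hom ≫ (ringMor φ).push.map g₀ := by rw [hg₀]
    _ = 𝟙 _ := by
      rw [Category.assoc, Iso.inv_hom_id_assoc, ← Functor.map_comp, e2, CategoryTheory.Functor.map_id]

end Groth.L04.DerComp
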