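import Groth.Agent.L04.DerComp.LiftKilled
import Groth.Agent.L04.DerComp.KilledRHom
import Groth.Agent.L15.ExtZero.Exact

/-!
# Modules killed by powers of local generators
-/

set_option autoImplicit false
set_option backward.defeqAttrib.useBackward true
set_option backward.isDefEq.respectTransparency false

universe u

open CategoryTheory CategoryTheory.Limits Opposite Groth.L15.FlatCrit Groth.L15.LocPres

noncomputable section

namespace Groth.L04.DerComp

section Fil

variable {A : Type*} [Category A] [Abelian A] {R : Type*} [CommRing R] [Linear R A] {ι : Type*}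

/-- A class closed under extensions containing the objects killed by all `s i` contains those on
which all `s i` are nilpotent. -/
theorem of_pow_smul_eq_zero [Fintype ι] (P : A → Prop)
    (hext : ∀ S : ShortComplex A, S.ShortExact → P S.X₁ → P S.X₃ → P S.X₂) (s : ι → R)
    (hbase : ∀ M : A, (∀ i, s i • 𝟙 M = 0) → P M) (M : A) (k : ι → ℕ)
    (h : ∀ i, s i ^ k i • 𝟙 M = 0) : P M := by
  classical
  induction hn : ∑ i, k i using Nat.strong_induction_on generalizing k M with
  | _ n ih =>
    subst hn
    by_cases hk : ∀ i, k i ≤ 1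
    · refine hbase M fun i => ?_
      obtain ⟨c, hc⟩ := Nat.exists_eq_add_of_le (hk i)
      rw [← pow_one (s i), hc, pow_add, mul_comm, mul_smul, h i, smul_zero]
    push Not at hk
    obtain ⟨j, hj⟩ := hk
    let q : M ⟶ M := s j • 𝟙 M
    let S : ShortComplex A := ShortComplex.mk (kernel.ι q) (Abelian.factorThruImage q) (by
      rw [← cancel_mono (Abelian.image.ι q), Category.assoc, Abelian.image.fac, kernel.condition, zero_comp])
    have hS : S.ShortExact := by
      have e : S.Exact := by
        refine ShortComplex.exact_of_f_is_kernel _ (KernelFork.IsLimit.ofι' (kernel.ι q) _ fun {W} g hg => ?_)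
        refine ⟨kernel.lift q g ?_, kernel.lift_ι _ _ _⟩
        rw [← Abelian.image.fac q, ← Category.assoc]
        exact (congrArg (· ≫ Abelian.image.ι q) hg).trans zero_comp
      exact { exact := e }
    have hker : ∀ (c : R), c • 𝟙 M = 0 → c • 𝟙 (kernel q) = 0 := fun c hc => by
      rw [← cancel_mono (kernel.ι q), Linear.smul_comp, Category.id_comp, zero_comp, ← Category.comp_id (kernel.ι q),
        ← Linear.comp_smul, hc, comp_zero]
    refine hext S hS (ih _ ?_ (kernel q) (Function.update k j 1) (fun i => ?_) rfl)
      (ih _ ?_ (Abelian.image q) (Function.update k j (k j - 1)) (fun i => ?_) rfl)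
    · exact Finset.sum_lt_sum (fun i _ => by rcases eq_or_ne i j with rfl | hij <;> simp [*]; omega)
        ⟨j, Finset.mem_univ _, by simpa using hj⟩
    · rcases eq_or_ne i j with rfl | hij
      · rw [Function.update_self, pow_one, ← cancel_mono (kernel.ι q), Linear.smul_comp, Category.id_comp, zero_comp]
        have hc : kernel.ι q ≫ (s i • 𝟙 M) = 0 := kernel.condition q
        rwa [Linear.comp_smul, Category.comp_id] at hc
      · rw [Function.update_of_ne hij]
        exact hker _ (h i)
    · exact Finset.sum_lt_sum (fun i _ => by rcases eq_or_ne i j with rfl | hij <;> simp [*])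
        ⟨j, Finset.mem_univ _, by simp; omega⟩
    · rw [← cancel_mono (Abelian.image.ι q), ← cancel_epi (Abelian.factorThruImage q)]
      simp only [Linear.smul_comp, Linear.comp_smul, Category.id_comp, Abelian.image.fac, zero_comp, comp_zero]
      rcases eq_or_ne i j with rfl | hij
      · rw [Function.update_self, smul_smul, ← pow_succ, Nat.sub_add_cancel (by omega : 1 ≤ k i)]
        exact h i
      · rw [Function.update_of_ne hij, smul_smul, mul_comm, mul_smul, h i, smul_zero]

end Fil

variable {C : Type u} [SmallCategory C] {J : GrothendieckTopology C} {O : Sheaf J CommRingCat.{u}}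

/-- The sections killed by `I`. -/
def killedSub (I : DerComp.IdealSh O) (N : ModSite.Mod O) : PresheafOfModules.Submodule N.val where
  obj X :=
    { carrier := {x | ∀ (W : C) (k : W ⟶ X.unop) (a : O.obj.obj (op W)), a ∈ I.ideal W →
        a • rs N k (show ModSite.sect N X.unop from x) = 0}
      add_mem' := fun {x y} hx hy W k a ha => by
        change a • rs N k ((show ModSite.sect N X.unop from x) + (show ModSite.sect N X.unop from y)) = 0
        rw [map_add, smul_add, hx W k a ha, hy W k a ha, add_zero]
      zero_mem' := fun W k a ha => by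
        change a • rs N k (0 : ModSite.sect N X.unop) = 0
        rw [map_zero, smul_zero]
      smul_mem' := fun c x hx W k a ha => by
        change a • rs N k ((show O.obj.obj (op X.unop) from c) • (show ModSite.sect N X.unop from x)) = 0
        rw [rs_smul, smul_comm, hx W k a ha, smul_zero] }
  map {X Y} g x hx W k a ha := by
    change a • rs N k (rs N g.unop x) = 0
    rw [rs_rs]
    exact hx W (k ≫ g.unop) a ha

/-- A module on a slice killed by local generators gives a module killed by the ideal. -/
theorem smul_extZero_eq_zero {I : DerComp.IdealSh O} (V : C) {r : ℕ} (a : Fin r → O.obj.obj (op V))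
    (ha : (I.over V).IsGenBy fun i => DerComp.GSec.ofSect O V (a i)) (M : ModSite.Mod (O.over V))
    (hM : ∀ i, DerComp.GSec.ofSect O V (a i) • 𝟙 M = 0) :
    ∀ (U : C) (c : O.obj.obj (op U)), c ∈ I.ideal U →
      ∀ h : ModSite.sect ((ModSite.extZero O V).obj M) U, c • h = 0 := by
  let N := (ModSite.extZero O V).obj M
  let η := (ModSite.extZeroAdj O V).unit.app M
  let K := killedSub I N
  let B : DerComp.IdealSh (O.over V) :=
    { ideal := fun Y =>
        { carrier := {c | ∀ (Z : Over V) (k : Z ⟶ Y) (m : ModSite.sect M Z), rr (O.over V) k c • m = 0}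
          zero_mem' := fun Z k m => by rw [map_zero, zero_smul]
          add_mem' := fun hb hc Z k m => by rw [map_add, add_smul, hb Z k m, hc Z k m, add_zero]
          smul_mem' := fun c b hb Z k m => by rw [smul_eq_mul, map_mul, mul_smul, hb Z k m, smul_zero] }
      map_mem := fun {Y Y'} g b hb Z k m => by
        show rr (O.over V) k (rr (O.over V) g b) • m = 0
        rw [rr_rr]
        exact hb Z (k ≫ g) m
      glue := fun {Y b} S hS hb Z k m => by
        refine Groth.L15.ExtSupp.sect_ext M _ ((J.over V).pullback_stable k hS) _ _ fun T l hl => ?_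
        have h1 := hb (l ≫ k) hl T (𝟙 T) (rs M l m)
        change rr (O.over V) (𝟙 T) (rr (O.over V) (l ≫ k) b) • rs M l m = 0 at h1
        rw [rr_id, ← rr_rr (O.over V) k l, ← rs_smul] at h1
        exact h1.trans (map_zero (rs M l)).symm }
  have hB : I.over V ≤ B := ha.2 B fun i Y Z k m => by
    have h1 : (DerComp.smulEnd (DerComp.GSec.ofSect O V (a i)) M ≫ 𝟙 M) = 0 := hM i
    rw [Category.comp_id] at h1
    have h2 := congr(($h1).val.app (op Z) m)
    change rr (O.over V) k ((DerComp.GSec.ofSect O V (a i)).1 Y) • m = 0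
    rw [show rr (O.over V) k ((DerComp.GSec.ofSect O V (a i)).1 Y) = (DerComp.GSec.ofSect O V (a i)).1 Z from
      (DerComp.GSec.ofSect O V (a i)).2 k]
    exact h2
  have hunit : ∀ (Y : Over V) (m : ModSite.sect M Y),
      (show ModSite.sect N Y.left from ap η m) ∈ K.obj (op Y.left) := fun Y m W k c hc => by
    have h1 : rr (O.over V) (𝟙 (Over.mk (k ≫ Y.hom))) c • rs M (Over.homMk k : Over.mk (k ≫ Y.hom) ⟶ Y) m = 0 :=
      hB (Over.mk (k ≫ Y.hom)) hc _ (𝟙 _) _
    rw [rr_id] at h1
    have h2 := congrArg (ap η) h1
    rw [ap_smul] at h2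
    exact ((congrArg (fun t => c • t) (rs_ap η (Over.homMk k : Over.mk (k ≫ Y.hom) ⟶ Y) m)).trans h2).trans
      (map_zero _)
  let q : N ⟶ (ModSite.sheafify O).obj (Groth.L15.ExtSupp.presheafQuot K) :=
    ⟨Groth.L15.ExtSupp.presheafQuotπ K ≫
      (PresheafOfModules.sheafificationAdjunction (𝟙 (ModSite.ringSh O).obj)).unit.app
        (Groth.L15.ExtSupp.presheafQuot K)⟩
  have hq : q = 0 := by
    apply ((ModSite.extZeroAdj O V).homEquiv _ _).injective
    rw [Adjunction.homEquiv_unit, Adjunction.homEquiv_unit, Functor.map_zero, comp_zero]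
    ext Y m
    show ((PresheafOfModules.sheafificationAdjunction (𝟙 (ModSite.ringSh O).obj)).unit.app
      (Groth.L15.ExtSupp.presheafQuot K)).app (op Y.unop.left)
      ((Groth.L15.ExtSupp.presheafQuotπ K).app (op Y.unop.left) (η.val.app Y m)) = 0
    have hz : (Groth.L15.ExtSupp.presheafQuotπ K).app (op Y.unop.left) (η.val.app Y m) = 0 :=
      (Submodule.Quotient.mk_eq_zero _).2 (hunit Y.unop m)
    rw [hz]
    exact map_zero _
  intro U c hc x
  let P := (Groth.L15.ExtSupp.presheafQuot K).presheaf
  let z : ToType (P.obj (op U)) := (Submodule.Quotient.mk x : N.val.obj (op U) ⧸ K.obj (op U))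
  have hz : (CategoryTheory.toSheafify J P).app (op U) z = (CategoryTheory.toSheafify J P).app (op U) 0 := by
    rw [map_zero]
    exact congr(($hq).val.app (op U) x)
  refine Groth.L15.ExtSupp.sect_ext N _ (Presheaf.equalizerSieve_mem J (CategoryTheory.toSheafify J P) z 0 hz) _ _
    fun W g hg => ?_
  have hg' : (Submodule.Quotient.mk (rs N g x) : N.val.obj (op W) ⧸ K.obj (op W)) = 0 := by
    have h1 : P.map g.op z = P.map g.op 0 := hg
    rw [map_zero] at h1
    exact h1
  have h2 : rr O g c • rs N (𝟙 W) (rs N g x) = 0 :=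
    (Submodule.Quotient.mk_eq_zero _).1 hg' W (𝟙 W) _ (I.map_mem g hc)
  rw [rs_id, ← rs_smul] at h2
  exact h2.trans (map_zero (rs N g)).symm

variable {O' : Sheaf J CommRingCat.{u}} {φ : O ⟶ O'} {I : DerComp.IdealSh O} {I' : DerComp.IdealSh O'}

/-- The unit is an isomorphism on extensions by zero of modules killed by powers of the generators. -/
theorem isIso_unit_extZero (hq : SameQuot φ I I') [PreservesFiniteLimits (ringMor φ).pull]
    [PreservesFiniteLimits (ringMor φ).push] [PreservesFiniteColimits (ringMor φ).push]
    (V : C) {r : ℕ} (a : Fin r → O.obj.obj (op V))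
    (ha : (I.over V).IsGenBy fun i => DerComp.GSec.ofSect O V (a i)) (M : ModSite.Mod (O.over V)) (k : Fin r → ℕ)
    (hM : ∀ i, DerComp.GSec.ofSect O V (a i) ^ k i • 𝟙 M = 0) :
    IsIso ((ringMor φ).adj.unit.app ((ModSite.extZero O V).obj M)) := by
  let f := ringMor φ
  haveI : f.pull.Additive := f.adj.left_adjoint_additive
  haveI : PreservesFiniteColimits f.pull := by
    haveI := f.adj.leftAdjoint_preservesColimits
    exact PreservesColimitsOfSize.preservesFiniteColimits.{0, 0} _
  refine of_pow_smul_eq_zero (fun M => IsIso (f.adj.unit.app ((ModSite.extZero O V).obj M))) ?_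
    (fun i => DerComp.GSec.ofSect O V (a i)) ?_ M k hM
  · intro S hS h1 h3
    have hE : (S.map (ModSite.extZero O V)).ShortExact := hS.map_of_exact _
    have hE' : ((S.map (ModSite.extZero O V)).map (f.pull ⋙ f.push)).ShortExact := hE.map_of_exact _
    exact ShortComplex.isIso₂_of_shortExact_of_isIso₁₃' ((S.map (ModSite.extZero O V)).mapNatTrans f.adj.unit)
      (hE.map_of_exact (𝟭 _)) hE' h1 h3
  · intro M' hM'
    exact isIso_unit_of_killed hq _ (smul_extZero_eq_zero V a ha M' hM')

end Groth.L04.DerComp
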