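import Groth.Agent.L04.DerComp.CompleteHom
import Groth.Agent.L04.DerComp.AffineAdic
import Groth.Agent.L04.RGamma.CompleteSeparated
import Groth.Agent.L05.Krasner.Newton
import Groth.Agent.L29.BCAdj.HomFinite
import Groth.Agent.L16.CohSupport

/-!
# Derived completion on coherent objects over a proper scheme
-/

set_option autoImplicit false
set_option backward.defeqAttrib.useBackward true
set_option backward.isDefEq.respectTransparency false

universe u v w

open CategoryTheory CategoryTheory.Limits AlgebraicGeometry Opposite Groth.L10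

noncomputable section

attribute [local instance] HasDerivedCategory.standard

namespace Groth.L04.DerComp

theorem smul_derived_eq {C : Type*} [Category C] [Abelian C] [HasDerivedCategory C] {A R : Type*} [CommRing A]
    [CommRing R] [Linear A C] [Linear R C] {a : A} {r : R} (h : ∀ M : C, a • 𝟙 M = r • 𝟙 M)
    {X Y : DerivedCategory C} (x : X ⟶ Y) : a • x = r • x := by
  let K := DerivedCategory.Q.objPreimage X
  let e : DerivedCategory.Q.obj K ≅ X := DerivedCategory.Q.objObjPreimageIso X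
  have h0 : a • 𝟙 K = r • 𝟙 K := by
    ext i
    exact h (K.X i)
  have h1 : a • 𝟙 (DerivedCategory.Q.obj K) = r • 𝟙 (DerivedCategory.Q.obj K) := by
    rw [← CategoryTheory.Functor.map_id, ← Functor.map_smul, h0, Functor.map_smul]
  have h2 := congrArg (fun t => e.inv ≫ t ≫ e.hom ≫ x) h1
  simpa [Linear.smul_comp, Linear.comp_smul] using h2

theorem isLE_shift_sub {C : Type*} [Category C] [Abelian C] [HasDerivedCategory C] (F : DerivedCategory C) (a n : ℤ)
    [F.IsLE a] : (F⟦n⟧).IsLE (a - n) :=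
  DerivedCategory.TStructure.t.isLE_shift F a n (a - n) (by lia)

theorem tz_of_finite {A : Type u} [CommRing A] [IsNoetherianRing A] (I : Ideal A) [IsAdicComplete I A]
    (M : Type v) [AddCommGroup M] [Module A M] [Module.Finite A M] {a : A} (ha : a ∈ I) :
    Tz (Groth.L04.RGamma.smulEnd a M) := by
  obtain ⟨n, f, hf⟩ := Module.Finite.exists_fin' A M
  let e := f.quotKerEquivOfSurjective hf
  haveI := Groth.L05.Krasner.isAdicComplete_of_finite I ((Fin n → A) ⧸ LinearMap.ker f)
  exact (tz_iff_of_equiv e.toAddEquiv _ _ fun x => map_smul e a x).1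
    (Groth.L04.RGamma.tzMod_of_isAdicComplete (M := (Fin n → A) ⧸ LinearMap.ker f) I ha)

theorem bijective_map_of_proper {A : Type u} [CommRing A] [IsNoetherianRing A] (I : Ideal A) [IsAdicComplete I A]
    {X : Scheme.{u}} (f : X ⟶ Spec (CommRingCat.of A)) [IsProper f] (𝓙 : DerComp.IdealSh X.sheaf)
    (h1 : ∀ a : A, a ∈ I → ∀ U : X.Opens, AffineAdic.res U (Coh.toGlobal f a) ∈ 𝓙.ideal U)
    (h2 : ∀ 𝓙' : DerComp.IdealSh X.sheaf,
      (∀ a : A, a ∈ I → ∀ U : X.Opens, AffineAdic.res U (Coh.toGlobal f a) ∈ 𝓙'.ideal U) → 𝓙 ≤ 𝓙')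
    [DerComp.HasDerCompletion X.sheaf 𝓙] (F G : DerivedCategory (ModSite.Mod X.sheaf))
    (hF : DCoh.IsCohD (X := X) F) (hG : DCoh.IsCohD (X := X) G) (a₀ b₀ : ℤ) [hFa : F.IsLE a₀] [hGb : G.IsGE b₀] :
    Function.Bijective (fun ψ : F ⟶ G => (DerComp.derCompletion X.sheaf 𝓙).map ψ) := by
  letI iO : X.Over (Spec (CommRingCat.of A)) := ⟨f⟩
  haveI : IsProper (X ↘ Spec (CommRingCat.of A)) := ‹IsProper f›
  haveI : IsLocallyNoetherian X := LocallyOfFiniteType.isLocallyNoetherian f
  let σ : A →+* DerComp.GSec X.sheaf := (AffineAdic.gsecEquiv X).symm.toRingHom.comp (Coh.toGlobal f)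
  obtain ⟨r, as, has⟩ := Submodule.fg_iff_exists_fin_generating_family.1 (IsNoetherian.noetherian I)
  have hmem : ∀ i, as i ∈ I := fun i => has ▸ Submodule.subset_span ⟨i, rfl⟩
  have hgen : 𝓙.IsGenBy fun i => σ (as i) := by
    refine ⟨fun i U => h1 (as i) (hmem i) U, fun 𝓙' hc => h2 𝓙' fun a ha U => ?_⟩
    change (σ a).1 U ∈ 𝓙'.ideal U
    have ha' : a ∈ Submodule.span A (Set.range as) := has.symm ▸ ha
    induction ha' using Submodule.span_induction with
    | mem y hy => obtain ⟨i, rfl⟩ := hy; exact hc i U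
    | zero => rw [map_zero]; exact (𝓙'.ideal U).zero_mem
    | add y z _ _ hy hz => rw [map_add]; exact (𝓙'.ideal U).add_mem (hy (has ▸ ‹_›)) (hz (has ▸ ‹_›))
    | smul c y _ hy => rw [smul_eq_mul, map_mul]; exact (𝓙'.ideal U).mul_mem_left _ (hy (has ▸ ‹_›))
  refine bijective_map_of_tzHom hgen F G fun i n => ?_
  let F' : DCoh.D X := F
  let G' : DCoh.D X := G
  have hFn : DCoh.IsCohD (F'⟦n⟧) := fun j =>
    Groth.L16.CohSupport.isCoh_of_iso (hShiftIso (A := X.Modules) F' n j (n + j) rfl).symm (hF (n + j))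
  haveI : DerivedCategory.IsLE (F'⟦n⟧) (a₀ - n) := @isLE_shift_sub X.Modules _ _ _ F' a₀ n hFa
  haveI : Module.Finite A (F'⟦n⟧ ⟶ G') :=
    Groth.L29.BCAdj.finite_hom_proper hFn (a₀ - n) hG b₀ hGb
  have ht := tz_of_finite I (F'⟦n⟧ ⟶ G') (hmem i)
  refine (tz_iff_of_equiv (AddEquiv.refl _) (Groth.L04.RGamma.smulEnd (as i) (F'⟦n⟧ ⟶ G')) _ fun x => ?_).1 ht
  letI : Linear (DerComp.GSec X.sheaf) X.Modules := DerComp.linearGSec
  exact smul_derived_eq (C := X.Modules) (r := σ (as i)) (fun M => by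
    rw [KLin.smul_id]
    exact (Category.comp_id _).symm) x

end Groth.L04.DerComp
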