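import Groth.Agent.L04.DerComp.CandIdeal
import Groth.Agent.L04.DerComp.AwayTensor
import Groth.Agent.L04.DerComp.SiteLTensor

/-!
# `RHom(P, L)` is derived complete for derived complete `L`
-/

set_option autoImplicit false
set_option backward.defeqAttrib.useBackward true
set_option backward.isDefEq.respectTransparency false

universe u

open CategoryTheory CategoryTheory.Limits Opposite

attribute [local instance] HasDerivedCategory.standard

noncomputable section

namespace Groth.L04.DerComp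

variable {C : Type u} [SmallCategory C] {J : GrothendieckTopology C} {O : Sheaf J CommRingCat.{u}}

/-- If `K` is complete for all restrictions of `f`, then on the slice `1 - f · shift` is invertible on `∏ K|_U`. -/
theorem isIso_psi (K : DerivedCategory (ModSite.Mod O)) {U : C} {f : O.obj.obj (op U)}
    (h : ∀ ⦃V : C⦄ (g : V ⟶ U), TzAt K V ((O.obj.map g.op).hom f))
    [HasProductsOfShape ℕ (DerivedCategory (ModSite.Mod (O.over U)))] :
    let T := (ModSite.restr O U).mapDerivedCategory.obj K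
    IsIso (Pi.lift fun i => Pi.π (fun _ : ℕ => T) i -
      Pi.π (fun _ : ℕ => T) (i + 1) ≫ (DerComp.GSec.ofSect O U f • 𝟙 T) :
        (∏ᶜ fun _ : ℕ => T) ⟶ ∏ᶜ fun _ : ℕ => T) := by
  have hU := Groth.L10.shMod_isGrothendieckAbelian (ModSite.ringSh (O.over U))
  have hO := Groth.L10.shMod_isGrothendieckAbelian (ModSite.ringSh O)
  haveI : EnoughInjectives (ModSite.Mod (O.over U)) := IsGrothendieckAbelian.enoughInjectives.{u}
  let RD := (ModSite.restr O U).mapDerivedCategory
  let LD := (ModSite.extZero O U).mapDerivedCategory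
  haveI : RD.IsRightDerivedFunctor (ModSite.restr O U).mapDerivedCategoryFactorsh.inv
      (HomotopyCategory.quasiIso (ModSite.Mod O) (ComplexShape.up ℤ)) :=
    Functor.isRightDerivedFunctor_of_inverts _ _ _
  let ad : LD ⊣ RD := Groth.L10.DerivedAdj.derived (ModSite.extZeroAdj O U) RD
    (ModSite.restr O U).mapDerivedCategoryFactorsh.inv
  intro T
  let s := DerComp.GSec.ofSect O U f
  let t : T ⟶ T := s • 𝟙 T
  have ht : ∀ (W : Over U) (n : ℤ) (a : (SiteCmp.inD (O.over U) (ModSite.freeOn (O.over U) W))⟦n⟧ ⟶ T),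
      ((DerivedCategory.singleFunctor (ModSite.Mod (O.over U)) 0).map
        (DerComp.smulEnd s (ModSite.freeOn (O.over U) W)))⟦n⟧' ≫ a = a ≫ t := fun W n a => by
    have h1 : DerComp.smulEnd s (ModSite.freeOn (O.over U) W) = s • 𝟙 (ModSite.freeOn (O.over U) W) :=
      (Category.comp_id _).symm
    rw [h1, Functor.map_smul, Functor.map_smul, CategoryTheory.Functor.map_id, CategoryTheory.Functor.map_id,
      Linear.smul_comp, Linear.comp_smul, Category.comp_id]
    congr 1
    exact Category.id_comp a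
  have key : ∀ (W : Over U) (n : ℤ),
      Tz (preEnd (freeMul W.left ((O.obj.map W.hom.op).hom f) n) K) ↔
      Tz (preEnd (((DerivedCategory.singleFunctor (ModSite.Mod (O.over U)) 0).map
        (DerComp.smulEnd s (ModSite.freeOn (O.over U) W)))⟦n⟧') T) := fun W n => by
    refine Iff.trans ?_ (tz_iff_of_equiv (ad.homAddEquiv _ K) (preEnd (LD.map _) K) _ fun a =>
      ad.homEquiv_naturality_left _ a)
    let i₀ : ((DerivedCategory.singleFunctor (ModSite.Mod (O.over U)) 0) ⋙
        CategoryTheory.shiftFunctor _ n ⋙ LD).obj (ModSite.freeOn (O.over U) W) ≅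
      ((ModSite.extZero O U) ⋙ DerivedCategory.singleFunctor (ModSite.Mod O) 0 ⋙
        CategoryTheory.shiftFunctor _ n).obj (ModSite.freeOn (O.over U) W) :=
      (LD.commShiftIso n).app _ ≪≫ (CategoryTheory.shiftFunctor _ n).mapIso
        (((ModSite.extZero O U).mapDerivedCategorySingleFunctor 0).app _)
    refine (tz_preEnd_iff_of_iso (i₀ ≪≫ (CategoryTheory.shiftFunctor _ n).mapIso
      ((DerivedCategory.singleFunctor (ModSite.Mod O) 0).mapIso (extZeroFreeIso O U W))) _ _ ?_ K).symm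
    have n1 := (LD.commShiftIso n).hom.naturality
      ((DerivedCategory.singleFunctor (ModSite.Mod (O.over U)) 0).map (DerComp.smulEnd s (ModSite.freeOn (O.over U) W)))
    have n2 := ((ModSite.extZero O U).mapDerivedCategorySingleFunctor 0).hom.naturality
      (DerComp.smulEnd s (ModSite.freeOn (O.over U) W))
    simp only [i₀, Iso.trans_hom, Iso.app_hom, Functor.mapIso_hom, Category.assoc]
    rw [reassoc_of% n1]
    simp only [freeMul, Functor.comp_map, ← Functor.map_comp, Category.assoc]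
    congr 2
    rw [reassoc_of% n2]
    simp only [Functor.comp_map, ← Functor.map_comp]
    congr 2
    exact extZero_map_smulEnd_free O U f W
  let ψ : (∏ᶜ fun _ : ℕ => T) ⟶ ∏ᶜ fun _ : ℕ => T :=
    Pi.lift fun i => Pi.π (fun _ : ℕ => T) i - Pi.π (fun _ : ℕ => T) (i + 1) ≫ t
  refine isIso_of_separating _ (isSeparating_sieve O U ⊤ (J.top_mem U)) ψ fun W n => ?_
  let e : ((SiteCmp.inD (O.over U) (ModSite.freeOn (O.over U) W.1))⟦n⟧ ⟶ ∏ᶜ fun _ : ℕ => T) ≃
      (ℕ → ((SiteCmp.inD (O.over U) (ModSite.freeOn (O.over U) W.1))⟦n⟧ ⟶ T)) :=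
    { toFun := fun g i => g ≫ Pi.π _ i
      invFun := fun x => Pi.lift x
      left_inv := fun g => by refine Pi.hom_ext _ _ fun i => ?_; simp
      right_inv := fun x => by funext i; simp }
  have hk : theta (preEnd (((DerivedCategory.singleFunctor (ModSite.Mod (O.over U)) 0).map
      (DerComp.smulEnd s (ModSite.freeOn (O.over U) W.1)))⟦n⟧') T) ∘ e = e ∘ (fun g => g ≫ ψ) := by
    funext g i
    change g ≫ Pi.π _ i - _ ≫ (g ≫ Pi.π _ (i + 1)) = (g ≫ ψ) ≫ Pi.π _ i
    rw [ht]
    simp [ψ]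
  have h' := (key W.1 n).1 (h W.1.hom n)
  exact (Function.Bijective.of_comp_iff' e.bijective _).1 (hk ▸ h'.comp e.bijective)

/-- Objects on which `s` is invertible have no maps to objects with invertible `1 - s · shift`. -/
theorem subsingleton_hom_of_isIso {T' : Type*} [Category T'] [Preadditive T'] {R : Type*} [Ring R] [Linear R T']
    (s : R) (T Y : T') [HasProduct fun _ : ℕ => T] [IsIso (s • 𝟙 Y)]
    (hψ : IsIso (Pi.lift fun i => Pi.π (fun _ : ℕ => T) i - Pi.π (fun _ : ℕ => T) (i + 1) ≫ (s • 𝟙 T) :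
      (∏ᶜ fun _ : ℕ => T) ⟶ ∏ᶜ fun _ : ℕ => T)) :
    Subsingleton (Y ⟶ T) := by
  refine subsingleton_of_forall_eq 0 fun a => ?_
  let σ := inv (s • 𝟙 Y)
  let c : ℕ → (Y ⟶ T) := fun n => n.rec a (fun _ b => σ ≫ b)
  have hc : ∀ i, c (i + 1) ≫ (s • 𝟙 T) = c i := fun i => by
    have h2 : (s • 𝟙 Y) ≫ c (i + 1) = c i := by
      show (s • 𝟙 Y) ≫ inv (s • 𝟙 Y) ≫ c i = c i
      rw [IsIso.hom_inv_id_assoc]
    rw [Linear.comp_smul, Category.comp_id, ← h2, Linear.smul_comp, Category.id_comp]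
  have h0 : Pi.lift c = 0 := by
    rw [← cancel_mono (Pi.lift fun i => Pi.π (fun _ : ℕ => T) i - Pi.π (fun _ : ℕ => T) (i + 1) ≫ (s • 𝟙 T)), zero_comp]
    refine Pi.hom_ext _ _ fun i => ?_
    simp only [Category.assoc, Pi.lift_π, Preadditive.comp_sub, Pi.lift_π_assoc, zero_comp]
    rw [hc, sub_self]
  calc a = Pi.lift c ≫ Pi.π _ 0 := (Pi.lift_π c 0).symm
    _ = 0 := by rw [h0, zero_comp]

/-- Multiplication by `s` is invertible on `O_s`. -/
instance isIso_smulEnd_Os (s : DerComp.GSec O) : IsIso (DerComp.smulEnd s (Groth.L04.AwayTensor.Os s)) := by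
  let a := DerComp.awayMap s (ModSite.unit O)
  let i₁ := fun n => Sigma.ι (fun _ : ℕ => ModSite.unit O) n ≫ cokernel.π a
  have hrel : ∀ n, DerComp.smulEnd s (ModSite.unit O) ≫ i₁ (n + 1) = i₁ n := fun n => by
    have h := Sigma.ι (fun _ : ℕ => ModSite.unit O) n ≫= cokernel.condition a
    simp only [a, DerComp.awayMap, Sigma.ι_desc_assoc, Preadditive.sub_comp, Category.assoc, comp_zero, sub_eq_zero] at h
    exact h.symm
  let b : Groth.L04.AwayTensor.Os s ⟶ Groth.L04.AwayTensor.Os s :=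
    cokernel.desc a (Sigma.desc fun n => i₁ (n + 1)) (Sigma.hom_ext _ _ fun n => by
      simp only [a, DerComp.awayMap, Sigma.ι_desc_assoc, Preadditive.sub_comp, Category.assoc, Sigma.ι_desc, comp_zero]
      rw [hrel (n + 1), sub_self])
  have hb : DerComp.smulEnd s _ ≫ b = 𝟙 _ := by
    rw [← cancel_epi (cokernel.π a)]
    refine Sigma.hom_ext _ _ fun n => ?_
    rw [← Category.assoc (cokernel.π a), ← DerComp.smulEnd_comm, Category.assoc, cokernel.π_desc, ← Category.assoc,
      ← DerComp.smulEnd_comm, Category.assoc, Sigma.ι_desc, hrel, Category.comp_id]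
  exact ⟨b, hb, (DerComp.smulEnd_comm s b).symm.trans hb⟩

/-- `RHom(P, L)` is derived complete. -/
theorem isDerComp_RHom (I : DerComp.IdealSh O) (P : CochainComplex (ModSite.Mod O) ℤ) [ModSite.HasLTensorCx P]
    [DerComp.HasRHom P] (L : DerivedCategory (ModSite.Mod O)) (hL : DerComp.IsDerComp O I L) :
    DerComp.IsDerComp O I ((DerComp.RHom P).obj L) := by
  intro V g hg n
  have hU := Groth.L10.shMod_isGrothendieckAbelian (ModSite.ringSh (O.over V))
  have hO := Groth.L10.shMod_isGrothendieckAbelian (ModSite.ringSh O)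
  haveI : HasProductsOfShape ℕ (ModSite.Mod (O.over V)) := hasLimitsOfShape_of_equivalence
    (Discrete.equivalence (Equiv.ulift.{u} : ULift.{u} ℕ ≃ ℕ))
  haveI : HasProductsOfShape ℕ (DerivedCategory (ModSite.Mod (O.over V))) := Groth.L10.DerivedProd.hasProductsOfShape
  let s := DerComp.GSec.ofSect O V g
  let Og := Groth.L04.AwayTensor.Os s
  let X := (ModSite.extZero O V).obj Og
  let S := (HomologicalComplex.single (ModSite.Mod O) (ComplexShape.up ℤ) 0).obj X
  have hS : ModSite.IsKFlat S := Groth.L15.KFlatSite.single₀ X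
    (Groth.L15.ModTensor.isFlat_extZero O V Og (Groth.L04.AwayTensor.isFlat_Os s))
  let T := (ModSite.restr O V).mapDerivedCategory
  let LD := (ModSite.extZero O V).mapDerivedCategory
  haveI : T.IsRightDerivedFunctor (ModSite.restr O V).mapDerivedCategoryFactorsh.inv
      (HomotopyCategory.quasiIso (ModSite.Mod O) (ComplexShape.up ℤ)) :=
    Functor.isRightDerivedFunctor_of_inverts _ _ _
  let ad : LD ⊣ T := Groth.L10.DerivedAdj.derived (ModSite.extZeroAdj O V) T
    (ModSite.restr O V).mapDerivedCategoryFactorsh.inv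
  -- shifts
  have hLn : DerComp.IsDerComp O I (L⟦n⟧) := fun W f hf m =>
    @Equiv.subsingleton _ _ ((shiftFunctorAdd' (DerivedCategory (ModSite.Mod O)) n m (n + m) rfl).app L).symm.homToEquiv
      (hL W f hf (n + m))
  -- the tensor product lives on the slice
  let G := Groth.L15.ModTensor.tR Og
  haveI : PreservesFiniteLimits G := (Groth.L04.AwayTensor.isFlat_Os s).1
  let M := (G.mapHomologicalComplex (ComplexShape.up ℤ)).obj (((ModSite.restr O V).mapHomologicalComplex _).obj P)
  let η : ModSite.restr O V ⋙ G ⋙ ModSite.extZero O V ≅ Groth.L15.ModTensor.tL X :=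
    Functor.isoWhiskerLeft _ (Functor.isoWhiskerRight (Groth.L15.ModTensor.braidIso Og).symm _) ≪≫
      Groth.L15.ModTensor.projTL O V Og
  haveI : Groth.L15.ModTensor.tR Og |>.Additive := inferInstance
  let e₁ : LD.obj (DerivedCategory.Q.obj M) ≅ DerivedCategory.Q.obj (((ModSite.tensorCx O).obj S).obj P) :=
    (ModSite.extZero O V).mapDerivedCategoryFactors.app M ≪≫
      DerivedCategory.Q.mapIso ((NatIso.mapHomologicalComplex η (ComplexShape.up ℤ)).app P ≪≫
        Groth.L00.SingleTotal.iso (ModSite.tensorBi O) X P)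
  haveI : IsIso (s • 𝟙 M) := by
    haveI : ∀ i, IsIso ((s • 𝟙 M : M ⟶ M).f i) := fun i => by
      let Y := ((ModSite.restr O V).obj (P.X i))
      change IsIso (DerComp.smulEnd s (Groth.L15.ModTensor.ten Y Og) ≫ 𝟙 _)
      rw [Category.comp_id, ← Groth.L04.AwayTensor.tL_map_smulEnd]
      infer_instance
    exact HomologicalComplex.Hom.isIso_of_components _
  haveI : IsIso (s • 𝟙 (DerivedCategory.Q.obj M)) := by
    rw [← CategoryTheory.Functor.map_id, ← Functor.map_smul]
    infer_instance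
  haveI := subsingleton_hom_of_isIso s (T.obj (L⟦n⟧)) (DerivedCategory.Q.obj M)
    (isIso_psi (L⟦n⟧) (fun W k => (isDerComp_iff I _).1 hLn W _ (I.map_mem k hg)))
  haveI : Subsingleton (DerivedCategory.Q.obj (((ModSite.tensorCx O).obj S).obj P) ⟶ L⟦n⟧) :=
    @Equiv.subsingleton _ _ ((e₁.symm.homFromEquiv).trans (ad.homEquiv _ _)) inferInstance
  let sh := (shiftEquiv (DerivedCategory (ModSite.Mod O)) n).symm.toAdjunction
  haveI : Subsingleton ((DerivedCategory.Q.obj (((ModSite.tensorCx O).obj S).obj P))⟦-n⟧ ⟶ L) :=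
    @Equiv.subsingleton _ _ (sh.homEquiv _ _)
      (inferInstanceAs (Subsingleton (DerivedCategory.Q.obj (((ModSite.tensorCx O).obj S).obj P) ⟶ L⟦n⟧)))
  let τ : DerivedCategory.Q.obj (((ModSite.tensorCx O).obj (S⟦-n⟧)).obj P) ≅
      (DerivedCategory.Q.obj (((ModSite.tensorCx O).obj S).obj P))⟦-n⟧ :=
    DerivedCategory.Q.mapIso (CochainComplex.mapBifunctorShift₁Iso S P (ModSite.tensorBi O) (-n)) ≪≫
      (DerivedCategory.Q.commShiftIso (-n)).app _
  haveI : Subsingleton ((ModSite.LTensorCx P).obj (DerivedCategory.Q.obj (S⟦-n⟧)) ⟶ L) :=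
    @Equiv.subsingleton _ _
      ((Groth.L04.SiteLTensor.objIso P _ (Groth.L15.KFlatSite.shift S (-n) hS) ≪≫ τ).homFromEquiv) inferInstance
  haveI : Subsingleton (DerivedCategory.Q.obj (S⟦-n⟧) ⟶ (DerComp.RHom P).obj L) :=
    @Equiv.subsingleton _ _ ((DerComp.RHomAdj P).homEquiv _ _).symm inferInstance
  let ι : (SiteCmp.inD O X)⟦-n⟧ ≅ DerivedCategory.Q.obj (S⟦-n⟧) :=
    (shiftFunctor _ (-n)).mapIso ((DerivedCategory.singleFunctorIsoCompQ (ModSite.Mod O) 0).app X) ≪≫
      ((DerivedCategory.Q.commShiftIso (-n)).app S).symm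
  haveI : Subsingleton ((SiteCmp.inD O X)⟦-n⟧ ⟶ (DerComp.RHom P).obj L) :=
    @Equiv.subsingleton _ _ ι.homFromEquiv inferInstance
  exact @Equiv.subsingleton _ _ (sh.homEquiv _ _).symm
    (inferInstanceAs (Subsingleton ((SiteCmp.inD O X)⟦-n⟧ ⟶ (DerComp.RHom P).obj L)))

end Groth.L04.DerComp
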