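import Groth.Agent.L15.FPFree.Basic
import Groth.Agent.L04.DerComp.FreeModel
import Groth.Prelude.Def_DerComp
import Mathlib.RingTheory.Ideal.Operations
import Mathlib.Algebra.Module.Torsion.Basic

/-!
# Endomorphisms locally reducing to scalars in an ideal

`Red I e x` says that locally some product of `e - aᵢ`, with `aᵢ` in the sheaf of ideals, kills `x`.
-/

set_option autoImplicit false
set_option backward.defeqAttrib.useBackward true
set_option backward.isDefEq.respectTransparency false

universe u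

open CategoryTheory CategoryTheory.Limits Opposite Groth.L15.FlatCrit Groth.L15.LocPres

noncomputable section

namespace Groth.L04.DerComp

variable {C : Type u} [SmallCategory C] {J : GrothendieckTopology C} {O : Sheaf J CommRingCat.{u}}

theorem ap_smul {M N : ModSite.Mod O} (φ : M ⟶ N) {V : C} (a : O.obj.obj (op V)) (x : ModSite.sect M V) :
    ap φ (a • x) = a • ap φ x :=
  (φ.val.app (op V)).hom.map_smul a x

theorem rs_id (M : ModSite.Mod O) {V : C} (x : ModSite.sect M V) : rs M (𝟙 V) x = x := by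
  rw [rs, op_id, CategoryTheory.Functor.map_id]
  rfl

theorem rr_id {V : C} (a : O.obj.obj (op V)) : rr O (𝟙 V) a = a := by
  rw [rr, op_id, CategoryTheory.Functor.map_id]
  rfl

section Op

variable {M : ModSite.Mod O} (e : M ⟶ M)

/-- `x ↦ (e - a₁)⋯(e - aₘ) x`. -/
def opL {V : C} : List (O.obj.obj (op V)) → ModSite.sect M V →+ ModSite.sect M V
  | [] => AddMonoidHom.id _
  | a :: L => AddMonoidHom.mk' (fun x => opL L (ap e x - a • x))
      (fun x y => by rw [map_add, smul_add, add_sub_add_comm, map_add])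

theorem opL_nil {V : C} (x : ModSite.sect M V) : opL e ([] : List (O.obj.obj (op V))) x = x := rfl

theorem opL_cons {V : C} (a : O.obj.obj (op V)) (L : List (O.obj.obj (op V))) (x : ModSite.sect M V) :
    opL e (a :: L) x = opL e L (ap e x - a • x) := rfl

theorem opL_append {V : C} (L L' : List (O.obj.obj (op V))) (x : ModSite.sect M V) :
    opL e (L ++ L') x = opL e L' (opL e L x) := by
  induction L generalizing x with
  | nil => rfl
  | cons a L ih => exact ih _

theorem opL_smul {V : C} (L : List (O.obj.obj (op V))) (c : O.obj.obj (op V)) (x : ModSite.sect M V) :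
    opL e L (c • x) = c • opL e L x := by
  induction L generalizing x with
  | nil => rfl
  | cons a L ih => rw [opL_cons, opL_cons, ← ih, ap_smul, smul_comm a c x, smul_sub]

theorem ap_opL {V : C} (L : List (O.obj.obj (op V))) (x : ModSite.sect M V) :
    ap e (opL e L x) = opL e L (ap e x) := by
  induction L generalizing x with
  | nil => rfl
  | cons a L ih => rw [opL_cons, opL_cons, ih, map_sub, ap_smul]

theorem opL_comm {V : C} (L L' : List (O.obj.obj (op V))) (x : ModSite.sect M V) :
    opL e L (opL e L' x) = opL e L' (opL e L x) := by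
  induction L' generalizing x with
  | nil => rfl
  | cons a L' ih => rw [opL_cons, opL_cons, ih, ap_opL, map_sub, opL_smul]

theorem rs_opL {V W : C} (g : W ⟶ V) (L : List (O.obj.obj (op V))) (x : ModSite.sect M V) :
    rs M g (opL e L x) = opL e (L.map (rr O g)) (rs M g x) := by
  induction L generalizing x with
  | nil => rfl
  | cons a L ih => rw [opL_cons, List.map_cons, opL_cons, ih, map_sub, rs_smul, rs_ap]

theorem ap_opL_map {N : ModSite.Mod O} (e' : N ⟶ N) (φ : M ⟶ N) (h : e ≫ φ = φ ≫ e') {V : C}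
    (L : List (O.obj.obj (op V))) (x : ModSite.sect M V) : ap φ (opL e L x) = opL e' L (ap φ x) := by
  induction L generalizing x with
  | nil => rfl
  | cons a L ih =>
    rw [opL_cons, opL_cons, ih, map_sub, ap_smul, ← ap_comp, ← ap_comp, h]

end Op

section Red

variable (I : DerComp.IdealSh O) {M : ModSite.Mod O} (e : M ⟶ M)

/-- Where `x` is killed by a product of `e - aᵢ`. -/
def redSieve {V : C} (x : ModSite.sect M V) : Sieve V where
  arrows W g := ∃ L : List (O.obj.obj (op W)), (∀ a ∈ L, a ∈ I.ideal W) ∧ opL e L (rs M g x) = 0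
  downward_closed {W W' g} h k := by
    obtain ⟨L, hL, h0⟩ := h
    refine ⟨L.map (rr O k), fun a ha => ?_, ?_⟩
    · obtain ⟨b, hb, rfl⟩ := List.mem_map.1 ha
      exact I.map_mem k (hL b hb)
    · rw [← rs_rs M g k, ← rs_opL, h0, map_zero]

/-- Locally some product of `e - aᵢ` kills `x`. -/
def Red {V : C} (x : ModSite.sect M V) : Prop := redSieve I e x ∈ J V

theorem redSieve_rs {V W : C} (g : W ⟶ V) (x : ModSite.sect M V) :
    redSieve I e (rs M g x) = (redSieve I e x).pullback g := by
  ext W' k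
  change (∃ L, _ ∧ opL e L (rs M k (rs M g x)) = 0) ↔ (∃ L, _ ∧ opL e L (rs M (k ≫ g) x) = 0)
  rw [rs_rs]

variable {I e}

theorem Red.rs {V W : C} (g : W ⟶ V) {x : ModSite.sect M V} (h : Red I e x) :
    Red I e (Groth.L15.FlatCrit.rs M g x) := by
  rw [Red, redSieve_rs]
  exact J.pullback_stable g h

theorem Red.of_cover {V : C} {x : ModSite.sect M V} (S : Sieve V) (hS : S ∈ J V)
    (h : ∀ ⦃W : C⦄ (g : W ⟶ V), S g → Red I e (Groth.L15.FlatCrit.rs M g x)) : Red I e x :=
  J.transitive hS _ fun W g hg => by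
    rw [← redSieve_rs]
    exact h g hg

theorem Red.of_opL {V : C} {x : ModSite.sect M V} (L : List (O.obj.obj (op V))) (hL : ∀ a ∈ L, a ∈ I.ideal V)
    (h : opL e L x = 0) : Red I e x := by
  refine J.superset_covering (fun W g _ => ?_) (J.top_mem V)
  refine ⟨L.map (rr O g), fun a ha => ?_, by rw [← rs_opL, h, map_zero]⟩
  obtain ⟨b, hb, rfl⟩ := List.mem_map.1 ha
  exact I.map_mem g (hL b hb)

theorem Red.add {V : C} {x y : ModSite.sect M V} (hx : Red I e x) (hy : Red I e y) : Red I e (x + y) := by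
  refine J.superset_covering ?_ (J.intersection_covering hx hy)
  rintro W g ⟨⟨L, hL, h1⟩, ⟨L', hL', h2⟩⟩
  refine ⟨L ++ L', fun a ha => (List.mem_append.1 ha).elim (hL a) (hL' a), ?_⟩
  rw [map_add, map_add, opL_append, opL_append, h1, map_zero, zero_add, opL_comm, h2, map_zero]

theorem Red.smul {V : C} (c : O.obj.obj (op V)) {x : ModSite.sect M V} (hx : Red I e x) : Red I e (c • x) := by
  refine J.superset_covering ?_ hx
  rintro W g ⟨L, hL, h⟩
  exact ⟨L, hL, by rw [rs_smul, opL_smul, h, smul_zero]⟩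

theorem Red.zero (V : C) : Red I e (0 : ModSite.sect M V) := Red.of_opL [] (by simp) rfl

variable (I e)

/-- All sections reduce. -/
def RedAll : Prop := ∀ (V : C) (x : ModSite.sect M V), Red I e x

/-- The reducing sections, as a presheaf of submodules. -/
def redSub : PresheafOfModules.Submodule M.val where
  obj X :=
    { carrier := {x | Red I e (V := X.unop) x}
      add_mem' := fun ha hb => ha.add hb
      zero_mem' := Red.zero X.unop
      smul_mem' := fun c x hx => hx.smul c }
  map {X Y} f x hx := hx.rs f.unop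

variable {I e}

/-- Being reducing is checked on generators. -/
theorem redAll_of_gen {ι : Type*} (U : ι → C) (γ : ∀ i, ModSite.freeOn O (U i) ⟶ M)
    (hγ : ∀ (Q : ModSite.Mod O) (q : M ⟶ Q), (∀ i, γ i ≫ q = 0) → q = 0)
    (h : ∀ i, Red I e (secM O (U i) M (γ i))) : RedAll I e := by
  let N := redSub I e
  let q : M ⟶ (ModSite.sheafify O).obj (Groth.L15.ExtSupp.presheafQuot N) :=
    ⟨Groth.L15.ExtSupp.presheafQuotπ N ≫
      (PresheafOfModules.sheafificationAdjunction (𝟙 (ModSite.ringSh O).obj)).unit.app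
        (Groth.L15.ExtSupp.presheafQuot N)⟩
  have hq : q = 0 := hγ _ q fun i => by
    apply (secM O (U i) _).injective
    have h0 : secM O (U i) _ (0 : ModSite.freeOn O (U i) ⟶
        (ModSite.sheafify O).obj (Groth.L15.ExtSupp.presheafQuot N)) = 0 := by
      rw [← Category.id_comp (0 : ModSite.freeOn O (U i) ⟶ _), secM_comp]
      rfl
    rw [h0, secM_comp]
    have hz : (Groth.L15.ExtSupp.presheafQuotπ N).app (op (U i)) (secM O (U i) M (γ i)) = 0 :=
      (Submodule.Quotient.mk_eq_zero _).2 (h i)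
    show ((PresheafOfModules.sheafificationAdjunction (𝟙 (ModSite.ringSh O).obj)).unit.app
      (Groth.L15.ExtSupp.presheafQuot N)).app (op (U i))
      ((Groth.L15.ExtSupp.presheafQuotπ N).app (op (U i)) (secM O (U i) M (γ i))) = 0
    rw [hz]
    exact map_zero _
  intro V x
  let P := (Groth.L15.ExtSupp.presheafQuot N).presheaf
  let z : ToType (P.obj (op V)) := (Submodule.Quotient.mk x : M.val.obj (op V) ⧸ N.obj (op V))
  have hz : (CategoryTheory.toSheafify J P).app (op V) z = (CategoryTheory.toSheafify J P).app (op V) 0 := by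
    rw [map_zero]
    exact congr(($hq).val.app (op V) x)
  refine Red.of_cover _ (Presheaf.equalizerSieve_mem J (CategoryTheory.toSheafify J P) z 0 hz) fun W g hg => ?_
  have hg' : (Submodule.Quotient.mk (rs M g x) : M.val.obj (op W) ⧸ N.obj (op W)) = 0 := by
    have h1 : P.map g.op z = P.map g.op 0 := hg
    rw [map_zero] at h1
    exact h1
  exact (Submodule.Quotient.mk_eq_zero _).1 hg'

theorem redAll_of_epi {N : ModSite.Mod O} {e' : N ⟶ N} (φ : M ⟶ N) [Epi φ] (hc : e ≫ φ = φ ≫ e')
    (h : RedAll I e) : RedAll I e' := fun V x => by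
  obtain ⟨S, hS, hd⟩ := Groth.L15.FPFree.exists_local_lift φ x
  refine Red.of_cover S hS fun W g hg => ?_
  obtain ⟨y, hy⟩ := hd g hg
  rw [← hy]
  refine J.superset_covering ?_ (h W y)
  rintro W' k ⟨L, hL, hk⟩
  exact ⟨L, hL, by rw [rs_ap, ← ap_opL_map e e' φ hc, hk, map_zero]⟩

theorem redAll_iso {N : ModSite.Mod O} {e' : N ⟶ N} (φ : M ≅ N) (hc : e ≫ φ.hom = φ.hom ≫ e')
    (h : RedAll I e) : RedAll I e' :=
  redAll_of_epi φ.hom hc h

theorem redAll_of_isZero (hM : IsZero M) : RedAll I e := fun V x => by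
  have : x = 0 := by
    have h1 : (id x : ModSite.sect M V) = ap (𝟙 M) x := rfl
    rw [hM.eq_of_src (𝟙 M) 0] at h1
    exact h1
  rw [this]
  exact Red.zero V

/-- Reducing endomorphisms are closed under extensions. -/
theorem redAll_of_exact (S : ShortComplex (ModSite.Mod O)) (hS : S.Exact) (e₁ : S.X₁ ⟶ S.X₁) (e₂ : S.X₂ ⟶ S.X₂)
    (e₃ : S.X₃ ⟶ S.X₃) (h₁₂ : e₁ ≫ S.f = S.f ≫ e₂) (h₂₃ : e₂ ≫ S.g = S.g ≫ e₃)
    (h₁ : RedAll I e₁) (h₃ : RedAll I e₃) : RedAll I e₂ := fun V x => by
  refine Red.of_cover _ (h₃ V (ap S.g x)) fun W g hg => ?_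
  obtain ⟨L, hL, h0⟩ := hg
  rw [rs_ap, ← ap_opL_map e₂ e₃ S.g h₂₃] at h0
  let y := opL e₂ L (rs S.X₂ g x)
  let b : ModSite.freeOn O W ⟶ S.X₂ := (secM O W _).symm y
  have hb : b ≫ S.g = 0 := by
    apply (secM O W _).injective
    rw [secM_comp, ← Category.id_comp (0 : ModSite.freeOn O W ⟶ S.X₃), secM_comp, Equiv.apply_symm_apply]
    exact h0
  haveI := S.exact_iff_epi_kernel_lift.1 hS
  let y' : ModSite.sect (kernel S.g) W := secM O W _ (kernel.lift S.g b hb)
  have hy' : ap (kernel.ι S.g) y' = y := by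
    change (kernel.ι S.g).val.app (op W) (secM O W _ (kernel.lift S.g b hb)) = y
    rw [← secM_comp, kernel.lift_ι, Equiv.apply_symm_apply]
  obtain ⟨S', hS', hd⟩ := Groth.L15.FPFree.exists_local_lift (kernel.lift S.g S.f S.zero) y'
  refine Red.of_cover S' hS' fun W' k hk => ?_
  obtain ⟨z, hz⟩ := hd k hk
  have hzy : ap S.f z = rs S.X₂ k y := by
    rw [← hy', rs_ap, ← hz, ← ap_comp, kernel.lift_ι]
  refine Red.of_cover _ (h₁ W' z) fun W'' l hl => ?_
  obtain ⟨L', hL', h1⟩ := hl
  refine Red.of_opL (L.map (rr O (l ≫ k)) ++ L') (fun a ha => ?_) ?_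
  · rcases List.mem_append.1 ha with ha | ha
    · obtain ⟨c, hc, rfl⟩ := List.mem_map.1 ha
      exact I.map_mem _ (hL c hc)
    · exact hL' a ha
  · rw [opL_append, rs_rs, ← rs_opL, ← rs_rs S.X₂ k l y, ← hzy, rs_ap, ← ap_opL_map e₁ e₂ S.f h₁₂, h1, map_zero]

/-- A reducing endomorphism restricts to a slice. -/
theorem redAll_restr (U : C) (h : RedAll I e) : RedAll (I.over U) ((ModSite.restr O U).map e) := fun W x => by
  have key : ∀ (W' : Over U) (L : List (O.obj.obj (op W'.left))) (y : ModSite.sect M W'.left),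
      opL ((ModSite.restr O U).map e) (O := O.over U) (V := W') L y = opL e L y := fun W' L => by
    induction L with
    | nil => exact fun y => rfl
    | cons a L ih => exact fun y => ih _
  refine (GrothendieckTopology.mem_over_iff _ _).2 (J.superset_covering ?_ (h W.left x))
  rintro Z g ⟨L, hL, h0⟩
  rw [Sieve.overEquiv_iff]
  exact ⟨L, hL, (key (Over.mk (g ≫ W.hom)) L (rs M g x)).trans h0⟩

end Red

section Zero

variable (M : ModSite.Mod O)

/-- Where the scalar `a` is nilpotent on `y`. -/
def nilSieve {V : C} (a : O.obj.obj (op V)) (y : ModSite.sect M V) : Sieve V where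
  arrows W g := ∃ n : ℕ, rr O g a ^ n • rs M g y = 0
  downward_closed {W W' g} h k := by
    obtain ⟨n, hn⟩ := h
    exact ⟨n, by rw [← rr_rr O g k, ← map_pow, ← rs_rs M g k, ← rs_smul, hn, map_zero]⟩

theorem nilSieve_rs {V W : C} (g : W ⟶ V) (a : O.obj.obj (op V)) (y : ModSite.sect M V) :
    nilSieve M (rr O g a) (rs M g y) = (nilSieve M a y).pullback g := by
  ext W' k
  change (∃ n : ℕ, _ = 0) ↔ (∃ n : ℕ, _ = 0)
  rw [rr_rr, rs_rs]

variable (O) in
/-- The sheaf of ideals of locally nilpotent scalars. -/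
def nilIdeal : DerComp.IdealSh O where
  ideal V :=
    { carrier := {a | ∀ ⦃W : C⦄ (g : W ⟶ V) (y : ModSite.sect M W), nilSieve M (rr O g a) y ∈ J W}
      zero_mem' := fun W g y => J.superset_covering (fun Z k _ => by
        exact ⟨1, by rw [map_zero, map_zero, pow_one, zero_smul]⟩) (J.top_mem W)
      add_mem' := fun {a b} ha hb W g y => by
        refine J.superset_covering ?_ (J.intersection_covering (ha g y) (hb g y))
        rintro Z k ⟨⟨m, hm⟩, ⟨n, hn⟩⟩
        obtain ⟨p, hp⟩ := Ideal.add_mem (Ideal.radical (Ideal.torsionOf _ _ (rs M k y)))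
          ⟨m, (Ideal.mem_torsionOf_iff (rs M k y) _).2 hm⟩ ⟨n, (Ideal.mem_torsionOf_iff (rs M k y) _).2 hn⟩
        exact ⟨p, by rw [map_add, map_add]; exact (Ideal.mem_torsionOf_iff (rs M k y) _).1 hp⟩
      smul_mem' := fun c a ha W g y => by
        refine J.superset_covering ?_ (ha g y)
        rintro Z k ⟨m, hm⟩
        exact ⟨m, by rw [smul_eq_mul, map_mul, map_mul, mul_pow, mul_smul, hm, smul_zero]⟩ }
  map_mem {U V} g a ha W k y := by
    have := ha (k ≫ g) y
    rwa [← rr_rr] at this
  glue {U a} S hS h W g y := by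
    refine J.transitive (J.pullback_stable g hS) _ fun Z k hk => ?_
    rw [← nilSieve_rs]
    have := h (k ≫ g) hk (𝟙 Z) (rs M k y)
    rwa [rr_id, show (O.obj.map (k ≫ g).op).hom a = rr O k (rr O g a) from (rr_rr O g k a).symm] at this

variable {M}

theorem iterate_smul_of_eigen {e : M ⟶ M} {V : C} {a : O.obj.obj (op V)} {y : ModSite.sect M V}
    (h : ap e y = a • y) (n : ℕ) : (fun z => ap e z)^[n] y = a ^ n • y := by
  induction n with
  | zero => rw [Function.iterate_zero_apply, pow_zero, one_smul]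
  | succ n ih => rw [Function.iterate_succ_apply', ih, ap_smul, h, smul_smul, ← pow_succ]

/-- An automorphism reducing modulo scalars which are locally nilpotent lives on zero. -/
theorem eq_zero_of_redAll {I : DerComp.IdealSh O} {e : M ⟶ M} [IsIso e] (hI : I ≤ nilIdeal O M)
    (h : RedAll I e) {V : C} (x : ModSite.sect M V) : x = 0 := by
  have hinj : ∀ {W : C}, Function.Injective fun z : ModSite.sect M W => ap e z :=
    fun {W} => Function.LeftInverse.injective (g := fun z => ap (inv e) z) fun z => by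
      change ap (inv e) (ap e z) = z
      rw [← ap_comp, IsIso.hom_inv_id]
      rfl
  have step : ∀ {W : C} (L : List (O.obj.obj (op W))), (∀ a ∈ L, a ∈ I.ideal W) →
      ∀ y : ModSite.sect M W, opL e L y = 0 → y = 0 := by
    intro W L
    induction L with
    | nil => exact fun _ y hy => hy
    | cons a L ih =>
      intro hL y hy
      rw [opL_cons] at hy
      have hey : ap e y = a • y := sub_eq_zero.1 (ih (fun b hb => hL b (List.mem_cons_of_mem _ hb)) _ hy)
      have hnil := hI W (hL a (List.mem_cons_self ..)) (𝟙 W) y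
      rw [rr_id] at hnil
      refine Groth.L15.ExtSupp.sect_ext M _ hnil y 0 fun Z k hk => ?_
      obtain ⟨n, hn⟩ := hk
      have hek : ap e (rs M k y) = rr O k a • rs M k y := by rw [← rs_ap, hey, rs_smul]
      have h0 : rs M k y = 0 := hinj.iterate n (((iterate_smul_of_eigen hek n).trans hn).trans
        (Function.iterate_fixed (map_zero (ap e)) n).symm)
      exact h0.trans (map_zero (rs M k)).symm
  refine Groth.L15.ExtSupp.sect_ext M _ (h V x) x 0 fun W g hg => ?_
  obtain ⟨L, hL, h0⟩ := hg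
  exact (step L hL _ h0).trans (map_zero (rs M g)).symm

theorem isZero_of_redAll {I : DerComp.IdealSh O} {e : M ⟶ M} [IsIso e] (hI : I ≤ nilIdeal O M)
    (h : RedAll I e) : IsZero M := by
  rw [IsZero.iff_id_eq_zero]
  apply (SheafOfModules.toSheaf _).map_injective
  ext V x
  exact eq_zero_of_redAll hI h (V := V.unop) x

end Zero

section LocCok

variable (U : C) (g : O.obj.obj (op U))

theorem locMap_comm :
    locMap U g ≫ Limits.Sigma.map (fun _ : ℕ => mulEnd U g) = Limits.Sigma.map (fun _ : ℕ => mulEnd U g) ≫ locMap U g := by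
  refine Sigma.hom_ext _ _ fun n => ?_
  rw [← Category.assoc, ι_locMap]
  simp [Preadditive.sub_comp, Preadditive.comp_sub, ι_locMap]

/-- Multiplication by `g` on the localised module. -/
def locMul : locCok U g ⟶ locCok U g :=
  cokernel.map _ _ (Limits.Sigma.map fun _ : ℕ => mulEnd U g) (Limits.Sigma.map fun _ : ℕ => mulEnd U g)
    (locMap_comm U g)

/-- The `n`-th generator. -/
def locGen (n : ℕ) : ModSite.freeOn O U ⟶ locCok U g :=
  Sigma.ι (fun _ : ℕ => ModSite.freeOn O U) n ≫ cokernel.π (locMap U g)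

theorem locGen_step (n : ℕ) : mulEnd U g ≫ locGen U g (n + 1) = locGen U g n := by
  have h := cokernel.condition (locMap U g)
  have h' : Sigma.ι (fun _ : ℕ => ModSite.freeOn O U) n ≫ locMap U g ≫ cokernel.π (locMap U g) = 0 := by
    rw [h, comp_zero]
  rw [← Category.assoc, ι_locMap, Preadditive.sub_comp, Category.assoc, sub_eq_zero] at h'
  exact h'.symm

theorem locGen_locMul (n : ℕ) : locGen U g n ≫ locMul U g = mulEnd U g ≫ locGen U g n := by
  simp [locGen, locMul]

theorem locGen_ext {Q : ModSite.Mod O} (q : locCok U g ⟶ Q) (h : ∀ n, locGen U g n ≫ q = 0) : q = 0 := by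
  rw [← cancel_epi (cokernel.π (locMap U g))]
  refine Sigma.hom_ext _ _ fun n => ?_
  rw [comp_zero, comp_zero, ← Category.assoc]
  exact h n

instance isIso_locMul : IsIso (locMul U g) := by
  let s : (∐ fun _ : ℕ => ModSite.freeOn O U) ⟶ ∐ fun _ : ℕ => ModSite.freeOn O U :=
    Sigma.desc fun n => Sigma.ι (fun _ : ℕ => ModSite.freeOn O U) (n + 1)
  have hs : locMap U g ≫ s = s ≫ locMap U g := by
    refine Sigma.hom_ext _ _ fun n => ?_
    rw [← Category.assoc, ι_locMap]
    simp [s, Preadditive.sub_comp, ι_locMap]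
  let σ : locCok U g ⟶ locCok U g := cokernel.map _ _ s s hs
  have hσ : ∀ n, locGen U g n ≫ σ = locGen U g (n + 1) := fun n => by simp [locGen, σ, s]
  refine ⟨σ, sub_eq_zero.1 (locGen_ext U g _ fun n => ?_), sub_eq_zero.1 (locGen_ext U g _ fun n => ?_)⟩
  · rw [Preadditive.comp_sub, ← Category.assoc, locGen_locMul, Category.assoc, hσ, locGen_step, Category.comp_id,
      sub_self]
  · rw [Preadditive.comp_sub, ← Category.assoc, hσ, locGen_locMul, locGen_step, Category.comp_id, sub_self]

theorem redAll_locMul (I : DerComp.IdealSh O) (hg : g ∈ I.ideal U) : RedAll I (locMul U g) :=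
  redAll_of_gen (fun _ : ℕ => U) (locGen U g) (fun _ q h => locGen_ext U g q h) fun n => by
    refine Red.of_opL [g] (by simpa using hg) ?_
    rw [opL_cons, opL_nil, sub_eq_zero]
    change (locMul U g).val.app (op U) (secM O U _ (locGen U g n)) = g • _
    rw [← secM_comp, locGen_locMul, secM_mulEnd]

end LocCok

end Groth.L04.DerComp
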