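import Groth.Agent.L10.HomotopyProd
import Groth.Agent.L10.ExactProd
import Groth.Agent.L10.KInj
import Groth.Prelude.Def_DCoh2
import Mathlib.Algebra.Homology.HomotopyCategory.MappingCocone
import Mathlib.Algebra.Homology.HomotopyCategory.ShortExact
import Mathlib.Algebra.Homology.DerivedCategory.ShortExact
import Mathlib.CategoryTheory.Adjunction.Basic

/-!
# Telescopes and derived limits of a natural endomorphism

For an exact functor `G` with a natural short exact sequence `⊕_ℕ X → ⊕_ℕ X → G X` (first map `1 - e · shift`),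
a right adjoint of `G` on the derived category sends `K` to a derived limit of `⋯ → K →e K`.
-/

set_option autoImplicit false
set_option backward.defeqAttrib.useBackward true
set_option backward.isDefEq.respectTransparency false

universe w v u

open CategoryTheory CategoryTheory.Limits CategoryTheory.Pretriangulated
open CochainComplex CochainComplex.HomComplex

noncomputable section

namespace Groth.L04.Telescope

variable {A : Type u} [Category.{v} A] [Abelian A] [HasCoproductsOfShape ℕ A] [HasProductsOfShape ℕ A]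

/-- `X ↦ ⊕_ℕ X`. -/
@[simps]
def sigmaF (A : Type u) [Category.{v} A] [Abelian A] [HasCoproductsOfShape ℕ A] : A ⥤ A where
  obj X := ∐ fun _ : ℕ => X
  map f := Limits.Sigma.map fun _ => f
  map_id X := Sigma.hom_ext _ _ fun n => by simp
  map_comp f g := Sigma.hom_ext _ _ fun n => by simp

instance : (sigmaF A).Additive where
  map_add {X Y f g} := Sigma.hom_ext _ _ fun n => by simp [sigmaF]

/-- `X ↦ ∏_ℕ X`. -/
@[simps]
def piF (A : Type u) [Category.{v} A] [Abelian A] [HasProductsOfShape ℕ A] : A ⥤ A where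
  obj X := ∏ᶜ fun _ : ℕ => X
  map f := Limits.Pi.map fun _ => f
  map_id X := Pi.hom_ext _ _ fun n => by simp
  map_comp f g := Pi.hom_ext _ _ fun n => by simp

instance : (piF A).Additive where
  map_add {X Y f g} := Pi.hom_ext _ _ fun n => by simp [piF]

variable (e : 𝟭 A ⟶ 𝟭 A)

/-- The component of `e`. -/
abbrev ea (X : A) : X ⟶ X := e.app X

/-- `1 - e · shift` on sums. -/
def φ : sigmaF A ⟶ sigmaF A where
  app X := Sigma.desc fun n => Sigma.ι (fun _ : ℕ => X) n - ea e X ≫ Sigma.ι (fun _ : ℕ => X) (n + 1)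
  naturality X Y f := Sigma.hom_ext _ _ fun n => by
    have : f ≫ ea e Y = ea e X ≫ f := e.naturality f
    show Sigma.ι (fun _ : ℕ => X) n ≫ Limits.Sigma.map (fun _ => f) ≫
        Sigma.desc (fun n => Sigma.ι (fun _ : ℕ => Y) n - ea e Y ≫ Sigma.ι (fun _ : ℕ => Y) (n + 1)) =
      Sigma.ι (fun _ : ℕ => X) n ≫ Sigma.desc (fun n => Sigma.ι (fun _ : ℕ => X) n -
        ea e X ≫ Sigma.ι (fun _ : ℕ => X) (n + 1)) ≫ Limits.Sigma.map (fun _ => f)
    simp [reassoc_of% this]

@[reassoc]
theorem ι_φ (X : A) (n : ℕ) : Sigma.ι (fun _ : ℕ => X) n ≫ (φ e).app X =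
    Sigma.ι (fun _ : ℕ => X) n - ea e X ≫ Sigma.ι (fun _ : ℕ => X) (n + 1) := by
  simp [φ]

/-- `1 - shift · e` on products. -/
def θ : piF A ⟶ piF A where
  app X := Pi.lift fun n => Pi.π (fun _ : ℕ => X) n - Pi.π (fun _ : ℕ => X) (n + 1) ≫ ea e X
  naturality X Y f := Pi.hom_ext _ _ fun n => by
    have := e.naturality f
    simp only [Functor.id_map] at this
    simp [piF, this]

@[reassoc]
theorem θ_π (X : A) (n : ℕ) : (θ e).app X ≫ Pi.π (fun _ : ℕ => X) n =
    Pi.π (fun _ : ℕ => X) n - Pi.π (fun _ : ℕ => X) (n + 1) ≫ ea e X := by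
  simp [θ]

/-- `⊕_ℕ` of a complex. -/
abbrev N (M : CochainComplex A ℤ) : CochainComplex A ℤ := ((sigmaF A).mapHomologicalComplex (ComplexShape.up ℤ)).obj M

/-- `∏_ℕ` of a complex. -/
abbrev PP (M : CochainComplex A ℤ) : CochainComplex A ℤ := ((piF A).mapHomologicalComplex (ComplexShape.up ℤ)).obj M

/-- The inclusion of a summand. -/
def ιN (M : CochainComplex A ℤ) (n : ℕ) : M ⟶ N M where
  f p := Sigma.ι (fun _ : ℕ => M.X p) n
  comm' i j _ := by simp [sigmaF]

/-- The projection to a factor. -/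
def πP (M : CochainComplex A ℤ) (n : ℕ) : PP M ⟶ M where
  f p := Pi.π (fun _ : ℕ => M.X p) n
  comm' i j _ := by simp [piF]

/-- `e` on complexes. -/
def eC (M : CochainComplex A ℤ) : M ⟶ M where
  f p := ea e (M.X p)
  comm' i j _ := (e.naturality (M.d i j)).symm

theorem eC_natural {M M' : CochainComplex A ℤ} (f : M ⟶ M') : eC e M ≫ f = f ≫ eC e M' := by
  ext p
  exact (e.naturality (f.f p)).symm

theorem eC_natural_cochain {M M' : CochainComplex A ℤ} {m : ℤ} (z : Cochain M M' m) :
    (Cochain.ofHom (eC e M)).comp z (zero_add m) = z.comp (Cochain.ofHom (eC e M')) (add_zero m) := by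
  ext p q hpq
  simp only [Cochain.comp_zero_cochain_v, Cochain.zero_cochain_comp_v, Cochain.ofHom_v]
  exact (e.naturality (z.v p q hpq)).symm

/-- `1 - e · shift` on a complex. -/
abbrev φC (M : CochainComplex A ℤ) : N M ⟶ N M := (NatTrans.mapHomologicalComplex (φ e) (ComplexShape.up ℤ)).app M

/-- `1 - shift · e` on a complex. -/
abbrev θC (M : CochainComplex A ℤ) : PP M ⟶ PP M := (NatTrans.mapHomologicalComplex (θ e) (ComplexShape.up ℤ)).app M

theorem ι_φC (M : CochainComplex A ℤ) (n : ℕ) : ιN M n ≫ φC e M = ιN M n - eC e M ≫ ιN M (n + 1) := by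
  ext p
  exact ι_φ e (M.X p) n

theorem θC_π (M : CochainComplex A ℤ) (n : ℕ) : θC e M ≫ πP M n = πP M n - πP M (n + 1) ≫ eC e M := by
  ext p
  exact θ_π e (M.X p) n

/-- Cochains out of a sum are determined on summands. -/
theorem sigma_ext {M M' : CochainComplex A ℤ} {m : ℤ} {z z' : Cochain (N M) M' m}
    (h : ∀ n, (Cochain.ofHom (ιN M n)).comp z (zero_add m) = (Cochain.ofHom (ιN M n)).comp z' (zero_add m)) :
    z = z' := by
  ext p q hpq
  refine Sigma.hom_ext _ _ fun n => ?_
  simpa [ιN] using Cochain.congr_v (h n) p q hpq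

/-- Cochains into a product are determined on factors. -/
theorem pi_ext {M M' : CochainComplex A ℤ} {m : ℤ} {z z' : Cochain M' (PP M) m}
    (h : ∀ n, z.comp (Cochain.ofHom (πP M n)) (add_zero m) = z'.comp (Cochain.ofHom (πP M n)) (add_zero m)) :
    z = z' := by
  ext p q hpq
  refine Pi.hom_ext _ _ fun n => ?_
  simpa [πP] using Cochain.congr_v (h n) p q hpq

/-- Assemble cochains on summands. -/
def descS {M M' : CochainComplex A ℤ} {m : ℤ} (c : ℕ → Cochain M M' m) : Cochain (N M) M' m :=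
  Cochain.mk fun p q h => Sigma.desc fun n => (c n).v p q h

theorem ι_descS {M M' : CochainComplex A ℤ} {m : ℤ} (c : ℕ → Cochain M M' m) (n : ℕ) :
    (Cochain.ofHom (ιN M n)).comp (descS c) (zero_add m) = c n := by
  ext p q hpq
  simp [descS, ιN]

/-- Assemble cochains to factors. -/
def liftQ {M M' : CochainComplex A ℤ} {m : ℤ} (c : ℕ → Cochain M' M m) : Cochain M' (PP M) m :=
  Cochain.mk fun p q h => Pi.lift fun n => (c n).v p q h

theorem liftQ_π {M M' : CochainComplex A ℤ} {m : ℤ} (c : ℕ → Cochain M' M m) (n : ℕ) :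
    (liftQ c).comp (Cochain.ofHom (πP M n)) (add_zero m) = c n := by
  ext p q hpq
  simp [liftQ, πP]

/-- Assemble maps on summands. -/
def descN {M M' : CochainComplex A ℤ} (c : ℕ → (M ⟶ M')) : N M ⟶ M' where
  f p := Sigma.desc fun n => (c n).f p
  comm' i j _ := Sigma.hom_ext _ _ fun n => by simp [sigmaF]

@[reassoc (attr := simp)]
theorem ι_descN {M M' : CochainComplex A ℤ} (c : ℕ → (M ⟶ M')) (n : ℕ) : ιN M n ≫ descN c = c n := by
  ext p; simp [ιN, descN]

/-- Assemble maps to factors. -/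
def liftP {M M' : CochainComplex A ℤ} (c : ℕ → (M' ⟶ M)) : M' ⟶ PP M where
  f p := Pi.lift fun n => (c n).f p
  comm' i j _ := Pi.hom_ext _ _ fun n => by simp [piF]

@[reassoc (attr := simp)]
theorem liftP_π {M M' : CochainComplex A ℤ} (c : ℕ → (M' ⟶ M)) (n : ℕ) : liftP c ≫ πP M n = c n := by
  ext p; simp [πP, liftP]

theorem N_ext {M M' : CochainComplex A ℤ} {a b : N M ⟶ M'} (h : ∀ n, ιN M n ≫ a = ιN M n ≫ b) : a = b := by
  ext p
  exact Sigma.hom_ext _ _ fun n => congrArg (fun t => t.f p) (h n)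

theorem P_ext {M M' : CochainComplex A ℤ} {a b : M' ⟶ PP M} (h : ∀ n, a ≫ πP M n = b ≫ πP M n) : a = b := by
  ext p
  exact Pi.hom_ext _ _ fun n => congrArg (fun t => t.f p) (h n)

/-- The telescope. -/
abbrev Tel (M : CochainComplex A ℤ) : CochainComplex A ℤ := mappingCone (φC e M)

/-- The fibre of `1 - shift · e`. -/
abbrev Fib (I : CochainComplex A ℤ) : CochainComplex A ℤ := mappingCocone (θC e I)

theorem δ_snd (I : CochainComplex A ℤ) :
    δ (-1) 0 (mappingCocone.snd (θC e I)) =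
      -(Cochain.ofHom (mappingCocone.fst (θC e I) ≫ θC e I)) := by
  have h : mappingCocone.snd (θC e I) =
      mappingCocone.descCochain (θC e I) (0 : Cochain (PP I) (PP I) (-1)) (Cochain.ofHom (𝟙 _)) (neg_add_cancel 1) := by
    ext p q hpq
    obtain rfl : q = p + -1 := by lia
    rw [← cancel_epi (𝟙 _), ← mappingCocone.id_X (θC e I) p (p + -1) rfl]
    simp
  rw [h, mappingCocone.δ_descCochain _ _ _ _ 1 rfl]
  simp [Cochain.ofHom_comp]

variable {e}
variable {M I : CochainComplex A ℤ}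

/-- The degree `-1` component of `Φ`. -/
def Φα (f : M ⟶ Fib e I) : Cochain (N M) I (-1) :=
  descS fun n => -(((Cochain.ofHom f).comp (mappingCocone.snd (θC e I)) (zero_add (-1))).comp
    (Cochain.ofHom (πP I n)) (add_zero (-1)))

/-- The degree `0` component of `Φ`. -/
def Φβ (f : M ⟶ Fib e I) : N M ⟶ I := descN fun n => f ≫ mappingCocone.fst (θC e I) ≫ πP I n

theorem Φ_eq (f : M ⟶ Fib e I) : δ (-1) 0 (Φα f) = Cochain.ofHom (φC e M ≫ Φβ f) := by
  refine sigma_ext fun n => ?_
  rw [← δ_ofHom_comp, Φα, ι_descS, δ_neg, δ_comp_ofHom, δ_ofHom_comp, δ_snd, ← Cochain.ofHom_comp]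
  simp only [Cochain.comp_neg, Cochain.neg_comp, neg_neg, ← Cochain.ofHom_comp]
  congr 1
  rw [← Category.assoc (ιN M n), ι_φC, Preadditive.sub_comp, Category.assoc (eC e M), Φβ, ι_descN, ι_descN,
    Category.assoc, Category.assoc, θC_π, Preadditive.comp_sub, Preadditive.comp_sub]
  congr 1
  exact (Category.assoc _ _ _).symm.trans ((Category.assoc _ _ _).symm.trans (by
    rw [eC_natural]; simp))

/-- From maps into the fibre to maps out of the telescope. -/
def Φ (f : M ⟶ Fib e I) : Tel e M ⟶ I := mappingCone.desc _ (Φα f) (Φβ f) (Φ_eq f)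

theorem inl_Φ (f : M ⟶ Fib e I) :
    (mappingCone.inl (φC e M)).comp (Cochain.ofHom (Φ f)) (add_zero (-1)) = Φα f := by
  ext p q hpq
  simp [Φ]

theorem inr_Φ (f : M ⟶ Fib e I) : mappingCone.inr (φC e M) ≫ Φ f = Φβ f := by
  ext p; simp [Φ]

/-- From maps out of the telescope to maps into the fibre. -/
def Ψ (g : Tel e M ⟶ I) : M ⟶ Fib e I :=
  mappingCocone.lift _ (liftP fun n => ιN M n ≫ mappingCone.inr (φC e M) ≫ g)
    (-liftQ fun n => (Cochain.ofHom (ιN M n)).comp
      ((mappingCone.inl (φC e M)).comp (Cochain.ofHom g) (add_zero (-1))) (zero_add (-1))) (by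
    refine pi_ext fun n => ?_
    rw [Cochain.add_comp, ← δ_comp_ofHom, Cochain.neg_comp, liftQ_π, δ_neg, δ_ofHom_comp, δ_comp_ofHom,
      mappingCone.δ_inl, ← Cochain.ofHom_comp, ← Cochain.ofHom_comp, ← Cochain.ofHom_comp, Cochain.zero_comp,
      ← Cochain.ofHom_neg, ← Cochain.ofHom_add, ← Cochain.ofHom_zero]
    congr 1
    rw [Category.assoc _ (θC e I), θC_π, Preadditive.comp_sub, liftP_π, ← Category.assoc _ (πP I (n + 1)), liftP_π,
      ← eC_natural e (ιN M (n + 1) ≫ mappingCone.inr (φC e M) ≫ g), Category.assoc (φC e M),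
      ← Category.assoc (ιN M n) (φC e M), ι_φC]
    simp [Preadditive.sub_comp])

theorem Φ_Ψ (g : Tel e M ⟶ I) : Φ (Ψ g) = g := by
  ext p
  refine mappingCone.ext_from _ (p + 1) p rfl ?_ ?_
  · simp only [Φ, mappingCone.inl_v_desc_f]
    refine Sigma.hom_ext _ _ fun n => ?_
    simp [Φα, descS, Ψ, liftQ, πP, ιN]
  · simp only [Φ, mappingCone.inr_f_desc_f]
    refine Sigma.hom_ext _ _ fun n => ?_
    simp [Φβ, descN, Ψ, liftP, πP, ιN]

/-- `Φ` reflects null-homotopy. -/
theorem nullHomotopic_of_Φ (f : M ⟶ Fib e I) (h : Homotopy (Φ f) 0) : Nonempty (Homotopy f 0) := by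
  obtain ⟨z, hz⟩ := Cochain.equivHomotopy _ _ h
  rw [Cochain.ofHom_zero, add_zero] at hz
  let a : Cochain (N M) I (-2) := (mappingCone.inl (φC e M)).comp z (by norm_num)
  let b : Cochain (N M) I (-1) := (Cochain.ofHom (mappingCone.inr (φC e M))).comp z (zero_add (-1))
  let H : Cochain M (Fib e I) (-1) := mappingCocone.liftCochain _
    (liftQ fun n => (Cochain.ofHom (ιN M n)).comp b (zero_add (-1)))
    (liftQ fun n => (Cochain.ofHom (ιN M n)).comp a (zero_add (-2))) (by norm_num)
  have hb : δ (-1) 0 b = Cochain.ofHom (Φβ f) := by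
    simp only [b]
    rw [δ_ofHom_comp, ← hz, ← Cochain.ofHom_comp, inr_Φ]
  have ha : δ (-2) (-1) a = Φα f - (Cochain.ofHom (φC e M)).comp b (zero_add (-1)) := by
    simp only [a, b]
    rw [δ_comp _ z (by norm_num : (-1 : ℤ) + -1 = -2) 0 0 (-1) (by norm_num) (neg_add_cancel 1) (neg_add_cancel 1),
      ← hz, inl_Φ, mappingCone.δ_inl, Cochain.ofHom_comp]
    simp [Cochain.comp_assoc_of_first_is_zero_cochain, sub_eq_add_neg]
  refine ⟨(Cochain.equivHomotopy _ _).symm ⟨H, ?_⟩⟩
  rw [Cochain.ofHom_zero, add_zero]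
  have h1 : (Cochain.ofHom f).comp (Cochain.ofHom (mappingCocone.fst (θC e I))) (add_zero 0) =
      (δ (-1) 0 H).comp (Cochain.ofHom (mappingCocone.fst (θC e I))) (add_zero 0) := by
    refine pi_ext fun n => ?_
    rw [← δ_comp_ofHom, mappingCocone.liftCochain_comp_fst, ← δ_comp_ofHom, liftQ_π, δ_ofHom_comp, hb,
      ← Cochain.ofHom_comp, ← Cochain.ofHom_comp, ← Cochain.ofHom_comp, Φβ, ι_descN, Category.assoc]
  have h2 : (Cochain.ofHom f).comp (mappingCocone.snd (θC e I)) (zero_add (-1)) =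
      (δ (-1) 0 H).comp (mappingCocone.snd (θC e I)) (zero_add (-1)) := by
    have hd := δ_comp H (mappingCocone.snd (θC e I)) (by norm_num : (-1 : ℤ) + -1 = -2) 0 0 (-1) (by norm_num)
      (neg_add_cancel 1) (neg_add_cancel 1)
    rw [mappingCocone.liftCochain_comp_snd, δ_snd, Cochain.ofHom_comp, Cochain.comp_neg,
      ← Cochain.comp_assoc_of_second_is_zero_cochain, mappingCocone.liftCochain_comp_fst] at hd
    simp only [Int.negOnePow_neg, Int.negOnePow_one, Units.neg_smul, one_smul] at hd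
    refine pi_ext fun n => ?_
    have hd' := congrArg (fun c => Cochain.comp c (Cochain.ofHom (πP I n)) (add_zero (-1))) hd
    simp only [Cochain.add_comp, Cochain.neg_comp, ← δ_comp_ofHom, liftQ_π, δ_ofHom_comp, ha, Cochain.comp_sub,
      Cochain.comp_assoc_of_third_is_zero_cochain] at hd'
    rw [← Cochain.ofHom_comp, θC_π, Cochain.ofHom_sub, Cochain.comp_sub, liftQ_π, Cochain.ofHom_comp,
      ← Cochain.comp_assoc_of_third_is_zero_cochain, liftQ_π, Cochain.comp_assoc_of_third_is_zero_cochain,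
      ← eC_natural_cochain] at hd'
    rw [Φα, ι_descS, ← Cochain.comp_assoc_of_first_is_zero_cochain, ← Cochain.ofHom_comp, ι_φC] at hd'
    simp only [Cochain.ofHom_sub, Cochain.ofHom_comp, Cochain.sub_comp,
      Cochain.comp_assoc_of_first_is_zero_cochain] at hd'
    simp only [Cochain.comp_assoc_of_third_is_zero_cochain] at hd' ⊢
    simp only [← Cochain.comp_assoc_of_first_is_zero_cochain, ← Cochain.ofHom_comp, ← eC_natural] at hd'
    simp only [Cochain.comp_assoc_of_first_is_zero_cochain, Cochain.ofHom_comp] at hd'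
    linear_combination (norm := abel) -hd'
  ext p
  rw [← cancel_mono (𝟙 _), ← mappingCocone.id_X (θC e I) p (p - 1) (by lia), Preadditive.comp_add,
    Preadditive.comp_add]
  have e1 := Cochain.congr_v h1 p p (add_zero p)
  have e2 := Cochain.congr_v h2 p (p - 1) (by lia)
  simp only [Cochain.zero_cochain_comp_v, Cochain.comp_zero_cochain_v] at e1 e2
  rw [Cochain.ofHom_v] at e1 e2 ⊢
  rw [Cochain.ofHom_v] at e1
  rw [reassoc_of% e1, reassoc_of% e2]

theorem Φ_natural {M' : CochainComplex A ℤ} (f : M' ⟶ M) (g : M ⟶ Fib e I) :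
    Φ (f ≫ g) = mappingCone.map (φC e M') (φC e M) (((sigmaF A).mapHomologicalComplex _).map f)
      (((sigmaF A).mapHomologicalComplex _).map f)
      ((NatTrans.mapHomologicalComplex (φ e) (ComplexShape.up ℤ)).naturality f).symm ≫ Φ g := by
  ext p
  refine mappingCone.ext_from _ (p + 1) p rfl ?_ ?_
  · simp [Φ, mappingCone.map]
    refine Sigma.hom_ext _ _ fun n => ?_
    simp [Φα, descS, sigmaF]
  · simp [Φ, mappingCone.map]
    refine Sigma.hom_ext _ _ fun n => ?_
    simp [Φβ, descN, sigmaF]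

end Groth.L04.Telescope
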