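import Groth.Agent.L04.DerComp.Telescope
import Mathlib.Algebra.Homology.DerivedCategory.ExactFunctor

/-!
# The right adjoint of a telescope functor is a derived limit
-/

set_option autoImplicit false
set_option backward.defeqAttrib.useBackward true
set_option backward.isDefEq.respectTransparency false

universe w v u

open CategoryTheory CategoryTheory.Limits CategoryTheory.Pretriangulated
open CochainComplex CochainComplex.HomComplex

noncomputable section

namespace Groth.L04.Telescope

variable {A : Type u} [Category.{v} A] [Abelian A] [HasDerivedCategory.{w} A]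

local notation "qK" => HomotopyCategory.quotient A (ComplexShape.up ℤ)

/-- Maps into K-injective complexes in the derived category come from complexes. -/
theorem Q_map_surjective {M I : CochainComplex A ℤ} [I.IsKInjective] :
    Function.Surjective (DerivedCategory.Q.map : (M ⟶ I) → _) := fun g => by
  let qQ := DerivedCategory.quotientCompQhIso A
  obtain ⟨x, hx⟩ := (CochainComplex.IsKInjective.Qh_map_bijective ((qK).obj M) I).surjective
    (qQ.hom.app M ≫ g ≫ qQ.inv.app I)
  obtain ⟨f, rfl⟩ := (qK).map_surjective x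
  refine ⟨f, (cancel_epi (qQ.hom.app M)).1 ?_⟩
  refine (qQ.hom.naturality f).symm.trans ?_
  rw [Functor.comp_map, hx, Category.assoc, Category.assoc, Iso.inv_hom_id_app]
  exact congrArg _ (Category.comp_id g)

/-- Only null-homotopic maps into K-injective complexes vanish in the derived category. -/
theorem homotopy_of_Q_map_eq_zero {M I : CochainComplex A ℤ} [I.IsKInjective] {f : M ⟶ I}
    (h : DerivedCategory.Q.map f = 0) : Nonempty (Homotopy f 0) := by
  refine ⟨HomotopyCategory.homotopyOfEq _ _ ?_⟩
  refine (CochainComplex.IsKInjective.Qh_map_bijective ((qK).obj M) I).injective ?_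
  refine (cancel_mono ((DerivedCategory.quotientCompQhIso A).hom.app I)).1 ?_
  refine ((DerivedCategory.quotientCompQhIso A).hom.naturality f).trans ?_
  rw [h, Functor.map_zero, Functor.map_zero, zero_comp, comp_zero]

theorem Q_map_eq_zero {M I : CochainComplex A ℤ} {f : M ⟶ I} (h : Homotopy f 0) :
    DerivedCategory.Q.map f = 0 := by
  refine (cancel_epi ((DerivedCategory.quotientCompQhIso A).hom.app M)).1 ?_
  refine ((DerivedCategory.quotientCompQhIso A).hom.naturality f).symm.trans ?_
  rw [Functor.comp_map, HomotopyCategory.eq_of_homotopy f 0 h, Functor.map_zero, Functor.map_zero, zero_comp, comp_zero]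

variable [HasCoproductsOfShape ℕ A] [HasProductsOfShape ℕ A] {e : 𝟭 A ⟶ 𝟭 A}

/-- Products of K-injective complexes are K-injective. -/
instance isKInjective_PP (I : CochainComplex A ℤ) [I.IsKInjective] : (PP I).IsKInjective where
  nonempty_homotopy_zero {K} f hK := by
    let z := fun n => Cochain.equivHomotopy _ _ (CochainComplex.IsKInjective.homotopyZero (f ≫ πP I n) hK)
    refine ⟨(Cochain.equivHomotopy _ _).symm ⟨liftQ fun n => (z n).1, pi_ext fun n => ?_⟩⟩
    rw [Cochain.add_comp, ← δ_comp_ofHom, liftQ_π, ← Cochain.ofHom_comp, ← Cochain.ofHom_comp, zero_comp]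
    exact (z n).2

/-- The fibre is K-injective. -/
instance isKInjective_Fib (I : CochainComplex A ℤ) [I.IsKInjective] : (Fib e I).IsKInjective := by
  haveI : (mappingCone (θC e I)).IsKInjective := by
    rw [CochainComplex.isKInjective_iff_rightOrthogonal]
    exact ObjectProperty.ext_of_isTriangulatedClosed₃ _ _
      (HomotopyCategory.mappingCone_triangleh_distinguished (θC e I))
      (CochainComplex.IsKInjective.rightOrthogonal (PP I)) (CochainComplex.IsKInjective.rightOrthogonal (PP I))
  exact inferInstanceAs ((mappingCone (θC e I))⟦(-1 : ℤ)⟧).IsKInjective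

/-- `Q (PP I)` is a product. -/
theorem toProd_bijective (I : CochainComplex A ℤ) [I.IsKInjective] (X : DerivedCategory A) :
    Function.Bijective (fun (g : X ⟶ DerivedCategory.Q.obj (PP I)) n => g ≫ DerivedCategory.Q.map (πP I n)) := by
  haveI := Localization.essSurj (DerivedCategory.Q (C := A)) (HomologicalComplex.quasiIso A (ComplexShape.up ℤ))
  let M := (DerivedCategory.Q (C := A)).objPreimage X
  let ε : DerivedCategory.Q.obj M ≅ X := (DerivedCategory.Q (C := A)).objObjPreimageIso X
  refine ⟨fun g g' hg => ?_, fun f => ?_⟩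
  · obtain ⟨x, hx⟩ := Q_map_surjective (M := M) (I := PP I) (ε.hom ≫ (g - g'))
    simp only at hg
    have hn : ∀ n, DerivedCategory.Q.map (x ≫ πP I n) = 0 := fun n => by
      rw [Functor.map_comp, hx, Category.assoc, Preadditive.sub_comp, congrFun hg n, sub_self, comp_zero]
    let z := fun n => Cochain.equivHomotopy _ _ (homotopy_of_Q_map_eq_zero (hn n)).some
    have h : Homotopy x 0 := (Cochain.equivHomotopy _ _).symm ⟨liftQ fun n => (z n).1, pi_ext fun n => by
      rw [Cochain.add_comp, ← δ_comp_ofHom, liftQ_π, ← Cochain.ofHom_comp, ← Cochain.ofHom_comp, zero_comp]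
      exact (z n).2⟩
    rw [Q_map_eq_zero h] at hx
    rw [← sub_eq_zero, ← cancel_epi ε.hom, ← hx, comp_zero]
  · choose x hx using fun n => Q_map_surjective (M := M) (I := I) (ε.hom ≫ f n)
    refine ⟨ε.inv ≫ DerivedCategory.Q.map (liftP x), funext fun n => ?_⟩
    simp only
    rw [Category.assoc, ← Functor.map_comp, liftP_π, hx, Iso.inv_hom_id_assoc]

variable (G : A ⥤ A) [G.Additive] (p : sigmaF A ⟶ G) (hp : φ e ≫ p = 0)

/-- The defining short complex on complexes. -/
def SC (M : CochainComplex A ℤ) : ShortComplex (CochainComplex A ℤ) :=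
  ShortComplex.mk (φC e M) ((NatTrans.mapHomologicalComplex p (ComplexShape.up ℤ)).app M) (by
    ext i
    exact NatTrans.congr_app hp (M.X i))

/-- Functoriality of the defining short complex. -/
def SCmap {M M' : CochainComplex A ℤ} (f : M ⟶ M') : SC G p hp M ⟶ SC G p hp M' where
  τ₁ := ((sigmaF A).mapHomologicalComplex _).map f
  τ₂ := ((sigmaF A).mapHomologicalComplex _).map f
  τ₃ := (G.mapHomologicalComplex _).map f
  comm₁₂ := (NatTrans.mapHomologicalComplex (φ e) (ComplexShape.up ℤ)).naturality f
  comm₂₃ := (NatTrans.mapHomologicalComplex p (ComplexShape.up ℤ)).naturality f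

/-- The comparison of the telescope with `G`. -/
abbrev telDesc (M : CochainComplex A ℤ) : Tel e M ⟶ (G.mapHomologicalComplex (ComplexShape.up ℤ)).obj M :=
  mappingCone.descShortComplex (SC G p hp M)

variable (hex : ∀ X : A, (ShortComplex.mk ((φ e).app X) (p.app X) (NatTrans.congr_app hp X)).ShortExact)

include hex in
theorem quasiIso_telDesc (M : CochainComplex A ℤ) : QuasiIso (telDesc G p hp M) :=
  CochainComplex.mappingCone.quasiIso_descShortComplex
    (HomologicalComplex.shortExact_of_degreewise_shortExact (SC G p hp M) fun i => hex (M.X i))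

variable [PreservesFiniteLimits G] [PreservesFiniteColimits G]

include hex in
/-- The universal map. -/
theorem exists_universal (I : CochainComplex A ℤ) [I.IsKInjective] :
    ∃ u : G.mapDerivedCategory.obj (DerivedCategory.Q.obj (Fib e I)) ⟶ DerivedCategory.Q.obj I,
      ∀ X : DerivedCategory A, Function.Bijective
        (fun f : X ⟶ DerivedCategory.Q.obj (Fib e I) => G.mapDerivedCategory.map f ≫ u) := by
  haveI := fun M => quasiIso_telDesc G p hp hex M
  let fac := G.mapDerivedCategoryFactors
  haveI : ∀ M, IsIso (DerivedCategory.Q.map (telDesc G p hp M)) := fun M =>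
    Localization.inverts DerivedCategory.Q (HomologicalComplex.quasiIso A (ComplexShape.up ℤ)) _
      ((HomologicalComplex.mem_quasiIso_iff _).2 inferInstance)
  refine ⟨fac.hom.app _ ≫ inv (DerivedCategory.Q.map (telDesc G p hp (Fib e I))) ≫
    DerivedCategory.Q.map (Φ (𝟙 (Fib e I))), fun X => ?_⟩
  set u := fac.hom.app _ ≫ inv (DerivedCategory.Q.map (telDesc G p hp (Fib e I))) ≫
    DerivedCategory.Q.map (Φ (𝟙 (Fib e I))) with hu
  have key : ∀ {M : CochainComplex A ℤ} (f : M ⟶ Fib e I),
      G.mapDerivedCategory.map (DerivedCategory.Q.map f) ≫ u =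
        fac.hom.app M ≫ inv (DerivedCategory.Q.map (telDesc G p hp M)) ≫ DerivedCategory.Q.map (Φ f) := by
    intro M f
    rw [hu]
    refine (fac.hom.naturality_assoc f _).trans ?_
    refine congrArg (fac.hom.app M ≫ ·) ?_
    rw [IsIso.eq_inv_comp, Functor.comp_map, ← Functor.map_comp_assoc,
      ← show mappingCone.map (φC e M) (φC e (Fib e I)) _ _ (SCmap G p hp f).comm₁₂.symm ≫ telDesc G p hp (Fib e I) =
        telDesc G p hp M ≫ (G.mapHomologicalComplex _).map f from
          mappingCone.descShortComplex_naturality (SCmap G p hp f),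
      Functor.map_comp_assoc, IsIso.hom_inv_id_assoc, ← Functor.map_comp]
    exact congrArg DerivedCategory.Q.map ((Φ_natural f (𝟙 _)).symm.trans (by rw [Category.comp_id]))
  haveI := Localization.essSurj (DerivedCategory.Q (C := A)) (HomologicalComplex.quasiIso A (ComplexShape.up ℤ))
  let M := (DerivedCategory.Q (C := A)).objPreimage X
  let ε : DerivedCategory.Q.obj M ≅ X := (DerivedCategory.Q (C := A)).objObjPreimageIso X
  refine ⟨fun f f' h => ?_, fun g => ?_⟩
  · obtain ⟨x, hx⟩ := Q_map_surjective (M := M) (I := Fib e I) (ε.hom ≫ (f - f'))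
    have h0 : G.mapDerivedCategory.map (DerivedCategory.Q.map x) ≫ u = 0 := by
      simp only at h
      rw [hx, Functor.map_comp, Category.assoc, Functor.map_sub, Preadditive.sub_comp, h, sub_self, comp_zero]
    have h1 : DerivedCategory.Q.map (Φ x) = 0 := by
      rw [key] at h0
      rwa [← cancel_epi (inv (DerivedCategory.Q.map (telDesc G p hp M))), ← cancel_epi (fac.hom.app M),
        comp_zero, comp_zero]
    obtain ⟨hh⟩ := homotopy_of_Q_map_eq_zero h1
    obtain ⟨hh'⟩ := nullHomotopic_of_Φ x hh
    rw [Q_map_eq_zero hh'] at hx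
    rw [← sub_eq_zero, ← cancel_epi ε.hom, ← hx, comp_zero]
  · obtain ⟨x, hx⟩ := Q_map_surjective (M := Tel e M) (I := I)
      (DerivedCategory.Q.map (telDesc G p hp M) ≫ fac.inv.app M ≫ G.mapDerivedCategory.map ε.hom ≫ g)
    refine ⟨ε.inv ≫ DerivedCategory.Q.map (Ψ x), ?_⟩
    simp only
    rw [Functor.map_comp, Category.assoc, key, Φ_Ψ, hx, IsIso.inv_hom_id_assoc, Iso.hom_inv_id_app_assoc,
      ← Functor.map_comp_assoc, Iso.inv_hom_id, CategoryTheory.Functor.map_id, Category.id_comp]

include hex in
/-- A right adjoint of the telescope functor gives derived limits. -/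
theorem isRlim_rightAdjoint [Groth.L10.KInjDerived.EnoughKInjectives A]
    {R : DerivedCategory A ⥤ DerivedCategory A} (adj : G.mapDerivedCategory ⊣ R)
    (K : DerivedCategory A) [HasProduct fun _ : ℕ => K] (t : K ⟶ K)
    (ht : ∀ (I : CochainComplex A ℤ) (j : DerivedCategory.Q.obj I ≅ K),
      DerivedCategory.Q.map (eC e I) ≫ j.hom = j.hom ≫ t) :
    DCoh.IsRlim (fun _ : ℕ => K) (fun _ => t) (R.obj K) := by
  obtain ⟨r⟩ := Groth.L10.KInjDerived.exists_rightResolution (A := A) (DerivedCategory.Qh.objPreimage K)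
  haveI : IsIso (DerivedCategory.Qh.map r.w) :=
    Localization.inverts DerivedCategory.Qh (HomotopyCategory.quasiIso A (ComplexShape.up ℤ)) r.w r.hw
  let I : CochainComplex A ℤ := r.X₁.obj.as
  haveI : I.IsKInjective := r.X₁.property
  let j : DerivedCategory.Q.obj I ≅ K :=
    ((DerivedCategory.quotientCompQhIso A).app I).symm ≪≫
      (asIso (DerivedCategory.Qh.map r.w)).symm ≪≫ DerivedCategory.Qh.objObjPreimageIso K
  obtain ⟨u, hu⟩ := exists_universal G p hp hex I
  -- the object
  let ξ : DerivedCategory.Q.obj (Fib e I) ⟶ R.obj (DerivedCategory.Q.obj I) := adj.homEquiv _ _ u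
  haveI : IsIso ξ := by
    refine (isIso_iff_yoneda_map_bijective ξ).2 fun X => ?_
    have : (fun f : X ⟶ DerivedCategory.Q.obj (Fib e I) => f ≫ ξ) =
        (adj.homEquiv X (DerivedCategory.Q.obj I)) ∘ fun f => G.mapDerivedCategory.map f ≫ u := by
      funext f
      exact (adj.homEquiv_naturality_left f u).symm
    rw [this]
    exact (Equiv.bijective _).comp (hu X)
  let L := asIso ξ ≪≫ R.mapIso j
  -- the product
  let χ : DerivedCategory.Q.obj (PP I) ⟶ ∏ᶜ fun _ : ℕ => K :=
    Pi.lift fun n => DerivedCategory.Q.map (πP I n) ≫ j.hom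
  haveI : IsIso χ := by
    refine (isIso_iff_yoneda_map_bijective χ).2 fun X => ⟨fun g g' hg => ?_, fun g => ?_⟩
    · refine (toProd_bijective I X).injective (funext fun n => ?_)
      have := congrArg (fun h => (h ≫ Pi.π (fun _ : ℕ => K) n) ≫ j.inv) hg
      simpa [χ] using this
    · obtain ⟨g', hg'⟩ := (toProd_bijective I X).surjective (fun n => g ≫ Pi.π _ n ≫ j.inv)
      refine ⟨g', Pi.hom_ext _ _ fun n => ?_⟩
      have := congrArg (· ≫ j.hom) (congrFun hg' n)
      simpa [χ] using this
  let T₀ := DerivedCategory.Q.mapTriangle.obj (mappingCocone.triangle (θC e I))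
  have hT₀ : T₀ ∈ distTriang (DerivedCategory A) := by
    rw [rotate_distinguished_triangle]
    exact isomorphic_distinguished _ (DerivedCategory.mappingCone_triangle_distinguished (θC e I)) _
      ((DerivedCategory.Q.mapTriangleRotateIso.app _) ≪≫
        DerivedCategory.Q.mapTriangle.mapIso (mappingCocone.rotateTriangleIso (θC e I)))
  refine ⟨L.inv ≫ T₀.mor₁ ≫ χ, inv χ ≫ T₀.mor₃ ≫ L.hom⟦(1 : ℤ)⟧', ?_⟩
  refine isomorphic_distinguished _ hT₀ _ (Iso.symm ?_)
  refine Triangle.isoMk _ _ L (asIso χ) (asIso χ) ?_ ?_ ?_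
  · change T₀.mor₁ ≫ χ = L.hom ≫ L.inv ≫ T₀.mor₁ ≫ χ
    rw [Iso.hom_inv_id_assoc]
  · change DerivedCategory.Q.map (θC e I) ≫ χ = χ ≫ Pi.lift _
    refine Pi.hom_ext _ _ fun n => ?_
    simp only [χ, Category.assoc, Pi.lift_π, Preadditive.comp_sub, Pi.lift_π_assoc]
    rw [← Functor.map_comp_assoc, θC_π, Functor.map_sub, Preadditive.sub_comp, Functor.map_comp, Category.assoc, ht I j]
  · change T₀.mor₃ ≫ L.hom⟦(1 : ℤ)⟧' = χ ≫ inv χ ≫ T₀.mor₃ ≫ L.hom⟦(1 : ℤ)⟧'
    rw [IsIso.hom_inv_id_assoc]

end Groth.L04.Telescope
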