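import Mathlib.Algebra.Module.LinearMap.End
import Mathlib.GroupTheory.QuotientGroup.Basic
import Mathlib.Algebra.Group.Pi.Basic
import Mathlib.Algebra.Ring.Basic
import Mathlib.Algebra.Group.Hom.Basic
import Mathlib.Tactic.Abel

/-!
# Endomorphisms for which `1 - e · shift` is bijective on sequences
-/

set_option autoImplicit false

namespace Groth.L04.DerComp

variable {H : Type*} [AddCommGroup H]

/-- `x ↦ (x i - e (x (i+1)))`. -/
def theta (e : AddMonoid.End H) (x : ℕ → H) : ℕ → H := fun i => x i - e (x (i + 1))

/-- The sequence map of `e` is bijective. -/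
def Tz (e : AddMonoid.End H) : Prop := Function.Bijective (theta e)

theorem theta_apply (e : AddMonoid.End H) (x : ℕ → H) (i : ℕ) : theta e x i = x i - e (x (i + 1)) := rfl

theorem theta_sub (e : AddMonoid.End H) (x y : ℕ → H) : theta e (x - y) = theta e x - theta e y := by
  funext i
  simp only [theta_apply, Pi.sub_apply, map_sub]
  abel

theorem tz_zero : Tz (0 : AddMonoid.End H) := by
  have : theta (0 : AddMonoid.End H) = id := by funext x i; simp [theta_apply]
  rw [Tz, this]; exact Function.bijective_id

theorem Tz.eq_zero_of_seq {e : AddMonoid.End H} (he : Tz e) {x : ℕ → H} (hx : ∀ i, e (x (i + 1)) = x i) : x = 0 :=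
  he.1 (by funext i; simp [theta_apply, hx])

theorem Tz.eq_zero_of_iterate {e : AddMonoid.End H} (he : Tz e) (f : H → H) (hf : ∀ x, e (f x) = x) (h : H) : h = 0 := by
  have := he.eq_zero_of_seq (x := fun n => f^[n] h) (fun n => by
    simp only [Function.iterate_succ_apply', hf])
  exact congrFun this 0

/-- An endomorphism `e` with `1 - e` equal to one that is also complete leaves no room. -/
theorem Tz.bijective_one_sub {e : AddMonoid.End H} (he : Tz e) : Function.Bijective (fun x => x - e x) := by
  constructor
  · intro a b hab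
    have hc : theta e (fun _ => a) = theta e (fun _ => b) := funext fun _ => hab
    exact congrFun (he.1 hc) 0
  · intro h
    obtain ⟨x, hx⟩ := he.2 (fun _ => h)
    have : theta e (fun i => x (i + 1)) = theta e x := funext fun i =>
      (congrFun hx (i + 1)).trans (congrFun hx i).symm
    refine ⟨x 0, ?_⟩
    have h1 : x 1 = x 0 := congrFun (he.1 this) 0
    have h2 := congrFun hx 0
    rw [theta_apply, h1] at h2
    exact h2

section Sum

variable {a b : AddMonoid.End H}

/-- If `a + b` is bijective and `a`, `b` commute and are complete, the group vanishes. -/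
theorem eq_zero_of_bijective_add (hab : Commute a b) (ha : Tz a) (hb : Tz b)
    (hs : Function.Bijective (a + b)) (h : H) : h = 0 := by
  let t : H → H := Function.invFun (a + b)
  have ht : ∀ x, (a + b) (t x) = x := fun x => Function.rightInverse_invFun hs.2 x
  have ht' : ∀ x, t ((a + b) x) = x := fun x => Function.leftInverse_invFun hs.1 x
  have htadd : ∀ x y, t (x + y) = t x + t y := fun x y => hs.1 (by rw [map_add, ht, ht, ht])
  let tE : AddMonoid.End H := AddMonoidHom.mk' t htadd
  have hta : ∀ x, t (a x) = a (t x) := fun x => hs.1 (by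
    have h1 : (a + b) (a (t x)) = a ((a + b) (t x)) := by
      change a (a (t x)) + b (a (t x)) = a (a (t x) + b (t x))
      rw [map_add]
      exact congrArg (_ + ·) (DFunLike.congr_fun hab.eq (t x)).symm
    rw [h1, ht, ht])
  -- `u = a ∘ t` is complete
  let u : AddMonoid.End H := a * tE
  have hu : Tz u := by
    let P : (ℕ → H) → ℕ → H := fun x i => t^[i] (x i)
    let Pi' : (ℕ → H) → ℕ → H := fun x i => (a + b)^[i] (x i)
    have hP : Function.Bijective P := Function.bijective_iff_has_inverse.2 ⟨Pi',
      fun x => funext fun i => (Function.RightInverse.iterate (g := t) ht i) (x i),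
      fun x => funext fun i => (Function.LeftInverse.iterate (g := t) (f := ⇑(a + b)) ht' i) (x i)⟩
    have key : ∀ x, theta a (P x) = P (theta u x) := fun x => funext fun i => by
      have hadd : ∀ (j : ℕ) (y z : H), t^[j] (y - z) = t^[j] y - t^[j] z := fun j y z => by
        induction j with
        | zero => rfl
        | succ j ih => rw [Function.iterate_succ_apply', Function.iterate_succ_apply', Function.iterate_succ_apply', ih]
                       exact tE.map_sub _ _
      have hcomm : ∀ (j : ℕ) (y : H), t^[j] (a y) = a (t^[j] y) := fun j y => by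
        induction j with
        | zero => rfl
        | succ j ih => rw [Function.iterate_succ_apply', Function.iterate_succ_apply', ih, hta]
      simp only [P, theta_apply, hadd]
      congr 1
      change a (t^[i + 1] (x (i + 1))) = t^[i] (a (t (x (i + 1))))
      rw [hcomm, Function.iterate_succ_apply]
    refine ⟨fun x y h => hP.1 (ha.1 (by rw [key, key, h])), fun y => ?_⟩
    obtain ⟨z, hz⟩ := ha.2 (P y)
    obtain ⟨x, rfl⟩ := hP.2 z
    exact ⟨x, hP.1 (by rw [← key, hz])⟩
  have hv := hu.bijective_one_sub
  have hv' : ∀ x, x - u x = b (t x) := fun x => by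
    change x - a (t x) = b (t x)
    nth_rw 1 [← ht x]
    exact add_sub_cancel_left _ _
  have hbb : Function.Bijective b := by
    have : ⇑b = (fun x => x - u x) ∘ ⇑(a + b) := funext fun x => by
      simp only [Function.comp_apply, hv', ht']
    rw [this]; exact hv.comp hs
  exact hb.eq_zero_of_iterate (Function.invFun b) (Function.rightInverse_invFun hbb.2) h

end Sum

/-- Pointwise application. -/
def piMap (e : AddMonoid.End H) : AddMonoid.End (ℕ → H) :=
  AddMonoidHom.mk' (fun x i => e (x i)) fun x y => funext fun i => map_add e _ _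

theorem piMap_apply (e : AddMonoid.End H) (x : ℕ → H) (i : ℕ) : piMap e x i = e (x i) := rfl

theorem Tz.piMap {e : AddMonoid.End H} (he : Tz e) : Tz (piMap e) := by
  refine ⟨fun x y h => ?_, fun y => ?_⟩
  · funext i j
    exact congrFun (he.1 (a₁ := fun i => x i j) (a₂ := fun i => y i j) (funext fun i => congrFun (congrFun h i) j)) i
  · choose z hz using fun j => he.2 (fun i => y i j)
    exact ⟨fun i j => z j i, funext fun i => funext fun j => congrFun (hz j) i⟩

/-- `theta s` as an additive map. -/
def thetaHom (s : AddMonoid.End H) : AddMonoid.End (ℕ → H) :=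
  AddMonoidHom.mk' (theta s) fun x y => funext fun i => by
    simp only [theta_apply, Pi.add_apply, map_add]; abel

theorem comm_thetaHom {s e : AddMonoid.End H} (h : Commute e s) (x : ℕ → H) :
    piMap e (thetaHom s x) = thetaHom s (piMap e x) := funext fun i => by
  change e (x i - s (x (i + 1))) = e (x i) - s (e (x (i + 1)))
  rw [map_sub]
  exact congrArg (_ - ·) (DFunLike.congr_fun h.eq (x (i + 1)))

section Kernel

variable {G : Type*} [AddCommGroup G] (F : AddMonoid.End G) {e : AddMonoid.End G}

/-- A commuting endomorphism on the kernel. -/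
def kerMap (hc : ∀ x, e (F x) = F (e x)) : AddMonoid.End F.ker :=
  AddMonoidHom.mk' (fun x => ⟨e x.1, by
    exact (hc x.1).symm.trans ((congrArg e (AddMonoidHom.mem_ker.1 x.2)).trans (map_zero e))⟩) fun x y => Subtype.ext (map_add e _ _)

/-- A commuting endomorphism on the cokernel. -/
def cokerMap (hc : ∀ x, e (F x) = F (e x)) : AddMonoid.End (G ⧸ F.range) :=
  QuotientAddGroup.map F.range F.range e (by rintro _ ⟨x, rfl⟩; exact ⟨e x, (hc x).symm⟩)

theorem Tz.kerMap (he : Tz e) (hc : ∀ x, e (F x) = F (e x)) : Tz (kerMap F hc) := by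
  refine ⟨fun x y h => ?_, fun y => ?_⟩
  · have := he.1 (a₁ := fun i => (x i).1) (a₂ := fun i => (y i).1) (funext fun i => congrArg Subtype.val (congrFun h i))
    exact funext fun i => Subtype.ext (congrFun this i)
  · obtain ⟨x, hx⟩ := he.2 (fun i => (y i).1)
    have h0 : (fun i => F (x i)) = 0 := he.1 (funext fun i => by
      have := congrFun hx i
      simp only [theta_apply] at this ⊢
      rw [hc, ← map_sub, this]
      exact (AddMonoidHom.mem_ker.1 (y i).2).trans (by simp))
    exact ⟨fun i => ⟨x i, congrFun h0 i⟩, funext fun i => Subtype.ext (congrFun hx i)⟩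

theorem Tz.cokerMap (he : Tz e) (hc : ∀ x, e (F x) = F (e x)) : Tz (cokerMap F hc) := by
  refine ⟨fun x y h => ?_, fun y => ?_⟩
  · choose a ha using fun i => QuotientAddGroup.mk_surjective (x i - y i)
    have h0 : ∀ i, ∃ b, F b = theta e a i := fun i => by
      have : (QuotientAddGroup.mk (theta e a i) : G ⧸ F.range) = 0 := by
        rw [theta_apply, QuotientAddGroup.mk_sub, ha]
        have := congrFun h i
        simp only [theta_apply] at this
        change x i - y i - Groth.L04.DerComp.cokerMap F hc (QuotientAddGroup.mk (a (i + 1))) = 0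
        rw [ha, map_sub, sub_sub_sub_comm, this, sub_self]
      exact (QuotientAddGroup.eq_zero_iff _).1 this
    choose b hb using h0
    obtain ⟨b', rfl⟩ := he.2 b
    have ha' : a = fun i => F (b' i) := he.1 (funext fun i => by
      rw [← hb, theta_apply, theta_apply, map_sub, hc])
    refine funext fun i => sub_eq_zero.1 ?_
    rw [← ha i, ha']
    exact (QuotientAddGroup.eq_zero_iff _).2 ⟨_, rfl⟩
  · choose a ha using fun i => QuotientAddGroup.mk_surjective (y i)
    obtain ⟨x, hx⟩ := he.2 a
    exact ⟨fun i => QuotientAddGroup.mk (x i), funext fun i => by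
      rw [← ha i, ← hx]; rfl⟩

end Kernel

/-- Shift of sequences. -/
def shiftSeq (H : Type*) [AddCommGroup H] : AddMonoid.End (ℕ → H) :=
  AddMonoidHom.mk' (fun x i => x (i + 1)) fun _ _ => rfl

/-- A criterion: `s` is complete if the operators forced to be bijective by it leave no room. -/
theorem tz_of_forall (s : AddMonoid.End H)
    (hker : ∀ x : (thetaHom s).ker, x = 0) (hcok : ∀ x : (ℕ → H) ⧸ (thetaHom s).range, x = 0) : Tz s := by
  refine ⟨fun x y hxy => sub_eq_zero.1 ?_, fun y => ?_⟩
  · exact congrArg Subtype.val (hker ⟨x - y, by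
      change theta s (x - y) = 0
      rw [theta_sub, hxy, sub_self]⟩)
  · exact (QuotientAddGroup.eq_zero_iff y).1 (hcok _)

theorem bijective_ker (s : AddMonoid.End H) :
    Function.Bijective (kerMap (thetaHom s) (e := piMap s) (comm_thetaHom (Commute.refl s))) := by
  have key : ∀ x : (thetaHom s).ker, ∀ i, s (x.1 (i + 1)) = x.1 i := fun x i =>
    (sub_eq_zero.1 (congrFun (AddMonoidHom.mem_ker.1 x.2) i)).symm
  refine ⟨fun x y hxy => ?_, fun y => ?_⟩
  · refine Subtype.ext (funext fun i => ?_)
    rw [← key x i, ← key y i]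
    exact congrFun (congrArg Subtype.val hxy) (i + 1)
  · refine ⟨⟨shiftSeq H y.1, ?_⟩, Subtype.ext (funext fun i => key y i)⟩
    exact funext fun i => congrFun (AddMonoidHom.mem_ker.1 y.2) (i + 1)

theorem bijective_coker (s : AddMonoid.End H) :
    Function.Bijective (cokerMap (thetaHom s) (e := piMap s) (comm_thetaHom (Commute.refl s))) := by
  let σ := cokerMap (thetaHom s) (e := shiftSeq H) (fun x => rfl)
  have h1 : ∀ x, cokerMap (thetaHom s) (e := piMap s) (comm_thetaHom (Commute.refl s)) (σ x) = x := fun x => by
    obtain ⟨a, rfl⟩ := QuotientAddGroup.mk_surjective x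
    refine sub_eq_zero.1 ?_
    change (QuotientAddGroup.mk (piMap s (shiftSeq H a)) : (ℕ → H) ⧸ (thetaHom s).range) - QuotientAddGroup.mk a = 0
    rw [← QuotientAddGroup.mk_sub, QuotientAddGroup.eq_zero_iff]
    exact ⟨-a, (map_neg (thetaHom s) a).trans (funext fun i => by
      change -(a i - s (a (i + 1))) = s (a (i + 1)) - a i
      rw [neg_sub])⟩
  have h2 : ∀ x, σ (cokerMap (thetaHom s) (e := piMap s) (comm_thetaHom (Commute.refl s)) x) = x := fun x => by
    obtain ⟨a, rfl⟩ := QuotientAddGroup.mk_surjective x
    exact h1 (QuotientAddGroup.mk a)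
  exact Function.bijective_iff_has_inverse.2 ⟨σ, h2, h1⟩

/-- Complete endomorphisms are closed under sums. -/
theorem Tz.add {a b : AddMonoid.End H} (hab : Commute a b) (ha : Tz a) (hb : Tz b) : Tz (a + b) := by
  have ca : Commute a (a + b) := AddMonoidHom.ext fun x => by
    change a (a x + b x) = a (a x) + b (a x)
    rw [map_add]
    exact congrArg (_ + ·) (DFunLike.congr_fun hab.eq x)
  have cb : Commute b (a + b) := AddMonoidHom.ext fun x => by
    change b (a x + b x) = a (b x) + b (b x)
    rw [map_add]
    exact congrArg (· + _) (DFunLike.congr_fun hab.eq x).symm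
  refine tz_of_forall _ (fun x => ?_) (fun x => ?_)
  · refine eq_zero_of_bijective_add ?_ (ha.piMap.kerMap _ (comm_thetaHom ca)) (hb.piMap.kerMap _ (comm_thetaHom cb)) ?_ x
    · exact AddMonoidHom.ext fun x => Subtype.ext (funext fun i => DFunLike.congr_fun hab.eq (x.1 i))
    · exact bijective_ker (a + b)
  · refine eq_zero_of_bijective_add ?_ (ha.piMap.cokerMap _ (comm_thetaHom ca)) (hb.piMap.cokerMap _ (comm_thetaHom cb)) ?_ x
    · refine AddMonoidHom.ext fun x => ?_
      obtain ⟨y, rfl⟩ := QuotientAddGroup.mk_surjective x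
      exact congrArg QuotientAddGroup.mk (funext fun i => DFunLike.congr_fun hab.eq (y i))
    · convert bijective_coker (a + b) using 1
      refine funext fun x => ?_
      obtain ⟨y, rfl⟩ := QuotientAddGroup.mk_surjective x
      rfl

/-- Complete endomorphisms absorb commuting ones. -/
theorem Tz.mul {a e : AddMonoid.End H} (hc : Commute e a) (ha : Tz a) : Tz (e * a) := by
  have ca : Commute a (e * a) := hc.symm.mul_right (Commute.refl a)
  have ce : Commute e (e * a) := (Commute.refl e).mul_right hc
  refine tz_of_forall _ (fun x => ?_) (fun x => ?_)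
  · have hb := bijective_ker (e * a)
    let E := DerComp.kerMap (thetaHom (e * a)) (e := DerComp.piMap e) (comm_thetaHom ce)
    have hk := ha.piMap.kerMap _ (comm_thetaHom ca)
    refine hk.eq_zero_of_iterate (fun z => E (Function.invFun (DerComp.kerMap (thetaHom (e * a)) (e := DerComp.piMap (e * a)) (comm_thetaHom (Commute.refl (e * a)))) z)) (fun z => ?_) x
    refine Eq.trans ?_ (Function.rightInverse_invFun hb.2 z)
    exact Subtype.ext (funext fun i => (DFunLike.congr_fun hc.eq _).symm)
  · have hb := bijective_coker (e * a)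
    let E := DerComp.cokerMap (thetaHom (e * a)) (e := DerComp.piMap e) (comm_thetaHom ce)
    have hk := ha.piMap.cokerMap _ (comm_thetaHom ca)
    refine hk.eq_zero_of_iterate (fun z => E (Function.invFun (DerComp.cokerMap (thetaHom (e * a)) (e := DerComp.piMap (e * a)) (comm_thetaHom (Commute.refl (e * a)))) z)) (fun z => ?_) x
    refine Eq.trans ?_ (Function.rightInverse_invFun hb.2 z)
    generalize Function.invFun (DerComp.cokerMap (thetaHom (e * a)) (e := DerComp.piMap (e * a)) (comm_thetaHom (Commute.refl (e * a)))) z = w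
    obtain ⟨y, rfl⟩ := QuotientAddGroup.mk_surjective w
    exact congrArg QuotientAddGroup.mk (funext fun i => (DFunLike.congr_fun hc.eq (y i)).symm)

/-- Transport along an additive bijection. -/
theorem tz_iff_of_equiv {H' : Type*} [AddCommGroup H'] (φ : H ≃+ H') (e : AddMonoid.End H) (e' : AddMonoid.End H')
    (h : ∀ x, φ (e x) = e' (φ x)) : Tz e ↔ Tz e' := by
  let Φ : (ℕ → H) ≃ (ℕ → H') := Equiv.piCongrRight fun _ => φ.toEquiv
  have key : theta e' ∘ Φ = Φ ∘ theta e := funext fun x => funext fun i => by
    change φ (x i) - e' (φ (x (i + 1))) = φ (x i - e (x (i + 1)))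
    rw [map_sub, h]
  unfold Tz
  rw [← Function.Bijective.of_comp_iff' Φ.bijective (theta e), ← key]
  exact Function.Bijective.of_comp_iff _ Φ.bijective

end Groth.L04.DerComp
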