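import Groth.Agent.L04.DerComp.CandIdeal

/-!
# Completeness at a section, tested on a generating family of objects
-/

set_option autoImplicit false
set_option backward.defeqAttrib.useBackward true
set_option backward.isDefEq.respectTransparency false

universe u

open CategoryTheory CategoryTheory.Limits Opposite

noncomputable section

attribute [local instance] HasDerivedCategory.standard

namespace Groth.L04.DerComp

variable {C : Type u} [SmallCategory C] {J : GrothendieckTopology C} {O : Sheaf J CommRingCat.{u}}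

/-- Completeness for a section may be tested on a family of opens refining every covering. -/
theorem tzAt_of_gens (K : DerivedCategory (ModSite.Mod O)) {U : C} {f : O.obj.obj (op U)} (G : Set (Over U))
    (hG : ∀ X : Over U, ∃ (ι : Type u) (Y : ι → Over U) (g : ∀ i, Y i ⟶ X),
      Sieve.ofArrows Y g ∈ (J.over U) X ∧ ∀ i, Y i ∈ G)
    (h : ∀ W : G, TzAt K W.1.left ((O.obj.map W.1.hom.op).hom f)) : TzAt K U f := by
  have hU := Groth.L10.shMod_isGrothendieckAbelian (ModSite.ringSh (O.over U))
  have hO := Groth.L10.shMod_isGrothendieckAbelian (ModSite.ringSh O)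
  haveI : EnoughInjectives (ModSite.Mod (O.over U)) := IsGrothendieckAbelian.enoughInjectives.{u}
  haveI : HasProductsOfShape ℕ (ModSite.Mod (O.over U)) := hasLimitsOfShape_of_equivalence
    (Discrete.equivalence (Equiv.ulift.{u} : ULift.{u} ℕ ≃ ℕ))
  let RD := (ModSite.restr O U).mapDerivedCategory
  let LD := (ModSite.extZero O U).mapDerivedCategory
  haveI : RD.IsRightDerivedFunctor (ModSite.restr O U).mapDerivedCategoryFactorsh.inv
      (HomotopyCategory.quasiIso (ModSite.Mod O) (ComplexShape.up ℤ)) :=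
    Functor.isRightDerivedFunctor_of_inverts _ _ _
  let ad : LD ⊣ RD := Groth.L10.DerivedAdj.derived (ModSite.extZeroAdj O U) RD
    (ModSite.restr O U).mapDerivedCategoryFactorsh.inv
  let T := RD.obj K
  let s := DerComp.GSec.ofSect O U f
  let t : T ⟶ T := s • 𝟙 T
  have ht : ∀ (W : Over U) (n : ℤ) (a : (SiteCmp.inD (O.over U) (ModSite.freeOn (O.over U) W))⟦n⟧ ⟶ T),
      ((DerivedCategory.singleFunctor (ModSite.Mod (O.over U)) 0).map
        (DerComp.smulEnd s (ModSite.freeOn (O.over U) W)))⟦n⟧' ≫ a = a ≫ t := fun W n a => by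
    have h1 : DerComp.smulEnd s (ModSite.freeOn (O.over U) W) = s • 𝟙 (ModSite.freeOn (O.over U) W) :=
      (Category.comp_id _).symm
    rw [h1, Functor.map_smul, Functor.map_smul, CategoryTheory.Functor.map_id, CategoryTheory.Functor.map_id,
      Linear.smul_comp, Linear.comp_smul, Category.comp_id]
    congr 1
    exact Category.id_comp a
  have key : ∀ (W : Over U) (n : ℤ),
      Tz (preEnd (freeMul W.left ((O.obj.map W.hom.op).hom f) n) K) ↔
      Tz (preEnd (((DerivedCategory.singleFunctor (ModSite.Mod (O.over U)) 0).map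
        (DerComp.smulEnd s (ModSite.freeOn (O.over U) W)))⟦n⟧') T) := fun W n => by
    refine Iff.trans ?_ (tz_iff_of_equiv (ad.homAddEquiv _ K) (preEnd (LD.map _) K) _ fun a =>
      ad.homEquiv_naturality_left _ a)
    let i₀ : ((DerivedCategory.singleFunctor (ModSite.Mod (O.over U)) 0) ⋙
        CategoryTheory.shiftFunctor _ n ⋙ LD).obj (ModSite.freeOn (O.over U) W) ≅
      ((ModSite.extZero O U) ⋙ DerivedCategory.singleFunctor (ModSite.Mod O) 0 ⋙
        CategoryTheory.shiftFunctor _ n).obj (ModSite.freeOn (O.over U) W) :=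
      (LD.commShiftIso n).app _ ≪≫ (CategoryTheory.shiftFunctor _ n).mapIso
        (((ModSite.extZero O U).mapDerivedCategorySingleFunctor 0).app _)
    refine (tz_preEnd_iff_of_iso (i₀ ≪≫ (CategoryTheory.shiftFunctor _ n).mapIso
      ((DerivedCategory.singleFunctor (ModSite.Mod O) 0).mapIso (extZeroFreeIso O U W))) _ _ ?_ K).symm
    have n1 := (LD.commShiftIso n).hom.naturality
      ((DerivedCategory.singleFunctor (ModSite.Mod (O.over U)) 0).map (DerComp.smulEnd s (ModSite.freeOn (O.over U) W)))
    have n2 := ((ModSite.extZero O U).mapDerivedCategorySingleFunctor 0).hom.naturality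
      (DerComp.smulEnd s (ModSite.freeOn (O.over U) W))
    simp only [i₀, Iso.trans_hom, Iso.app_hom, Functor.mapIso_hom, Category.assoc]
    rw [reassoc_of% n1]
    simp only [freeMul, Functor.comp_map, ← Functor.map_comp, Category.assoc]
    congr 2
    rw [reassoc_of% n2]
    simp only [Functor.comp_map, ← Functor.map_comp]
    congr 2
    exact extZero_map_smulEnd_free O U f W
  haveI : HasProductsOfShape ℕ (DerivedCategory (ModSite.Mod (O.over U))) := Groth.L10.DerivedProd.hasProductsOfShape
  let ψ : (∏ᶜ fun _ : ℕ => T) ⟶ ∏ᶜ fun _ : ℕ => T :=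
    Pi.lift fun i => Pi.π (fun _ : ℕ => T) i - Pi.π (fun _ : ℕ => T) (i + 1) ≫ t
  have hψ : ∀ (W : Over U) (n : ℤ),
      Tz (preEnd (((DerivedCategory.singleFunctor (ModSite.Mod (O.over U)) 0).map
        (DerComp.smulEnd s (ModSite.freeOn (O.over U) W)))⟦n⟧') T) ↔
      Function.Bijective (fun g : (SiteCmp.inD (O.over U) (ModSite.freeOn (O.over U) W))⟦n⟧ ⟶ ∏ᶜ fun _ : ℕ => T =>
        g ≫ ψ) := fun W n => by
    let Φ : ((SiteCmp.inD (O.over U) (ModSite.freeOn (O.over U) W))⟦n⟧ ⟶ ∏ᶜ fun _ : ℕ => T) ≃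
        (ℕ → ((SiteCmp.inD (O.over U) (ModSite.freeOn (O.over U) W))⟦n⟧ ⟶ T)) :=
      { toFun := fun g i => g ≫ Pi.π _ i
        invFun := fun x => Pi.lift x
        left_inv := fun g => by refine Pi.hom_ext _ _ fun i => ?_; simp
        right_inv := fun x => by funext i; simp }
    have hk : theta (preEnd (((DerivedCategory.singleFunctor (ModSite.Mod (O.over U)) 0).map
        (DerComp.smulEnd s (ModSite.freeOn (O.over U) W)))⟦n⟧') T) ∘ Φ = Φ ∘ (fun g => g ≫ ψ) := by
      funext g i
      change g ≫ Pi.π _ i - _ ≫ (g ≫ Pi.π _ (i + 1)) = (g ≫ ψ) ≫ Pi.π _ i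
      rw [ht]
      simp [ψ]
    constructor
    · intro h; exact (Function.Bijective.of_comp_iff' Φ.bijective _).1 (hk ▸ h.comp Φ.bijective)
    · intro h; exact (Function.Bijective.of_comp_iff _ Φ.bijective).1 (hk ▸ Φ.bijective.comp h)
  haveI : IsIso ψ := isIso_of_separating _ (Groth.L10.FreeOn.isSeparating (O.over U) G hG) ψ
    fun W n => (hψ W.1 n).1 ((key W.1 n).1 (h W n))
  intro n
  have h0 := (key (Over.mk (𝟙 U)) n).2 ((hψ _ n).2 ((asIso ψ).homToEquiv.bijective))
  have e : (O.obj.map (Over.mk (𝟙 U)).hom.op).hom f = f := by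
    change (O.obj.map (𝟙 U).op).hom f = f
    rw [op_id, CategoryTheory.Functor.map_id]
    rfl
  rw [e] at h0
  exact h0

end Groth.L04.DerComp
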