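import Groth.Agent.L04.DerComp.NilFil

/-!
# The derived unit on iterated cones of local generators
-/

set_option autoImplicit false
set_option backward.defeqAttrib.useBackward true
set_option backward.isDefEq.respectTransparency false

universe u

open CategoryTheory CategoryTheory.Limits CategoryTheory.Pretriangulated Opposite Groth.L10

noncomputable section

attribute [local instance] HasDerivedCategory.standard

namespace Groth.L04.DerComp

variable {C : Type u} [SmallCategory C] {J : GrothendieckTopology C} {O O' : Sheaf J CommRingCat.{u}} {φ : O ⟶ O'}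
  {I : DerComp.IdealSh O} {I' : DerComp.IdealSh O'}

/-- The homology of the iterated cone is extended by zero from modules killed by powers of the generators. -/
theorem exists_homology_kosFree (V : C) {r : ℕ} (a : Fin r → O.obj.obj (op V)) (j : ℤ) :
    ∃ (M : ModSite.Mod (O.over V)) (k : Fin r → ℕ),
      (∀ i, DerComp.GSec.ofSect O V (a i) ^ k i • 𝟙 M = 0) ∧
      Nonempty ((ModSite.extZero O V).obj M ≅ (kosFree O V a).homology j) := by
  let Pu := (Fam.kos (List.finRange r).reverse (famU O V a)).K
  choose k hk using exists_homotopy_kosU (O := O) V a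
  obtain ⟨e₃⟩ := Fam.map_kos (ModSite.extZero O V) (famU O V a) (List.finRange r).reverse
  let base : Fam.Iso' ((famU O V a).map (ModSite.extZero O V)) (famFree O V a) :=
    Fam.mapSingle (ModSite.extZero O V) _ _ _ (Iso.refl _) _ _ fun i => by
      rw [Iso.refl_hom, Category.comp_id, Category.id_comp]
      exact extZero_map_smulEnd V (a i)
  obtain ⟨e₄⟩ := Fam.Iso'.kos ⟨base⟩ (List.finRange r).reverse
  refine ⟨Pu.homology j, k, fun i => ?_,
    ⟨((Pu.sc j).mapHomologyIso (ModSite.extZero O V)).symm ≪≫
      (HomologicalComplex.homologyFunctor _ _ j).mapIso (e₃.trans e₄).iso⟩⟩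
  have h := (hk i).some.homologyMap_eq j
  rw [HomologicalComplex.homologyMap_zero] at h
  rw [← h]
  change DerComp.GSec.ofSect O V (a i) ^ k i • 𝟙 (Pu.sc j).homology =
    ShortComplex.homologyMap ((HomologicalComplex.shortComplexFunctor _ _ j).map _)
  rw [← ShortComplex.homologyMap_id]
  exact (ShortComplex.homologyMap_smul ..).symm

/-- The derived unit is an isomorphism on shifted iterated cones. -/
theorem isIso_derived_unit_kosFree (hq : SameQuot φ I I') [PreservesFiniteLimits (ringMor φ).pull]
    [PreservesFiniteColimits (ringMor φ).pull]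
    [PreservesFiniteLimits (ringMor φ).push] [PreservesFiniteColimits (ringMor φ).push]
    [(ringMor φ).pull.Additive] [KInjDerived.EnoughKInjectives (ModSite.Mod O')]
    [(ringMor φ).push.mapDerivedCategory.IsRightDerivedFunctor (ringMor φ).push.mapDerivedCategoryFactorsh.inv
      (HomotopyCategory.quasiIso (ModSite.Mod O') (ComplexShape.up ℤ))]
    (V : C) {r : ℕ} (a : Fin r → O.obj.obj (op V))
    (ha : (I.over V).IsGenBy fun i => DerComp.GSec.ofSect O V (a i)) (n : ℤ) :
    IsIso ((DerivedAdj.derived (ringMor φ).adj _ (ringMor φ).push.mapDerivedCategoryFactorsh.inv).unit.app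
      ((DerivedCategory.Q.obj (kosFree O V a))⟦n⟧)) := by
  let f := ringMor φ
  let adjD := DerivedAdj.derived f.adj _ f.push.mapDerivedCategoryFactorsh.inv
  let S : CochainComplex (ModSite.Mod O) ℤ := (kosFree O V a)⟦n⟧
  let u : S ⟶ ((f.pull ⋙ f.push).mapHomologicalComplex (ComplexShape.up ℤ)).obj S :=
    { f := fun i => f.adj.unit.app (S.X i), comm' := fun i j _ => (f.adj.unit.naturality _).symm }
  have hu : ∀ j, IsIso (HomologicalComplex.homologyMap u j) := fun j => by
    obtain ⟨M, k, hk, ⟨e⟩⟩ := exists_homology_kosFree V a (n + j)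
    have h1 := isIso_unit_extZero hq V a ha M k hk
    let eh : (ModSite.extZero O V).obj M ≅ S.homology j := e ≪≫
      (((HomologicalComplex.homologyFunctor (ModSite.Mod O) (ComplexShape.up ℤ) 0).shiftIso n j (n + j) rfl).app
        (kosFree O V a)).symm
    have h2 : IsIso (f.adj.unit.app (S.sc j).homology) := (NatTrans.isIso_app_iff_of_iso f.adj.unit eh).1 h1
    change IsIso (ShortComplex.homologyMap ((S.sc j).mapNatTrans f.adj.unit))
    rw [ShortComplex.homologyMap_mapNatTrans]
    infer_instance
  have hq' : IsIso (DerivedCategory.Q.map u) := by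
    rw [DerivedCategory.isIso_Q_map_iff_quasiIso]
    exact ⟨fun j => (quasiIsoAt_iff_isIso_homologyMap u j).2 (hu j)⟩
  let X := (HomotopyCategory.quotient (ModSite.Mod O) (ComplexShape.up ℤ)).obj S
  have h3 : IsIso (DerivedCategory.Qh.map ((DerivedAdj.homotopyAdj f.adj).unit.app X)) :=
    (NatIso.isIso_map_iff (DerivedCategory.quotientCompQhIso (ModSite.Mod O)) u).2 hq'
  have h4 : IsIso (adjD.unit.app (DerivedCategory.Qh.obj X)) := by
    haveI := h3
    exact IsIso.of_isIso_fac_right ((DerivedAdj.homotopyAdj f.adj).derivedη_fac_app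
      (HomotopyCategory.quasiIso (ModSite.Mod O) (ComplexShape.up ℤ))
      f.pull.mapDerivedCategoryFactorsh.hom f.push.mapDerivedCategoryFactorsh.inv X)
  exact (NatTrans.isIso_app_iff_of_iso adjD.unit
    ((DerivedCategory.quotientCompQhIso _).app S ≪≫ (DerivedCategory.Q.commShiftIso n).app _)).1 h4

end Groth.L04.DerComp
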